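import Mathlib
import Cfsg.Agent.S1378
import Cfsg.Agent.S1404
import Cfsg.Agent.Lib.Helper02.BG1310Defs
import Cfsg.Agent.Lib.Helper12.CNMaxSub

/-!
# BG 13.10 (Lemma D), keystone 143109 (K-LD2-IIaS): `typeII_not_sigma`

In type (II), `p = |E₁| ∉ σ(H)` for every maximal subgroup `H` over `N_G(S₀)`.
-/

set_option autoImplicit false

namespace Cfsg.Agent.Lib.Helper86.BG1310

open Cfsg Cfsg.Agent.Lib.Helper55 Cfsg.Agent.Lib.Helper31.BG134 Cfsg.Agent.Lib.Helper15.BG139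
  Cfsg.Agent.Lib.Helper02.BG1310

variable {G : Type*} [Group G] [Finite G]

theorem typeII_not_sigma (hTX : HTX G) {M E E₁ E₃ S₀ H : Subgroup G}
    (d : NRS M E E₁ E₃) (hII : TypeII M E₁ E₃) (hS₀ : S₀ ≤ E₃) (hS₀c : (Nat.card S₀).Prime)
    (hH : IsCoatom H) (hNH : Subgroup.normalizer (S₀ : Set G) ≤ H) :
    Nat.card E₁ ∉ sigma H := by
  intro hpH
  have hG := d.nr.hG
  have hM := d.nr.hM
  have hp : (Nat.card E₁).Prime := hII.1
  haveI : Fact (Nat.card E₁).Prime := ⟨hp⟩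
  obtain ⟨hEH, -, hMH⟩ := d.hH S₀ H hS₀ hS₀c hH hNH
  have hE₁E : E₁ ≤ E := d.nr.hE₁.1
  have hEM : E ≤ M := d.nr.hE.1
  have hpτ1 : Nat.card E₁ ∈ tau1 M := d.nr.hE₁.2.1 _ hp dvd_rfl
  have hP1 : E₁ ≠ ⊥ := by
    intro h
    rw [h, Subgroup.card_bot] at hp
    exact Nat.not_prime_one hp
  have hPtop : E₁ ≠ ⊤ := by
    intro h
    apply hM.1
    rw [eq_top_iff, ← h]
    exact hE₁E.trans hEM
  obtain ⟨HP, hHP, hNP⟩ := Cfsg.Agent.Lib.Helper12.CNMaxSub.exists_coatom_normalizer_le hG hP1 hPtop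
  have hpHP : Nat.card E₁ ∈ sigma HP :=
    hTX M HP E₁ _ hM hHP (Or.inl hpτ1) (hE₁E.trans hEM) rfl d.hC₁ne hNP
  obtain ⟨g, hg⟩ := (Cfsg.Agent.S1378.result hG).2 H HP hH hHP ⟨_, hpH, hpHP⟩
  have hPH : E₁ ≤ H := hE₁E.trans hEH
  have hPN : E₁ ≤ Subgroup.normalizer (E₁ : Set G) := Subgroup.le_normalizer
  have hPHP : E₁ ≤ HP := hPN.trans hNP
  -- `cj g⁻¹ E₁ ≤ H`
  have hconj : E₁.map (MulAut.conj g⁻¹).toMonoidHom ≤ H := by
    rintro _ ⟨x, hx, rfl⟩
    have hx' : x ∈ H.map (MulAut.conj g).toMonoidHom := by rw [← hg]; exact hPHP hx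
    obtain ⟨h, hh, hhx⟩ := hx'
    have : (MulAut.conj g⁻¹).toMonoidHom x = h := by
      rw [← hhx]
      simp [MulAut.conj_apply, mul_assoc]
    rw [this]
    exact hh
  have hPp : IsPGroup (Nat.card E₁) E₁ := IsPGroup.of_card (n := 1) (by rw [pow_one])
  obtain ⟨h, hh, c, hc, hgc⟩ :=
    (Cfsg.Agent.S1404.result hG H hH _ hpH E₁ hPp hP1 hPH).1 g⁻¹ hconj
  -- `c ∈ HP`
  have hcN : c ∈ Subgroup.normalizer (E₁ : Set G) := by
    rw [Subgroup.mem_normalizer_iff]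
    intro x
    have hcomm : ∀ y ∈ E₁, y * c = c * y := fun y hy => Subgroup.mem_centralizer_iff.mp hc y hy
    constructor
    · intro hx
      have : c * x * c⁻¹ = x := by rw [← hcomm x hx, mul_inv_cancel_right]
      rw [this]; exact hx
    · intro hx
      have h1 := hcomm _ hx
      have : x = c * x * c⁻¹ := by
        have h2 : c * x * c⁻¹ * c = c * (c * x * c⁻¹) := h1
        have h3 : c * x = c * (c * x * c⁻¹) := by simpa [mul_assoc] using h2
        exact mul_left_cancel h3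
      rw [this]; exact hx
  have hcHP : c ∈ HP := hNP hcN
  -- `H ≤ HP`
  have hgeq : g = c⁻¹ * h⁻¹ := by
    have := congrArg (fun t => t⁻¹) hgc
    simpa [mul_inv_rev] using this
  have hHle : H ≤ HP := by
    intro y hy
    have h1 : c⁻¹ * y * c ∈ HP := by
      rw [hg]
      refine ⟨h * y * h⁻¹, H.mul_mem (H.mul_mem hh hy) (H.inv_mem hh), ?_⟩
      simp only [MulEquiv.coe_toMonoidHom, MulAut.conj_apply, hgeq]
      group
    have h2 : c * (c⁻¹ * y * c) * c⁻¹ ∈ HP := HP.mul_mem (HP.mul_mem hcHP h1) (HP.inv_mem hcHP)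
    have h3 : c * (c⁻¹ * y * c) * c⁻¹ = y := by group
    rwa [h3] at h2
  have hHeq : H = HP := by
    by_contra hne
    exact hHP.1 (hH.2 HP (lt_of_le_of_ne hHle hne))
  -- `C₁ ≤ C₃`
  apply hII.2.2.1
  rw [← hMH]
  unfold CP
  apply inf_le_inf_left
  intro x hx
  rw [hHeq]
  apply hNP
  rw [Subgroup.mem_normalizer_iff]
  intro y
  have hcomm : ∀ z ∈ E₁, z * x = x * z := fun z hz => Subgroup.mem_centralizer_iff.mp hx z hz
  constructor
  · intro hy
    have : x * y * x⁻¹ = y := by rw [← hcomm y hy, mul_inv_cancel_right]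
    rw [this]; exact hy
  · intro hy
    have h1 := hcomm _ hy
    have : y = x * y * x⁻¹ := by
      have h2 : x * y * x⁻¹ * x = x * (x * y * x⁻¹) := h1
      have h3 : x * y = x * (x * y * x⁻¹) := by simpa [mul_assoc] using h2
      exact mul_left_cancel h3
    rw [this]; exact hy

end Cfsg.Agent.Lib.Helper86.BG1310
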