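import Mathlib
import Cfsg.Agent.Lib.Helper15.BG142Defs2
import Cfsg.Agent.Lib.Helper31.BG12a

/-!
# BG 14.2 (S1430/S1431), keystone 143027 (K-D1): `compl_eq_of_hall_kappa`
-/

set_option autoImplicit false

namespace Cfsg.Agent.Lib.Helper86.BG142

open Cfsg Cfsg.Agent.Lib.Helper55 Cfsg.Agent.Lib.Helper31.BG134 Cfsg.Agent.Lib.Helper15.BG139
  Cfsg.Agent.Lib.Helper15.BG142

variable {G : Type*} [Group G] [Finite G]

theorem compl_eq_of_hall_kappa {M E K : Subgroup G} (hEM : E ≤ M) (hKE : K ≤ E)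
    (hK : IsPiHallOf (kappa M) K M)
    (hEκ : ∀ p : ℕ, p.Prime → p ∣ Nat.card E → p ∈ kappa M) : K = E := by
  apply le_antisymm hKE
  rw [← Subgroup.relIndex_eq_one]
  by_contra hne
  obtain ⟨r, hr, hrd⟩ := Nat.exists_prime_and_dvd hne
  have h1 : K.relIndex E ∣ Nat.card E := Subgroup.relIndex_dvd_card K E
  have hrκ : r ∈ kappa M := hEκ r hr (dvd_trans hrd h1)
  have h2 : K.relIndex E ∣ K.relIndex M :=
    Dvd.intro _ (Subgroup.relIndex_mul_relIndex K E M hKE hEM)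
  exact hK.2.2 r hr hrκ (dvd_trans hrd h2)

end Cfsg.Agent.Lib.Helper86.BG142
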