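import Mathlib
import Cfsg.Prelude.Def_Local
import Cfsg.Agent.Lib.Helper12.LBDefs
import Cfsg.Agent.Lib.Helper29.LBalance

set_option autoImplicit false
set_option linter.style.haveILetI false
universe u

/-!
# K-S1301-LB-BR (architect helper12): the induction hypothesis inside a proper subgroup
-/

namespace Cfsg.Agent.Lib.Helper86.LB

open Cfsg Cfsg.Agent.Lib.Helper12.LB

variable {G : Type u} [Group G] [Finite G]

/-- a `2`-component `J` of a subgroup `H` gives `QC H (J.map subtype)` (local copy of LB-PC) -/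
theorem qc_of_pcomp_aux (H : Subgroup G) (J : Subgroup ↥H) (hJ : IsPComponent 2 J) :
    QC H (J.map H.subtype) := by
  haveI : Fact (Nat.Prime 2) := ⟨Nat.prime_two⟩
  have hsub : (J.map H.subtype).subgroupOf H = J := by
    rw [Subgroup.subgroupOf]
    exact Subgroup.comap_map_eq_self_of_injective H.subtype_injective J
  refine ⟨⟨Subgroup.map_subtype_le _, ?_⟩, ?_, ?_⟩
  · unfold img
    rw [hsub]
    exact hJ.2.1
  · rw [← Subgroup.map_commutator, Cfsg.Agent.Lib.Helper29.pcomp_perfect 2 J hJ]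
  · exact Cfsg.Agent.Lib.Helper29.noCoprimeIndexNormal_of_mulEquiv 2
      (Subgroup.equivMapOfInjective J H.subtype H.subtype_injective).symm
      (Cfsg.Agent.Lib.Helper29.pcomp_noCoprimeIndexNormal 2 J hJ)

/-- K-S1301-LB-BR. -/
theorem bridge (hIH : LBBelow G) (H : Subgroup G) (hH : H ≠ ⊤) (P : Subgroup G)
    (hP : IsPGroup 2 P) (hPH : P ≤ H) (Q₃ : Subgroup G)
    (hQ₃ : CompLike (Subgroup.normalizer (P : Set G) ⊓ H) Q₃) :
    Q₃ ≤ (pLayer 2 ↥H).map H.subtype ⊔ OG (Subgroup.normalizer (P : Set G) ⊓ H) := by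
  haveI : Fact (Nat.Prime 2) := ⟨Nat.prime_two⟩
  set U : Subgroup G := Subgroup.normalizer (P : Set G) ⊓ H with hU
  have hUH : U ≤ H := inf_le_right
  -- the 2-component `J` of `U` over the image of `Q₃`
  obtain ⟨J, hJ, hJimg⟩ := Cfsg.Agent.Lib.Helper29.exists_pcomp_of_component 2 (img U Q₃) hQ₃.2
  have h1 : Q₃.subgroupOf U ≤ J ⊔ pPrimeCore 2 ↥U := by
    apply Cfsg.Agent.Lib.Helper29.le_sup_core_of_map_le 2
    rw [hJimg]
    exact le_rfl
  have h2 : Q₃ ≤ J.map U.subtype ⊔ OG U := by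
    have h3 : (Q₃.subgroupOf U).map U.subtype ≤ (J ⊔ pPrimeCore 2 ↥U).map U.subtype :=
      Subgroup.map_mono h1
    rw [Subgroup.map_subgroupOf_eq_of_le hQ₃.1, Subgroup.map_sup] at h3
    exact h3
  refine h2.trans (sup_le_sup_right ?_ _)
  -- `J.map U.subtype ≤ L_{2'}(H)` by the induction hypothesis in `H`
  have hcard : Nat.card ↥H < Nat.card G := by
    refine lt_of_le_of_ne (Subgroup.card_le_card_group H) ?_
    intro h
    exact hH (Subgroup.eq_top_of_card_eq H h)
  have hLB : LBStmt ↥H := hIH ↥H hcard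
  set P' : Subgroup ↥H := P.subgroupOf H with hP'
  have hP'2 : IsPGroup 2 P' := hP.comap_subtype
  have hN' : Subgroup.normalizer ((P' : Subgroup ↥H) : Set ↥H) = U.subgroupOf H := by
    rw [hP', ← Subgroup.subgroupOf_normalizer_eq hPH, hU, Subgroup.inf_subgroupOf_right]
  -- transport `J` to `↥(U.subgroupOf H)`
  let φ : ↥U ≃* ↥(U.subgroupOf H) := (Subgroup.subgroupOfEquivOfLe hUH).symm
  have hJ'' : IsPComponent 2 (J.map φ.toMonoidHom) :=
    Cfsg.Agent.Lib.Helper30.isPComponent_map_equiv 2 φ hJ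
  have hqc := qc_of_pcomp_aux (G := ↥H) (U.subgroupOf H) (J.map φ.toMonoidHom) hJ''
  have hmap : (J.map φ.toMonoidHom).map (U.subgroupOf H).subtype =
      J.map (Subgroup.inclusion hUH) := by
    rw [Subgroup.map_map]
    rfl
  rw [hmap] at hqc
  have hle : J.map (Subgroup.inclusion hUH) ≤ pLayer 2 ↥H := by
    apply hLB P' (J.map (Subgroup.inclusion hUH)) hP'2
    rw [hN']
    exact hqc
  have h4 : (J.map (Subgroup.inclusion hUH)).map H.subtype ≤ (pLayer 2 ↥H).map H.subtype :=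
    Subgroup.map_mono hle
  rw [Subgroup.map_map] at h4
  exact h4

end Cfsg.Agent.Lib.Helper86.LB
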