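import Mathlib

set_option autoImplicit false

namespace Cfsg.Agent.Lib.Helper86.NF

private lemma sq_sub_one_eq (s : ℕ) (hs : 1 ≤ s) : s ^ 2 - 1 = (s - 1) * (s + 1) := by
  obtain ⟨k, rfl⟩ : ∃ k, s = k + 1 := ⟨s - 1, by omega⟩
  simp only [Nat.add_sub_cancel]
  have : (k + 1) ^ 2 = k * (k + 1 + 1) + 1 := by ring
  rw [this]; simp

private lemma cube_sub_one_eq (s : ℕ) (hs : 1 ≤ s) : s ^ 3 - 1 = (s - 1) * (s ^ 2 + s + 1) := by
  obtain ⟨k, rfl⟩ : ∃ k, s = k + 1 := ⟨s - 1, by omega⟩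
  simp only [Nat.add_sub_cancel]
  have : (k + 1) ^ 3 = k * ((k + 1) ^ 2 + (k + 1) + 1) + 1 := by ring
  rw [this]; simp

/-- K-S0688-7a. -/
theorem numerics_cyclic (p d e : ℕ) (hp : p.Prime) (hd : 0 < d) (he : 2 ≤ e) :
    ¬ (p ^ (d * e) - 1 ∣ d * (p ^ d - 1)) := by
  intro h
  have hp2 := hp.two_le
  obtain ⟨s, hs⟩ : ∃ s, s = p ^ d := ⟨_, rfl⟩
  have hsd : d < s := hs ▸ lt_of_lt_of_le (Nat.lt_two_pow_self) (Nat.pow_le_pow_left hp2 d)
  rw [← hs] at h
  have hs1 : 1 ≤ s - 1 := by omega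
  have hpos : 0 < d * (s - 1) := Nat.mul_pos hd (by omega)
  have hle := Nat.le_of_dvd hpos h
  have hpow : p ^ (d * e) = s ^ e := by rw [hs, pow_mul]
  rw [hpow] at hle
  have h2 : s ^ 2 ≤ s ^ e := Nat.pow_le_pow_right (by omega) he
  have h3 : s ^ 2 - 1 ≤ d * (s - 1) := le_trans (Nat.sub_le_sub_right h2 1) hle
  rw [sq_sub_one_eq s (by omega)] at h3
  have h4 : (s - 1) * (s + 1) ≤ (s - 1) * d := by rw [Nat.mul_comm (s - 1) d]; exact h3
  have h5 := Nat.le_of_mul_le_mul_left h4 (by omega : 0 < s - 1)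
  omega

private lemma four_mul_lt_three_pow (d : ℕ) (hd : 2 ≤ d) : 4 * d + 1 ≤ 3 ^ d := by
  induction d, hd using Nat.le_induction with
  | base => norm_num
  | succ n hn ih => rw [pow_succ]; omega

/-- K-S0688-7b. -/
theorem numerics_main (p d e : ℕ) (hp : p.Prime) (hp2 : p ≠ 2) (hd : 0 < d) (he : 2 ≤ e)
    (h : p ^ (d * e) - 1 ∣ 24 * d * (p ^ d - 1)) :
    d = 1 ∧ e = 2 ∧ (p = 3 ∨ p = 5 ∨ p = 7 ∨ p = 11 ∨ p = 23) := by
  have hp3 : 3 ≤ p := by have := hp.two_le; omega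
  obtain ⟨s, hs⟩ : ∃ s, s = p ^ d := ⟨_, rfl⟩
  have h3d : 3 ^ d ≤ s := hs ▸ Nat.pow_le_pow_left hp3 d
  have hps : p ≤ s := by
    rw [hs]
    calc p = p ^ 1 := (pow_one p).symm
      _ ≤ p ^ d := Nat.pow_le_pow_right (by omega) hd
  rw [← hs] at h
  have hs3 : 3 ≤ s := le_trans hp3 hps
  have hpow : p ^ (d * e) = s ^ e := by rw [hs, pow_mul]
  rw [hpow] at h
  have hpos : 0 < 24 * d * (s - 1) := Nat.mul_pos (by omega) (by omega)
  have hle := Nat.le_of_dvd hpos h
  rcases Nat.lt_or_ge e 3 with he3 | he3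
  · -- e = 2
    have he2 : e = 2 := by omega
    subst he2
    rw [sq_sub_one_eq s (by omega)] at h
    have h' : (s - 1) * (s + 1) ∣ (s - 1) * (24 * d) := by
      rw [Nat.mul_comm (s - 1) (24 * d)]; exact h
    have hdvd : s + 1 ∣ 24 * d := Nat.dvd_of_mul_dvd_mul_left (by omega) h'
    have hle2 : s + 1 ≤ 24 * d := Nat.le_of_dvd (by omega) hdvd
    -- bound d
    have hd4 : d ≤ 4 := by
      by_contra hcon
      push Not at hcon
      have h5 : 3 ^ 5 * 3 ^ (d - 5) = 3 ^ d := by rw [← pow_add]; congr 1; omega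
      have h6 : (d - 5) < 3 ^ (d - 5) := lt_of_lt_of_le Nat.lt_two_pow_self (Nat.pow_le_pow_left (by omega) _)
      have h7 : 243 * (d - 5 + 1) ≤ 3 ^ d := by
        rw [← h5]; norm_num; omega
      omega
    have hp24 : p ≤ 24 * d := by omega
    interval_cases d
    · -- d = 1
      simp only [pow_one] at hs
      subst hs
      refine ⟨rfl, rfl, ?_⟩
      have hp23 : s ≤ 23 := by omega
      interval_cases s <;> simp_all <;> omega
    · -- d = 2
      exfalso
      have hp6 : p ≤ 6 := by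
        by_contra hcon; push Not at hcon
        have : 7 ^ 2 ≤ p ^ 2 := Nat.pow_le_pow_left hcon 2
        omega
      interval_cases p <;> simp_all <;> omega
    · -- d = 3
      exfalso
      have hp4 : p ≤ 4 := by
        by_contra hcon; push Not at hcon
        have : 5 ^ 3 ≤ p ^ 3 := Nat.pow_le_pow_left hcon 3
        omega
      interval_cases p <;> simp_all <;> omega
    · -- d = 4
      exfalso
      have hp4 : p ≤ 3 := by
        by_contra hcon; push Not at hcon
        have : 4 ^ 4 ≤ p ^ 4 := Nat.pow_le_pow_left hcon 4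
        omega
      interval_cases p <;> simp_all <;> omega
  · -- e ≥ 3
    exfalso
    have h2 : s ^ 3 ≤ s ^ e := Nat.pow_le_pow_right (by omega) he3
    have h3 : s ^ 3 - 1 ≤ 24 * d * (s - 1) := le_trans (Nat.sub_le_sub_right h2 1) hle
    rw [cube_sub_one_eq s (by omega)] at h3
    have h4 : (s - 1) * (s ^ 2 + s + 1) ≤ (s - 1) * (24 * d) := by
      rw [Nat.mul_comm (s - 1) (24 * d)]; exact h3
    have h5 := Nat.le_of_mul_le_mul_left h4 (by omega : 0 < s - 1)
    -- d = 1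
    have hd1 : d = 1 := by
      by_contra hcon
      have hd2 : 2 ≤ d := by omega
      have h6 := four_mul_lt_three_pow d hd2
      have h7 : 4 * d + 1 ≤ s := le_trans h6 h3d
      have h8 : (4 * d + 1) ^ 2 ≤ s ^ 2 := Nat.pow_le_pow_left h7 2
      nlinarith
    subst hd1
    simp only [pow_one] at hs
    subst hs
    have hs4 : s ≤ 4 := by
      by_contra hcon; push Not at hcon
      have : 5 ^ 2 ≤ s ^ 2 := Nat.pow_le_pow_left hcon 2
      omega
    have hs3' : s = 3 := by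
      interval_cases s
      · rfl
      · exfalso; exact absurd hp (by decide)
    subst hs3'
    -- 3^e - 1 ≤ 48
    have he4 : e ≤ 3 := by
      by_contra hcon; push Not at hcon
      have : 3 ^ 4 ≤ 3 ^ e := Nat.pow_le_pow_right (by omega) hcon
      omega
    have he3' : e = 3 := by omega
    subst he3'
    norm_num at h

end Cfsg.Agent.Lib.Helper86.NF
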