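import Mathlib
import Cfsg.Agent.Lib.Helper78.SL23Section

set_option autoImplicit false

namespace Cfsg.Agent.Lib.Helper86.NF

open Cfsg.Agent.Lib.Helper78

section Calc

variable {H : Type*} [Group H]

private lemma inv_eq_mul_z {z u : H} (hz2 : z * z = 1) (hu : u * u = z) : u⁻¹ = u * z := by
  rw [inv_eq_iff_mul_eq_one, ← mul_assoc, hu, hz2]

private lemma conj_eq_inv_of_sq {z u v : H} (hu : u * u = z) (hv : v * v = z)
    (huv : u * v * (u * v) = z) : v * u * v⁻¹ = u⁻¹ := by
  have h1 : u * v * u = v := by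
    have : u * v * u * v = v * v := by rw [hv, ← huv]; group
    exact mul_right_cancel this
  have h2 : v * u = u⁻¹ * v := by
    rw [eq_inv_mul_iff_mul_eq, ← mul_assoc]; exact h1
  rw [h2]; group

end Calc

section Main

variable {H : Type*} [Group H] [Finite H]

/-- K-S3361-T. -/
theorem exists_btTriple (Q A : Subgroup H) (hQn : Q.Normal) (hQ8 : Nat.card Q = 8)
    (hQna : ∃ u ∈ Q, ∃ v ∈ Q, u * v ≠ v * u)
    (hinv : ∀ u v : H, u * u = 1 → u ≠ 1 → v * v = 1 → v ≠ 1 → u = v)
    (hCQ : Subgroup.centralizer (Q : Set H) = A) (h3 : ¬ 3 ∣ Nat.card A)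
    (w : H) (hw : orderOf w = 3) : ∃ i j : H, BTTriple i j w := by
  classical
  haveI : Fact (Nat.Prime 2) := ⟨Nat.prime_two⟩
  -- the involution z
  obtain ⟨q, hq⟩ := exists_prime_orderOf_dvd_card' (G := Q) 2 (by rw [hQ8]; norm_num)
  obtain ⟨z, hzdef⟩ : ∃ z : H, z = (q : H) := ⟨_, rfl⟩
  have hzQ : z ∈ Q := hzdef ▸ q.2
  have hzo : orderOf z = 2 := by rw [hzdef, Subgroup.orderOf_coe]; exact hq
  have hz2 : z * z = 1 := by rw [← pow_two, ← hzo]; exact pow_orderOf_eq_one z
  have hz1 : z ≠ 1 := by intro h; rw [h, orderOf_one] at hzo; omega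
  have hzc : ∀ x : H, z * x = x * z := by
    intro x
    have h1 : (x * z * x⁻¹) * (x * z * x⁻¹) = 1 := by
      calc (x * z * x⁻¹) * (x * z * x⁻¹) = x * (z * z) * x⁻¹ := by group
        _ = 1 := by rw [hz2]; group
    have h2 : x * z * x⁻¹ ≠ 1 := by
      intro h; apply hz1
      have : z = x⁻¹ * (x * z * x⁻¹) * x := by group
      rw [this, h]; group
    have h3' := hinv _ _ h1 h2 hz2 hz1
    calc z * x = (x * z * x⁻¹) * x := by rw [h3']
      _ = x * z := by group
  have hw3 : w * w * w = 1 := by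
    have : w ^ 3 = 1 := by rw [← hw]; exact pow_orderOf_eq_one w
    rw [pow_succ, pow_succ, pow_one] at this; exact this
  -- fourth powers
  have hpow4 : ∀ u ∈ Q, u ^ 4 = 1 := by
    intro u hu
    have hdvd : orderOf u ∣ 8 := by
      have := orderOf_dvd_natCard (⟨u, hu⟩ : Q)
      rw [hQ8, Subgroup.orderOf_mk] at this; exact this
    have h8 : orderOf u ≠ 8 := by
      intro h
      have hcyc : IsCyclic Q :=
        isCyclic_of_orderOf_eq_card (⟨u, hu⟩ : Q) (by rw [Subgroup.orderOf_mk, h, hQ8])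
      obtain ⟨g, hg⟩ := hcyc.exists_generator
      obtain ⟨a, ha, b, hb, hab⟩ := hQna
      obtain ⟨m, hm⟩ := Subgroup.mem_zpowers_iff.mp (hg ⟨a, ha⟩)
      obtain ⟨n, hn⟩ := Subgroup.mem_zpowers_iff.mp (hg ⟨b, hb⟩)
      apply hab
      have : (⟨a, ha⟩ : Q) * ⟨b, hb⟩ = ⟨b, hb⟩ * ⟨a, ha⟩ := by
        rw [← hm, ← hn, ← zpow_add, ← zpow_add, add_comm]
      exact congrArg Subtype.val this
    obtain ⟨k, hk, hk'⟩ := (Nat.dvd_prime_pow Nat.prime_two (m := 3)).mp (by simpa using hdvd)
    have hk2 : k ≤ 2 := by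
      rcases Nat.lt_or_ge k 3 with h | h
      · omega
      · exfalso; apply h8; have : k = 3 := by omega
        rw [hk', this]; norm_num
    have : orderOf u ∣ 4 := by
      rw [hk']; exact (pow_dvd_pow 2 hk2 : 2 ^ k ∣ 2 ^ 2)
    exact orderOf_dvd_iff_pow_eq_one.mp this
  -- squares
  have hsq : ∀ u ∈ Q, u ≠ 1 → u ≠ z → u * u = z := by
    intro u hu hu1 huz
    have h4 : (u * u) * (u * u) = 1 := by
      have := hpow4 u hu
      rw [pow_succ, pow_succ, pow_succ, pow_one] at this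
      rw [← this]; simp only [mul_assoc]
    have hne : u * u ≠ 1 := by
      intro h; exact huz (hinv u z h hu1 hz2 hz1)
    exact hinv _ _ h4 hne hz2 hz1
  -- anticommutation
  have hanti : ∀ u v : H, u ∈ Q → u ≠ 1 → u ≠ z → v ∈ Q → v ≠ 1 → v ≠ z → v ≠ u → v ≠ u⁻¹ →
      v * u * v⁻¹ = u⁻¹ := by
    intro u v hu hu1 huz hv hv1 hvz hvu hvui
    have huu := hsq u hu hu1 huz
    have hvv := hsq v hv hv1 hvz
    have huvQ : u * v ∈ Q := Q.mul_mem hu hv
    have huv1 : u * v ≠ 1 := by
      intro h; apply hvui; exact (inv_eq_of_mul_eq_one_right h).symm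
    have huvz : u * v ≠ z := by
      intro h; apply hvu
      rw [← huu] at h; exact mul_left_cancel h
    exact conj_eq_inv_of_sq huu hvv (hsq _ huvQ huv1 huvz)
  have hne_inv : ∀ u ∈ Q, u ≠ 1 → u ≠ z → u ≠ u⁻¹ := by
    intro u hu hu1 huz h
    have huu := hsq u hu hu1 huz
    apply hz1
    rw [← huu]
    calc u * u = u * u⁻¹ := by rw [← h]
      _ = 1 := mul_inv_cancel u
  -- conjugation by w
  have hcQ : ∀ x ∈ Q, w * x * w⁻¹ ∈ Q := fun x hx => hQn.conj_mem x hx w
  have hc1 : ∀ x : H, w * x * w⁻¹ = 1 → x = 1 := by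
    intro x h
    have : x = w⁻¹ * (w * x * w⁻¹) * w := by group
    rw [this, h]; group
  have hcz : w * z * w⁻¹ = z := by
    rw [← hzc w]; group
  have hczz : ∀ x : H, w * x * w⁻¹ = z → x = z := by
    intro x h
    have : x = w⁻¹ * (w * x * w⁻¹) * w := by group
    rw [this, h, ← hzc]; group
  have hc3 : ∀ x : H, w * (w * (w * x * w⁻¹) * w⁻¹) * w⁻¹ = x := by
    intro x
    calc w * (w * (w * x * w⁻¹) * w⁻¹) * w⁻¹ = (w * w * w) * x * (w * w * w)⁻¹ := by group
      _ = x := by rw [hw3]; group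
  have hcinv : ∀ x : H, w * x⁻¹ * w⁻¹ = (w * x * w⁻¹)⁻¹ := by intro x; group
  have hcmul : ∀ x y : H, w * (x * y) * w⁻¹ = (w * x * w⁻¹) * (w * y * w⁻¹) := by intro x y; group
  -- key lemma: w moves every s in S outside {s, s⁻¹}
  have hmove : ∀ s ∈ Q, s ≠ 1 → s ≠ z → w * s * w⁻¹ ≠ s ∧ w * s * w⁻¹ ≠ s⁻¹ := by
    intro s hs hs1 hsz
    have hss := hsq s hs hs1 hsz
    constructor
    · intro hfix
      -- t in S, not in {s, s⁻¹}
      have hfixi : w * s⁻¹ * w⁻¹ = s⁻¹ := by rw [hcinv, hfix]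
      obtain ⟨t, htQ, ht1, htz, hts, htsi⟩ : ∃ t ∈ Q, t ≠ 1 ∧ t ≠ z ∧ t ≠ s ∧ t ≠ s⁻¹ := by
        obtain ⟨a, ha, b, hb, hab⟩ := hQna
        have ha1 : a ≠ 1 := by rintro rfl; simp at hab
        have hb1 : b ≠ 1 := by rintro rfl; simp at hab
        have haz : a ≠ z := by rintro rfl; exact hab (hzc b)
        have hbz : b ≠ z := by rintro rfl; exact hab (hzc a).symm
        by_cases hsa : s = a ∨ s = a⁻¹
        · refine ⟨b, hb, hb1, hbz, ?_, ?_⟩
          · rintro rfl
            rcases hsa with h | h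
            · exact hab (by rw [h])
            · apply hab; rw [h]; group
          · intro h
            rcases hsa with h' | h'
            · apply hab; rw [h, h']; group
            · apply hab; rw [h, h']; group
        · push Not at hsa
          refine ⟨a, ha, ha1, haz, fun h => hsa.1 h.symm, fun h => hsa.2 ?_⟩
          rw [h]; group
      -- w centralizes Q
      have hwQ : w ∈ Subgroup.centralizer (Q : Set H) := by
        rw [Subgroup.mem_centralizer_iff]
        intro x hx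
        have hx' : x ∈ Q := hx
        -- suffices conj fixes x
        suffices hfx : w * x * w⁻¹ = x by
          calc x * w = (w * x * w⁻¹) * w := by rw [hfx]
            _ = w * x := by group
        by_cases hx1 : x = 1
        · subst hx1; group
        by_cases hxz : x = z
        · subst hxz; exact hcz
        by_cases hxs : x = s
        · subst hxs; exact hfix
        by_cases hxsi : x = s⁻¹
        · subst hxsi; exact hfixi
        -- x inverts s, so does its conjugate
        have hinvx : x * s * x⁻¹ = s⁻¹ := hanti s x hs hs1 hsz hx' hx1 hxz hxs hxsi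
        have hcx : w * x * w⁻¹ ∈ Q := hcQ x hx'
        have hcx1 : w * x * w⁻¹ ≠ 1 := fun h => hx1 (hc1 x h)
        have hcxz : w * x * w⁻¹ ≠ z := fun h => hxz (hczz x h)
        have hcxs : w * x * w⁻¹ ≠ s := by
          intro h
          apply hxs
          have : w * x * w⁻¹ = w * s * w⁻¹ := by rw [h, hfix]
          have h2 : w * x = w * s := mul_right_cancel this
          exact mul_left_cancel h2
        have hcxsi : w * x * w⁻¹ ≠ s⁻¹ := by
          intro h
          apply hxsi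
          have : w * x * w⁻¹ = w * s⁻¹ * w⁻¹ := by rw [h, hfixi]
          have h2 : w * x = w * s⁻¹ := mul_right_cancel this
          exact mul_left_cancel h2
        have hinvcx : (w * x * w⁻¹) * s * (w * x * w⁻¹)⁻¹ = s⁻¹ :=
          hanti s _ hs hs1 hsz hcx hcx1 hcxz hcxs hcxsi
        -- e := x⁻¹ * c x commutes with s
        obtain ⟨e, hedef⟩ : ∃ e : H, e = x⁻¹ * (w * x * w⁻¹) := ⟨_, rfl⟩
        have heQ : e ∈ Q := hedef ▸ Q.mul_mem (Q.inv_mem hx') hcx
        have hes : e * s * e⁻¹ = s := by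
          have h1 : x⁻¹ * s⁻¹ * x = s := by
            have : s⁻¹ = x * s * x⁻¹ := hinvx.symm
            rw [this]; group
          calc e * s * e⁻¹ = x⁻¹ * ((w * x * w⁻¹) * s * (w * x * w⁻¹)⁻¹) * x := by
                rw [hedef]; group
            _ = x⁻¹ * s⁻¹ * x := by rw [hinvcx]
            _ = s := h1
        -- so e ∈ {1, z, s, s⁻¹}, hence fixed by conj w
        have hefix : w * e * w⁻¹ = e := by
          by_cases he1 : e = 1
          · rw [he1]; group
          by_cases hez : e = z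
          · rw [hez]; exact hcz
          by_cases hes' : e = s
          · rw [hes']; exact hfix
          by_cases hesi : e = s⁻¹
          · rw [hesi]; exact hfixi
          exfalso
          have := hanti s e hs hs1 hsz heQ he1 hez hes' hesi
          rw [hes] at this
          exact hne_inv s hs hs1 hsz this
        -- c x = x * e
        have hcxe : w * x * w⁻¹ = x * e := by rw [hedef]; group
        have he3 : e * e * e = 1 := by
          have h2 : w * (x * e) * w⁻¹ = x * e * e := by rw [hcmul, hcxe, hefix]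
          have h3' : w * (x * e * e) * w⁻¹ = x * e * e * e := by rw [hcmul, h2, hefix]
          have h1 := hc3 x
          rw [hcxe, h2, h3'] at h1
          have : x * (e * e * e) = x * 1 := by
            rw [mul_one]
            calc x * (e * e * e) = x * e * e * e := by simp only [mul_assoc]
              _ = x := h1
          exact mul_left_cancel this
        have he4 : e ^ 4 = 1 := hpow4 e heQ
        have he1 : e = 1 := by
          rw [pow_succ, pow_succ, pow_succ, pow_one, he3, one_mul] at he4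
          exact he4
        rw [hcxe, he1, mul_one]
      rw [hCQ] at hwQ
      apply h3
      have := orderOf_dvd_natCard (⟨w, hwQ⟩ : A)
      rwa [Subgroup.orderOf_mk, hw] at this
    · intro hfl
      -- c(c(c s)) = s but also = s⁻¹
      have h1 := hc3 s
      rw [hfl, hcinv, hfl, inv_inv, hfl] at h1
      exact hne_inv s hs hs1 hsz h1.symm
  -- choose i
  obtain ⟨i, hiQ, v0, hv0Q, hiv0⟩ := hQna
  have hi1 : i ≠ 1 := by rintro rfl; simp at hiv0
  have hiz : i ≠ z := by rintro rfl; exact hiv0 (hzc v0)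
  have hii := hsq i hiQ hi1 hiz
  obtain ⟨j, hjdef⟩ : ∃ j : H, j = w * i * w⁻¹ := ⟨_, rfl⟩
  have hjQ : j ∈ Q := hjdef ▸ hcQ i hiQ
  have hj1 : j ≠ 1 := by rw [hjdef]; exact fun h => hi1 (hc1 i h)
  have hjz : j ≠ z := by rw [hjdef]; exact fun h => hiz (hczz i h)
  have hjj := hsq j hjQ hj1 hjz
  obtain ⟨hji, hjii⟩ := hmove i hiQ hi1 hiz
  rw [← hjdef] at hji hjii
  have hjinv : j * i * j⁻¹ = i⁻¹ := hanti i j hiQ hi1 hiz hjQ hj1 hjz hji hjii
  have hiinvj : i * j * i⁻¹ = j⁻¹ := by
    apply hanti j i hjQ hj1 hjz hiQ hi1 hiz (fun h => hji h.symm)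
    intro h; apply hjii; rw [h, inv_inv]
  obtain ⟨k, hkdef⟩ : ∃ k : H, k = w * j * w⁻¹ := ⟨_, rfl⟩
  have hkQ : k ∈ Q := hkdef ▸ hcQ j hjQ
  have hk1 : k ≠ 1 := by rw [hkdef]; exact fun h => hj1 (hc1 j h)
  have hkz : k ≠ z := by rw [hkdef]; exact fun h => hjz (hczz j h)
  obtain ⟨hkj, hkji⟩ := hmove j hjQ hj1 hjz
  rw [← hkdef] at hkj hkji
  -- k ∉ {i, i⁻¹}
  have hcki : w * k * w⁻¹ = i := by
    have := hc3 i
    rw [← hjdef, ← hkdef] at this; exact this
  have hki : k ≠ i := by
    intro h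
    -- c k = i and c i = j, so i = j
    rw [h, ← hjdef] at hcki
    exact hji hcki
  have hkii : k ≠ i⁻¹ := by
    intro h
    rw [h, hcinv, ← hjdef] at hcki
    -- j⁻¹ = i → j = i⁻¹
    apply hjii
    rw [← hcki, inv_inv]
  have hkinv : k * i * k⁻¹ = i⁻¹ := hanti i k hiQ hi1 hiz hkQ hk1 hkz hki hkii
  -- f := (i*j)⁻¹ * k commutes with i
  have hijinv : (i * j) * i * (i * j)⁻¹ = i⁻¹ := by
    calc (i * j) * i * (i * j)⁻¹ = i * (j * i * j⁻¹) * i⁻¹ := by group
      _ = i⁻¹ := by rw [hjinv]; group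
  obtain ⟨f, hfdef⟩ : ∃ f : H, f = (i * j)⁻¹ * k := ⟨_, rfl⟩
  have hfQ : f ∈ Q := hfdef ▸ Q.mul_mem (Q.inv_mem (Q.mul_mem hiQ hjQ)) hkQ
  have hfi : f * i * f⁻¹ = i := by
    have h1 : (i * j)⁻¹ * i⁻¹ * (i * j) = i := by
      have : i⁻¹ = (i * j) * i * (i * j)⁻¹ := hijinv.symm
      rw [this]; group
    calc f * i * f⁻¹ = (i * j)⁻¹ * (k * i * k⁻¹) * (i * j) := by rw [hfdef]; group
      _ = (i * j)⁻¹ * i⁻¹ * (i * j) := by rw [hkinv]
      _ = i := h1
  have hkf : k = i * j * f := by rw [hfdef]; group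
  have hiinv : i⁻¹ = i * z := inv_eq_mul_z hz2 hii
  have hjinv' : j⁻¹ = j * z := inv_eq_mul_z hz2 hjj
  have hw3' : w ^ 3 = 1 := by rw [← hw]; exact pow_orderOf_eq_one w
  have hio : orderOf i = 4 := by
    have h4 : i ^ 4 = 1 := hpow4 i hiQ
    have h2 : i ^ 2 ≠ 1 := by rw [pow_two, hii]; exact hz1
    have := orderOf_eq_prime_pow (p := 2) (n := 1) (x := i) (by simpa using h2) (by simpa using h4)
    simpa using this
  -- f ∈ {1, z, i, i⁻¹}
  have hfcases : f = 1 ∨ f = z ∨ f = i ∨ f = i⁻¹ := by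
    by_contra hcon
    push Not at hcon
    have := hanti i f hiQ hi1 hiz hfQ hcon.1 hcon.2.1 hcon.2.2.1 hcon.2.2.2
    rw [hfi] at this
    exact hne_inv i hiQ hi1 hiz this
  have hji' : j * i = i * j * z := by
    have h1 : j * i = i⁻¹ * j := by rw [← hjinv]; group
    rw [h1, hiinv, mul_assoc, hzc j, ← mul_assoc]
  have hiji : i * j * i = j := by
    calc i * j * i = i * (j * i) := by group
      _ = i * (i * j * z) := by rw [hji']
      _ = (i * i) * j * z := by group
      _ = z * j * z := by rw [hii]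
      _ = j * (z * z) := by rw [hzc j]; group
      _ = j := by rw [hz2, mul_one]
  rcases hfcases with hf | hf | hf | hf
  · -- k = i * j
    refine ⟨i, j, ⟨hio, ?_, hjinv, hjdef.symm, ?_, hw3'⟩⟩
    · rw [hjj, hii]
    · rw [← hkdef, hkf, hf, mul_one]
  · -- k = i * j * z : use i⁻¹, j⁻¹
    refine ⟨i⁻¹, j⁻¹, ⟨?_, ?_, ?_, ?_, ?_, hw3'⟩⟩
    · rw [orderOf_inv]; exact hio
    · rw [← mul_inv_rev, ← mul_inv_rev, hjj, hii]
    · rw [inv_inv, inv_inv]
      have : i⁻¹ = j * i * j⁻¹ := hjinv.symm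
      rw [this]; group
    · rw [hcinv, ← hjdef]
    · rw [hcinv, ← hkdef, hkf, hf, ← hji', mul_inv_rev]
  · exfalso
    apply hkj
    rw [hkf, hf]; exact hiji
  · exfalso
    apply hkji
    rw [hkf, hf]; exact hiinvj

end Main

end Cfsg.Agent.Lib.Helper86.NF
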