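/-
K-PMinAlt-C1 (keystone 293005, architect helper6, S2930): if the 3-cycles of `N` connect every point
to `v`, then `N` contains the alternating group.
-/
import Mathlib
import Cfsg.Agent.Lib.Helper06.PMinAlt.Defs
import Cfsg.Agent.Lib.Helper22.SylAltP1a

set_option autoImplicit false

namespace Cfsg.Agent.Lib.Helper86.PMinAlt

open Equiv Equiv.Perm
open Cfsg.Agent.Lib.Helper06.PMinAlt

variable {α : Type*} [Fintype α] [DecidableEq α]

/-- **K-PMinAlt-C1.** -/
theorem alternatingGroup_le_of_threeCycle_connected (N : Subgroup (Perm α)) (v : α)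
    (h : ∀ x, Relation.ReflTransGen (fun a b => ∃ t ∈ N, t.IsThreeCycle ∧ t a = b) v x) :
    alternatingGroup α ≤ N := by
  classical
  set T : Set (Perm α) := {t | t ∈ N ∧ t.IsThreeCycle} with hT
  have hTN : Subgroup.closure T ≤ N := by
    rw [Subgroup.closure_le]
    intro t ht
    exact ht.1
  have hreach : ∀ x, ∃ g ∈ Subgroup.closure T, g v = x := by
    intro x
    induction h x with
    | refl => exact ⟨1, Subgroup.one_mem _, rfl⟩
    | tail _ hab ih =>
      obtain ⟨g, hg, hgv⟩ := ih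
      obtain ⟨t, htN, ht3, hta⟩ := hab
      refine ⟨t * g, Subgroup.mul_mem _ (Subgroup.subset_closure ⟨htN, ht3⟩) hg, ?_⟩
      rw [Perm.mul_apply, hgv, hta]
  have htr : MulAction.IsPretransitive ↥(Subgroup.closure T) α := by
    refine ⟨fun x y => ?_⟩
    obtain ⟨gx, hgx, hx⟩ := hreach x
    obtain ⟨gy, hgy, hy⟩ := hreach y
    refine ⟨⟨gy * gx⁻¹, Subgroup.mul_mem _ hgy (Subgroup.inv_mem _ hgx)⟩, ?_⟩
    change (gy * gx⁻¹) x = y
    rw [Perm.mul_apply, ← hx]; simp [hy]
  exact (Cfsg.Agent.Lib.Helper22.SylAlt.alternatingGroup_le_of_transitive_of_closure_threeCycle T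
    (fun t ht => ht.2) htr).trans hTN

end Cfsg.Agent.Lib.Helper86.PMinAlt
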