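import Mathlib
import Cfsg.Prelude.Def_Local
import Cfsg.Agent.Lib.Helper06.SylAlt.Defs

/-!
K-SylAlt-P2 (keystone 292903, architect helper6): a Sylow 3-subgroup of `Sym(n)` contains 3-cycles whose
supports cover all but at most two points.
-/

set_option autoImplicit false

namespace Cfsg.Agent.Lib.Helper86.SylAlt

open Equiv Equiv.Perm
open scoped Pointwise

theorem pow_three_of_mem_closure {G : Type*} [Group G] (S : Set G)
    (hcomm : ∀ x ∈ S, ∀ y ∈ S, x * y = y * x) (h3 : ∀ x ∈ S, x ^ 3 = 1) :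
    ∀ g ∈ Subgroup.closure S, g ^ 3 = 1 := by
  have hC := Subgroup.isMulCommutative_closure hcomm
  intro g hg
  induction hg using Subgroup.closure_induction with
  | mem x hx => exact h3 x hx
  | one => simp
  | mul x y hx hy ihx ihy =>
    have hc : x * y = y * x :=
      congrArg Subtype.val (hC.is_comm.comm (⟨x, hx⟩ : Subgroup.closure S) ⟨y, hy⟩)
    rw [(show Commute x y from hc).mul_pow, ihx, ihy, one_mul]
  | inv x hx ih => rw [inv_pow, ih, inv_one]

/-- the points `3 i + r` -/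
def pt (n : ℕ) (i : Fin (n / 3)) (r : Fin 3) : Fin n := ⟨3 * i.val + r.val, by omega⟩

theorem pt_eq_iff (n : ℕ) (i j : Fin (n / 3)) (r s : Fin 3) : pt n i r = pt n j s ↔ i = j ∧ r = s := by
  simp only [pt, Fin.ext_iff]
  omega

/-- the 3-cycle `(3i, 3i+1, 3i+2)` -/
def cyc (n : ℕ) (i : Fin (n / 3)) : Perm (Fin n) :=
  swap (pt n i 0) (pt n i 1) * swap (pt n i 1) (pt n i 2)

theorem support_cyc (n : ℕ) (i : Fin (n / 3)) :
    (cyc n i).support = {pt n i 0, pt n i 1, pt n i 2} := by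
  apply support_swap_mul_swap
  simp [pt_eq_iff]

theorem isThreeCycle_cyc (n : ℕ) (i : Fin (n / 3)) : (cyc n i).IsThreeCycle := by
  rw [← card_support_eq_three_iff, support_cyc]
  rw [Finset.card_eq_three]
  exact ⟨_, _, _, by simp [pt_eq_iff], by simp [pt_eq_iff], by simp [pt_eq_iff], rfl⟩

theorem cyc_comm (n : ℕ) (i j : Fin (n / 3)) : cyc n i * cyc n j = cyc n j * cyc n i := by
  by_cases hij : i = j
  · rw [hij]
  · apply Disjoint.commute
    rw [disjoint_iff_disjoint_support, support_cyc, support_cyc]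
    simp [pt_eq_iff, Ne.symm hij]

theorem pt_mem_support_cyc (n : ℕ) (i : Fin (n / 3)) (r : Fin 3) : pt n i r ∈ (cyc n i).support := by
  rw [support_cyc]
  fin_cases r <;> simp

theorem exists_mem_support_cyc (n : ℕ) (y : Fin n) (hy : y.val < 3 * (n / 3)) :
    ∃ i, y ∈ (cyc n i).support := by
  have h3 : y.val % 3 < 3 := Nat.mod_lt _ (by norm_num)
  refine ⟨⟨y.val / 3, by omega⟩, ?_⟩
  have : y = pt n ⟨y.val / 3, by omega⟩ ⟨y.val % 3, h3⟩ := by
    simp only [pt, Fin.ext_iff]; omega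
  have h := pt_mem_support_cyc n ⟨y.val / 3, by omega⟩ ⟨y.val % 3, h3⟩
  rwa [← this] at h

/-- **K-SylAlt-P2.** -/
theorem sylow_three_cover (n : ℕ) (P : Sylow 3 (Perm (Fin n))) :
    ∃ U : Finset (Fin n), n ≤ U.card + 2 ∧
      ∀ x ∈ U, ∃ t : Perm (Fin n), t ∈ P ∧ t.IsThreeCycle ∧ x ∈ t.support := by
  have : Fact (Nat.Prime 3) := ⟨Nat.prime_three⟩
  have hE : IsPGroup 3 (Subgroup.closure (Set.range (cyc n))) := by
    intro g
    refine ⟨1, ?_⟩
    rw [pow_one]
    apply Subtype.ext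
    rw [Subgroup.coe_pow]
    refine pow_three_of_mem_closure _ ?_ ?_ g.1 g.2
    · rintro _ ⟨i, rfl⟩ _ ⟨j, rfl⟩
      exact cyc_comm n i j
    · rintro _ ⟨i, rfl⟩
      rw [← (isThreeCycle_cyc n i).orderOf]
      exact pow_orderOf_eq_one _
  obtain ⟨Q, hQ⟩ := hE.exists_le_sylow
  obtain ⟨g, hg⟩ := MulAction.exists_smul_eq (Perm (Fin n)) Q P
  have hmem : ∀ i, g * cyc n i * g⁻¹ ∈ P := by
    intro i
    have h1 : cyc n i ∈ (Q : Subgroup (Perm (Fin n))) :=
      hQ (Subgroup.subset_closure ⟨i, rfl⟩)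
    have h2 : MulAut.conj g • cyc n i ∈ MulAut.conj g • (Q : Subgroup (Perm (Fin n))) :=
      Subgroup.smul_mem_pointwise_smul _ _ _ h1
    rw [← Sylow.coe_subgroup_smul, hg] at h2
    exact h2
  refine ⟨(Finset.univ.filter (fun y : Fin n => y.val < 3 * (n / 3))).map g.toEmbedding, ?_, ?_⟩
  · rw [Finset.card_map, Fin.card_filter_val_lt]
    have : min n (3 * (n / 3)) = 3 * (n / 3) := by
      apply min_eq_right; omega
    rw [this]; omega
  · intro x hx
    rw [Finset.mem_map] at hx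
    obtain ⟨y, hy, rfl⟩ := hx
    rw [Finset.mem_filter] at hy
    obtain ⟨i, hi⟩ := exists_mem_support_cyc n y hy.2
    refine ⟨g * cyc n i * g⁻¹, hmem i, ?_, ?_⟩
    · unfold IsThreeCycle
      rw [cycleType_conj]
      exact isThreeCycle_cyc n i
    · rw [support_conj]
      exact Finset.mem_map_of_mem _ hi

end Cfsg.Agent.Lib.Helper86.SylAlt
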