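import Mathlib
import Cfsg.Prelude.Def_GeometricClasses
import Cfsg.Agent.Lib.Helper61.AschDefs
import Cfsg.Agent.Lib.Helper43.SpAschDefs
import Cfsg.Agent.Lib.Helper43.SpAschDefs2

set_option autoImplicit false

/-!
# K-SpAsch-S4q (architect helper43): the quadratic form with polar form `G₁ ⊗ G₂` in characteristic 2

`Q x = xᵀ (A₁ ⊗ G₂) x` with `A₁` the strictly upper triangular part of `G₁`.
-/

namespace Cfsg.Agent.Lib.Helper86.SpAsch

open Cfsg Cfsg.Geo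
open scoped Matrix Kronecker

variable {F : Type*} [Field F]

/-- in characteristic 2 a symmetric matrix with zero diagonal has `xᵀ M x = 0` -/
theorem dotProduct_mulVec_self_eq_zero {κ : Type*} [Fintype κ] [DecidableEq κ] (h2 : (2 : F) = 0)
    (M : Matrix κ κ F) (hs : Mᵀ = M) (hd : ∀ p, M p p = 0) (x : κ → F) :
    x ⬝ᵥ (M *ᵥ x) = 0 := by
  have h1 : x ⬝ᵥ (M *ᵥ x) = ∑ pq : κ × κ, x pq.1 * M pq.1 pq.2 * x pq.2 := by
    rw [Fintype.sum_prod_type]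
    simp only [dotProduct, Matrix.mulVec, Finset.mul_sum, mul_assoc]
  rw [h1]
  apply Finset.sum_involution (fun pq _ => Prod.swap pq)
  · rintro ⟨p, q⟩ _
    have hqp : M q p = M p q := by
      have := congrFun (congrFun hs p) q
      simpa [Matrix.transpose_apply] using this
    simp only [Prod.swap_prod_mk, Prod.fst, Prod.snd]
    rw [hqp]
    have : x q * M p q * x p = x p * M p q * x q := by ring
    rw [this, ← two_mul, h2, zero_mul]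
  · rintro ⟨p, q⟩ _ hne heq
    apply hne
    simp only [Prod.swap_prod_mk, Prod.mk.injEq] at heq
    obtain ⟨rfl, -⟩ := heq
    rw [hd, mul_zero, zero_mul]
  · intro pq _
    exact Finset.mem_univ _
  · intro pq _
    exact Prod.swap_swap pq

theorem qf_comp {κ : Type*} [Fintype κ] [DecidableEq κ] (M K : Matrix κ κ F) (x : κ → F) :
    (K *ᵥ x) ⬝ᵥ (M *ᵥ (K *ᵥ x)) = x ⬝ᵥ ((Kᵀ * M * K) *ᵥ x) := by
  rw [← Matrix.mulVec_mulVec, ← Matrix.mulVec_mulVec, Matrix.dotProduct_mulVec x Kᵀ,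
    Matrix.vecMul_transpose]

theorem formOfGram_id_eq {κ : Type} [Fintype κ] (G : Matrix κ κ F) (x y : κ → F) :
    formOfGram id G x y = x ⬝ᵥ (G *ᵥ y) := by
  simp only [formOfGram, dotProduct, Matrix.mulVec, Finset.mul_sum, mul_assoc, id]

/-- the strictly upper triangular part -/
def upperPart {a : ℕ} (G : Matrix (Fin a) (Fin a) F) : Matrix (Fin a) (Fin a) F :=
  fun i i' => if i < i' then G i i' else 0

theorem upperPart_add_transpose {a : ℕ} (G : Matrix (Fin a) (Fin a) F) (hs : Gᵀ = G)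
    (hd : ∀ i, G i i = 0) : upperPart G + (upperPart G)ᵀ = G := by
  ext i i'
  have hsym : G i' i = G i i' := by
    have := congrFun (congrFun hs i) i'
    simpa [Matrix.transpose_apply] using this
  simp only [Matrix.add_apply, Matrix.transpose_apply, upperPart]
  rcases lt_trichotomy i i' with h | h | h
  · rw [if_pos h, if_neg (not_lt.mpr h.le), add_zero]
  · subst h
    rw [if_neg (lt_irrefl _), add_zero, hd]
  · rw [if_neg (not_lt.mpr h.le), if_pos h, zero_add, hsym]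

/-- K-SpAsch-S4q. -/
theorem exists_quad_kronecker (h2 : (2 : F) = 0) {a b : ℕ} (G₁ : Matrix (Fin a) (Fin a) F)
    (G₂ : Matrix (Fin b) (Fin b) F) (h₁ : G₁ᵀ = G₁) (h₂ : G₂ᵀ = G₂) (d₁ : ∀ i, G₁ i i = 0) (d₂ : ∀ j, G₂ j j = 0) :
    ∃ Q : (Fin a × Fin b → F) → F, (∀ (c : F) x, Q (c • x) = c ^ 2 * Q x) ∧
      (∀ x y, Q (x + y) - Q x - Q y = formOfGram id (G₁ ⊗ₖ G₂) x y) ∧
      ∀ (k₁ : Matrix (Fin a) (Fin a) F) (k₂ : Matrix (Fin b) (Fin b) F) (c₁ c₂ : F),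
        k₁ᵀ * G₁ * k₁ = c₁ • G₁ → k₂ᵀ * G₂ * k₂ = c₂ • G₂ → ∀ x, Q ((k₁ ⊗ₖ k₂) *ᵥ x) = c₁ * c₂ * Q x := by
  set A₁ := upperPart G₁ with hA₁
  have hA : A₁ + A₁ᵀ = G₁ := upperPart_add_transpose G₁ h₁ d₁
  set M₀ : Matrix (Fin a × Fin b) (Fin a × Fin b) F := A₁ ⊗ₖ G₂ with hM₀
  have hM₀T : M₀ᵀ = A₁ᵀ ⊗ₖ G₂ := by
    rw [hM₀, ← Matrix.kroneckerMap_transpose, h₂]
  have hsum : M₀ + M₀ᵀ = G₁ ⊗ₖ G₂ := by
    rw [hM₀T, hM₀, ← Matrix.add_kronecker, hA]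
  have hneg : ∀ z : F, -z = z := by
    intro z
    have : z + z = 0 := by rw [← two_mul, h2, zero_mul]
    exact neg_eq_of_add_eq_zero_left this
  refine ⟨fun x => x ⬝ᵥ (M₀ *ᵥ x), ?_, ?_, ?_⟩
  · intro c x
    simp only [Matrix.mulVec_smul, smul_dotProduct, dotProduct_smul, smul_eq_mul]
    ring
  · intro x y
    rw [formOfGram_id_eq, ← hsum]
    have h1 : y ⬝ᵥ (M₀ *ᵥ x) = x ⬝ᵥ (M₀ᵀ *ᵥ y) := by
      rw [Matrix.dotProduct_mulVec, dotProduct_comm, Matrix.mulVec_transpose]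
    simp only [Matrix.mulVec_add, Matrix.add_mulVec, add_dotProduct, dotProduct_add]
    rw [h1]
    ring
  · intro k₁ k₂ c₁ c₂ hk₁ hk₂ x
    show ((k₁ ⊗ₖ k₂) *ᵥ x) ⬝ᵥ (M₀ *ᵥ ((k₁ ⊗ₖ k₂) *ᵥ x)) = c₁ * c₂ * (x ⬝ᵥ (M₀ *ᵥ x))
    rw [qf_comp]
    -- `N = k₁ᵀ A₁ k₁ - c₁ A₁` is symmetric
    set N : Matrix (Fin a) (Fin a) F := k₁ᵀ * A₁ * k₁ - c₁ • A₁ with hN
    have hNT : Nᵀ = N := by
      have h3 : N + Nᵀ = 0 := by
        rw [hN, Matrix.transpose_sub, Matrix.transpose_smul, Matrix.transpose_mul,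
          Matrix.transpose_mul, Matrix.transpose_transpose]
        have : k₁ᵀ * A₁ * k₁ - c₁ • A₁ + (k₁ᵀ * (A₁ᵀ * k₁) - c₁ • A₁ᵀ) =
            k₁ᵀ * (A₁ + A₁ᵀ) * k₁ - c₁ • (A₁ + A₁ᵀ) := by
          rw [Matrix.mul_add, Matrix.add_mul, smul_add, Matrix.mul_assoc k₁ᵀ A₁ᵀ k₁]
          abel
        rw [this, hA, hk₁, sub_self]
      have h4 : Nᵀ = -N := by
        rw [eq_neg_iff_add_eq_zero, add_comm]
        exact h3
      rw [h4]
      ext i j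
      simp only [Matrix.neg_apply]
      exact hneg _
    have hNG : (N ⊗ₖ G₂)ᵀ = N ⊗ₖ G₂ := by
      rw [← Matrix.kroneckerMap_transpose, hNT, h₂]
    have hNGd : ∀ p, (N ⊗ₖ G₂) p p = 0 := by
      rintro ⟨i, j⟩
      simp only [Matrix.kroneckerMap_apply]
      rw [d₂, mul_zero]
    have hzero := dotProduct_mulVec_self_eq_zero h2 (N ⊗ₖ G₂) hNG hNGd x
    -- `Kᵀ M₀ K = c₂ • (k₁ᵀ A₁ k₁ ⊗ G₂)`
    have hK : (k₁ ⊗ₖ k₂)ᵀ * M₀ * (k₁ ⊗ₖ k₂) = c₂ • ((k₁ᵀ * A₁ * k₁) ⊗ₖ G₂) := by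
      rw [← Matrix.kroneckerMap_transpose, hM₀, ← Matrix.mul_kronecker_mul,
        ← Matrix.mul_kronecker_mul, hk₂, Matrix.kronecker_smul]
    have hsplit : k₁ᵀ * A₁ * k₁ = N + c₁ • A₁ := by
      rw [hN]; abel
    rw [hK, hsplit, Matrix.add_kronecker, Matrix.smul_kronecker, smul_add, Matrix.add_mulVec,
      dotProduct_add, Matrix.smul_mulVec, dotProduct_smul, hzero, smul_zero, zero_add,
      smul_smul, Matrix.smul_mulVec, dotProduct_smul, smul_eq_mul]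
    ring

end Cfsg.Agent.Lib.Helper86.SpAsch
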