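import Mathlib
import Cfsg.Agent.Lib.Helper16.BG1363Defs
import Cfsg.Agent.Lib.Helper55.Basic
import Cfsg.Agent.Lib.Helper31.BG15KA
import Cfsg.Agent.Lib.Helper31.FittingHall
import Cfsg.Agent.Lib.Helper71.BG11a
import Cfsg.Agent.S1361

/-!
# K-1435-P8 (keystone 143513, architect helper31): `M ⊓ H = U ⊔ K`
-/

set_option autoImplicit false

namespace Cfsg.Agent.Lib.Helper86.BG1435

open Cfsg Subgroup Cfsg.Agent.Lib.Helper55 Cfsg.Agent.Lib.Helper11.BG14D Cfsg.Agent.Lib.Helper16.BG1363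

variable {G : Type*} [Group G] [Finite G]

/-- KEYSTONE 143513  K-1435-P8  `NU.inf_eq` -/
theorem NU.inf_eq (hG : IsMinSimpleOddOrder G) {M K U R H : Subgroup G} {r : ℕ}
    (c : NU M K U R H r) (hUKH : U ⊔ K ≤ H)
    (hnc : ∀ g : G, H ≠ M.map (MulAut.conj g).toMonoidHom)
    (hbot : sigmaCore H ⊓ sigmaCore M = ⊥) (hUσ : U ≤ sigmaCore H) : M ⊓ H = U ⊔ K := by
  have hUM : U ≤ M := c.hKU.compl.1
  have hKM : K ≤ M := c.hKU.hall.1
  have hSM : sigmaCore M ≤ M := Cfsg.Agent.Lib.Helper71.BG11.sigmaCore_le M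
  have hnM := Cfsg.Agent.Lib.Helper71.BG11.le_normalizer_sigmaCore M
  have hnH := Cfsg.Agent.Lib.Helper71.BG11.le_normalizer_sigmaCore H
  -- `sigmaCore M ⊓ H` centralizes `R`
  have hDR : sigmaCore M ⊓ H ≤ centralizer (R : Set G) := by
    intro d hd
    have hdσ : d ∈ sigmaCore M := (Subgroup.mem_inf.mp hd).1
    have hdH : d ∈ H := (Subgroup.mem_inf.mp hd).2
    rw [mem_centralizer_iff]
    intro x hx
    have hxU : x ∈ U := c.hRU hx
    have hxσ : x ∈ sigmaCore H := hUσ hxU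
    have hxM : x ∈ M := hUM hxU
    have h1 : d * x * d⁻¹ ∈ sigmaCore H :=
      (mem_normalizer_iff.mp (hnH hdH) x).mp hxσ
    have h2 : x * d⁻¹ * x⁻¹ ∈ sigmaCore M :=
      (mem_normalizer_iff.mp (hnM hxM) d⁻¹).mp ((sigmaCore M).inv_mem hdσ)
    have h3 : d * x * d⁻¹ * x⁻¹ ∈ sigmaCore H ⊓ sigmaCore M := by
      refine Subgroup.mem_inf.mpr ⟨(sigmaCore H).mul_mem h1 ((sigmaCore H).inv_mem hxσ), ?_⟩
      have : d * x * d⁻¹ * x⁻¹ = d * (x * d⁻¹ * x⁻¹) := by group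
      rw [this]
      exact (sigmaCore M).mul_mem hdσ h2
    rw [hbot, mem_bot] at h3
    have : d * x = x * d := by
      have h4 : d * x * d⁻¹ * x⁻¹ * x * d = x * d := by rw [h3, one_mul]
      rw [← h4]; group
    exact this.symm
  -- hence it is trivial
  have hD : sigmaCore M ⊓ H = ⊥ := by
    by_contra hne
    have hXc : sigmaCore M ⊓ centralizer (R : Set G) ≠ ⊥ := by
      intro h0
      apply hne
      rw [eq_bot_iff, ← h0]
      exact le_inf inf_le_left hDR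
    obtain ⟨-, huniq⟩ := Cfsg.Agent.S1361.result hG M c.hM K U c.hKU R c.hRU c.hR1 hXc
    have hCH : centralizer (R : Set G) ≤ H :=
      (Subgroup.centralizer_le_normalizer (R : Set G)).trans c.hNH
    have hHM : H = M := huniq H c.hH hCH
    apply hnc 1
    rw [hHM]
    ext x
    simp
  -- the count
  have hcompl := Cfsg.Agent.Lib.Helper31.BG15.isComplIn_sup_of_sigmaDecomposition hG c.hM c.hKU
  have hcard := Cfsg.Agent.Lib.Helper31.IsComplIn.card_mul hcompl
  have hle : U ⊔ K ≤ M ⊓ H := le_inf (sup_le hUM hKM) hUKH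
  have hdisj : Disjoint (M ⊓ H) (sigmaCore M) := by
    rw [disjoint_iff, eq_bot_iff, ← hD]
    exact le_inf inf_le_right (inf_le_left.trans inf_le_right)
  have hinj := Subgroup.mul_injective_of_disjoint hdisj
  have hcard2 : Nat.card ↥(M ⊓ H) * Nat.card ↥(sigmaCore M) ≤ Nat.card M := by
    rw [← Nat.card_prod]
    refine Nat.card_le_card_of_injective
      (fun p : ↥(M ⊓ H) × ↥(sigmaCore M) => (⟨(p.1 : G) * p.2, mul_mem p.1.2.1 (hSM p.2.2)⟩ : M)) ?_
    intro p q hpq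
    apply hinj
    exact congrArg Subtype.val hpq
  have hpos : 0 < Nat.card ↥(sigmaCore M) := Nat.card_pos
  have hcard3 : Nat.card ↥(M ⊓ H) ≤ Nat.card ↥(U ⊔ K) := by
    rw [← hcard] at hcard2
    exact Nat.le_of_mul_le_mul_right hcard2 hpos
  exact (Subgroup.eq_of_le_of_card_ge hle hcard3).symm

end Cfsg.Agent.Lib.Helper86.BG1435
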