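import Mathlib
import Cfsg.Prelude.Def_RootSubgroups

set_option autoImplicit false

namespace Cfsg.Agent.Lib.Helper86

open Cfsg

variable {G : Type*} [Group G]

/-! ### conjBy basics -/

theorem mem_conjBy {A : Subgroup G} {g x : G} : x ∈ conjBy A g ↔ g⁻¹ * x * g ∈ A := by
  unfold conjBy
  rw [Subgroup.mem_map]
  constructor
  · rintro ⟨a, ha, rfl⟩
    simpa [MulAut.conj_apply, mul_assoc] using ha
  · intro h
    exact ⟨g⁻¹ * x * g, h, by simp [MulAut.conj_apply, mul_assoc]⟩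

theorem conj_mem_conjBy {A : Subgroup G} {g a : G} (ha : a ∈ A) : g * a * g⁻¹ ∈ conjBy A g := by
  rw [mem_conjBy]; simpa [mul_assoc] using ha

theorem conjBy_one (A : Subgroup G) : conjBy A 1 = A := by
  ext x; rw [mem_conjBy]; simp

theorem conjBy_conjBy (A : Subgroup G) (g h : G) : conjBy (conjBy A h) g = conjBy A (g * h) := by
  ext x; rw [mem_conjBy, mem_conjBy, mem_conjBy]; simp [mul_assoc]

theorem conjBy_self_mem {A : Subgroup G} {g : G} (hg : g ∈ A) : conjBy A g = A := by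
  ext x
  rw [mem_conjBy]
  constructor
  · intro h
    have := A.mul_mem (A.mul_mem hg h) (A.inv_mem hg)
    simpa [mul_assoc] using this
  · intro h
    exact A.mul_mem (A.mul_mem (A.inv_mem hg) h) hg

theorem conjBy_eq_iff {A C : Subgroup G} {g : G} : conjBy A g = C ↔ A = conjBy C g⁻¹ := by
  constructor
  · rintro rfl; rw [conjBy_conjBy]; simp [conjBy_one]
  · rintro rfl; rw [conjBy_conjBy]; simp [conjBy_one]

theorem conjBy_injective (g : G) : Function.Injective (fun A : Subgroup G => conjBy A g) := by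
  intro A C h
  have h' : conjBy A g = conjBy C g := h
  have := congrArg (fun D => conjBy D g⁻¹) h'
  simpa [conjBy_conjBy, conjBy_one] using this

theorem conjBy_inj {A C : Subgroup G} {g : G} : conjBy A g = conjBy C g ↔ A = C :=
  ⟨fun h => conjBy_injective g h, fun h => by rw [h]⟩

theorem mem_normalizer_iff_conjBy {A : Subgroup G} {g : G} :
    g ∈ Subgroup.normalizer (A : Set G) ↔ conjBy A g = A := by
  rw [Subgroup.mem_normalizer_iff_map_conj_eq]
  rfl

theorem conjBy_eq_conjBy_iff {A : Subgroup G} {g h : G} :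
    conjBy A g = conjBy A h ↔ h⁻¹ * g ∈ Subgroup.normalizer (A : Set G) := by
  rw [mem_normalizer_iff_conjBy, ← conjBy_conjBy, conjBy_eq_iff (g := h⁻¹), inv_inv]

theorem conjBy_le_iff {A C : Subgroup G} {g : G} : conjBy A g ≤ C ↔ A ≤ conjBy C g⁻¹ := by
  constructor
  · intro h a ha
    rw [mem_conjBy]
    have := h (conj_mem_conjBy (g := g) ha)
    simpa using this
  · intro h x hx
    rw [mem_conjBy] at hx
    have := h hx
    rw [mem_conjBy] at this
    simpa [mul_assoc] using this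

theorem conjBy_mono {A C : Subgroup G} (h : A ≤ C) (g : G) : conjBy A g ≤ conjBy C g :=
  Subgroup.map_mono h

theorem conjBy_le_of_mem {A K : Subgroup G} {g : G} (hA : A ≤ K) (hg : g ∈ K) : conjBy A g ≤ K := by
  intro x hx
  rw [mem_conjBy] at hx
  have h1 := hA hx
  have := K.mul_mem (K.mul_mem hg h1) (K.inv_mem hg)
  simpa [mul_assoc] using this

theorem conjBy_sup (A B : Subgroup G) (g : G) : conjBy (A ⊔ B) g = conjBy A g ⊔ conjBy B g :=
  Subgroup.map_sup A B _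

theorem conjBy_bot (g : G) : conjBy (⊥ : Subgroup G) g = ⊥ := Subgroup.map_bot _

theorem conjBy_eq_bot_iff {A : Subgroup G} {g : G} : conjBy A g = ⊥ ↔ A = ⊥ := by
  rw [conjBy_eq_iff, conjBy_bot]

/-- Invariance of a family of subgroups under a join. -/
theorem conjBy_mem_of_sup {A B : Subgroup G} {T : Set (Subgroup G)}
    (hA : ∀ x ∈ A, ∀ C ∈ T, conjBy C x ∈ T) (hB : ∀ x ∈ B, ∀ C ∈ T, conjBy C x ∈ T) :
    ∀ x ∈ A ⊔ B, ∀ C ∈ T, conjBy C x ∈ T := by
  let K : Subgroup G :=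
    { carrier := {x | ∀ C ∈ T, conjBy C x ∈ T ∧ conjBy C x⁻¹ ∈ T}
      mul_mem' := by
        intro x y hx hy C hC
        refine ⟨?_, ?_⟩
        · rw [← conjBy_conjBy]; exact (hx _ (hy C hC).1).1
        · rw [mul_inv_rev, ← conjBy_conjBy]; exact (hy _ (hx C hC).2).2
      one_mem' := by
        intro C hC
        simp [conjBy_one, hC]
      inv_mem' := by
        intro x hx C hC
        rw [inv_inv]
        exact ⟨(hx C hC).2, (hx C hC).1⟩ }
  have hAK : A ≤ K := fun x hx C hC => ⟨hA x hx C hC, hA _ (A.inv_mem hx) C hC⟩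
  have hBK : B ≤ K := fun x hx C hC => ⟨hB x hx C hC, hB _ (B.inv_mem hx) C hC⟩
  intro x hx C hC
  exact ((sup_le hAK hBK) hx C hC).1


/-! ### Rank one pairs -/

section RankOne

variable {A B : Subgroup G}

theorem rk1_inf_normalizer (h : IsRankOnePair A B) : A ⊓ Subgroup.normalizer (B : Set G) = ⊥ := by
  rw [eq_bot_iff]
  intro a ha
  rw [Subgroup.mem_inf] at ha
  rw [Subgroup.mem_bot]
  by_contra ha1
  obtain ⟨b, hb, -, hb2⟩ := h.cond_left a ha.1 ha1
  have h1 : conjBy B a⁻¹ = B := mem_normalizer_iff_conjBy.mp (Subgroup.inv_mem _ ha.2)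
  rw [h1] at hb2
  have h2 : A = conjBy B b := by
    rw [← hb2, conjBy_conjBy]; simp [conjBy_one]
  rw [conjBy_self_mem hb] at h2
  exact h.ne h2

theorem rk1_inf_normalizer' (h : IsRankOnePair A B) : B ⊓ Subgroup.normalizer (A : Set G) = ⊥ :=
  rk1_inf_normalizer (RankOnePair_symm h)

theorem rk1_not_normalize (h : IsRankOnePair A B) {a : G} (ha : a ∈ A) (ha1 : a ≠ 1) :
    conjBy B a ≠ B := by
  intro h1
  have : a ∈ A ⊓ Subgroup.normalizer (B : Set G) := ⟨ha, mem_normalizer_iff_conjBy.mpr h1⟩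
  rw [rk1_inf_normalizer h, Subgroup.mem_bot] at this
  exact ha1 this

theorem rk1_conjBy_inj (h : IsRankOnePair A B) {a a' : G} (ha : a ∈ A) (ha' : a' ∈ A)
    (he : conjBy B a = conjBy B a') : a = a' := by
  rw [conjBy_eq_conjBy_iff] at he
  have : a'⁻¹ * a ∈ A ⊓ Subgroup.normalizer (B : Set G) := ⟨A.mul_mem (A.inv_mem ha') ha, he⟩
  rw [rk1_inf_normalizer h, Subgroup.mem_bot] at this
  have := congrArg (fun x => a' * x) this
  simpa using this

theorem rk1_left_ne_bot (h : IsRankOnePair A B) : A ≠ ⊥ := by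
  intro hA
  apply h.ne
  rw [hA]
  symm
  rw [eq_bot_iff]
  intro b hb
  rw [Subgroup.mem_bot]
  by_contra hb1
  obtain ⟨a, ha, ha1, -⟩ := h.cond_right b hb hb1
  rw [hA, Subgroup.mem_bot] at ha
  exact ha1 ha

theorem rk1_right_ne_bot (h : IsRankOnePair A B) : B ≠ ⊥ := rk1_left_ne_bot (RankOnePair_symm h)

theorem rk1_exists_ne_one (h : IsRankOnePair A B) : ∃ a ∈ A, a ≠ 1 := by
  by_contra hc
  push Not at hc
  apply rk1_left_ne_bot h
  rw [eq_bot_iff]
  intro a ha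
  rw [Subgroup.mem_bot]
  exact hc a ha

/-- Uniqueness of the partner `b(a)`. -/
theorem rk1_partner_unique (h : IsRankOnePair A B) {a b b' : G} (hb : b ∈ B) (hb' : b' ∈ B)
    (h1 : conjBy A b⁻¹ = conjBy B a⁻¹) (h2 : conjBy A b'⁻¹ = conjBy B a⁻¹) : b = b' := by
  have := rk1_conjBy_inj (RankOnePair_symm h) (B.inv_mem hb) (B.inv_mem hb') (h1.trans h2.symm)
  simpa using this

theorem rk1_partner_unique' (h : IsRankOnePair A B) {a a' b : G} (ha : a ∈ A) (ha' : a' ∈ A)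
    (h1 : conjBy A b⁻¹ = conjBy B a⁻¹) (h2 : conjBy A b⁻¹ = conjBy B a'⁻¹) : a = a' := by
  have := rk1_conjBy_inj h (A.inv_mem ha) (A.inv_mem ha') (h1.symm.trans h2)
  simpa using this

/-- Form of the rank one condition convenient for orbit computations:
for `a ∈ A#` there is `b ∈ B#` with `a B a⁻¹ = b A b⁻¹`. -/
theorem rk1_cond (h : IsRankOnePair A B) {a : G} (ha : a ∈ A) (ha1 : a ≠ 1) :
    ∃ b ∈ B, b ≠ 1 ∧ conjBy B a = conjBy A b := by
  obtain ⟨b, hb, hb1, hb2⟩ := h.cond_left a⁻¹ (A.inv_mem ha) (by simpa using ha1)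
  refine ⟨b⁻¹, B.inv_mem hb, by simpa using hb1, ?_⟩
  rw [inv_inv] at hb2
  exact hb2.symm

theorem rk1_cond' (h : IsRankOnePair A B) {b : G} (hb : b ∈ B) (hb1 : b ≠ 1) :
    ∃ a ∈ A, a ≠ 1 ∧ conjBy A b = conjBy B a :=
  rk1_cond (RankOnePair_symm h) hb hb1

theorem rk1_B_mem_unipotent (h : IsRankOnePair A B) : B ∈ unipotentSubgroups A B := by
  obtain ⟨a, ha, ha1⟩ := rk1_exists_ne_one h
  obtain ⟨b, hb, hb1, hb2⟩ := rk1_cond h ha ha1
  refine ⟨a⁻¹ * b, ?_, ?_⟩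
  · exact Subgroup.mul_mem _ (Subgroup.mem_sup_left (A.inv_mem ha)) (Subgroup.mem_sup_right hb)
  · rw [← conjBy_conjBy, ← hb2, conjBy_conjBy]; simp [conjBy_one]

theorem rk1_A_mem_unipotent (A B : Subgroup G) : A ∈ unipotentSubgroups A B :=
  ⟨1, Subgroup.one_mem _, (conjBy_one A).symm⟩

/-- The orbit of `A` under `A ⊔ B` is `{A} ∪ B^A`. -/
theorem rk1_mem_unipotent_iff (h : IsRankOnePair A B) {C : Subgroup G} :
    C ∈ unipotentSubgroups A B ↔ C = A ∨ ∃ a ∈ A, C = conjBy B a := by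
  constructor
  · rintro ⟨x, hx, rfl⟩
    have key : ∀ x ∈ A ⊔ B, ∀ C ∈ {C : Subgroup G | C = A ∨ ∃ a ∈ A, C = conjBy B a},
        conjBy C x ∈ {C : Subgroup G | C = A ∨ ∃ a ∈ A, C = conjBy B a} := by
      apply conjBy_mem_of_sup
      · rintro x hx C (hCA | ⟨a, ha, rfl⟩)
        · left; rw [hCA]; exact conjBy_self_mem hx
        · right; exact ⟨x * a, A.mul_mem hx ha, conjBy_conjBy _ _ _⟩
      · rintro x hx C (hCA | ⟨a, ha, rfl⟩)
        · rw [hCA]
          by_cases hx1 : x = 1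
          · left; rw [hx1, conjBy_one]
          · right
            obtain ⟨a, ha, -, ha2⟩ := rk1_cond' h hx hx1
            exact ⟨a, ha, ha2⟩
        · by_cases ha1 : a = 1
          · right; refine ⟨1, A.one_mem, ?_⟩
            rw [ha1, conjBy_one, conjBy_self_mem hx]
          · obtain ⟨b, hb, -, hb2⟩ := rk1_cond h ha ha1
            rw [hb2, conjBy_conjBy]
            by_cases hxb : x * b = 1
            · left; rw [hxb, conjBy_one]
            · right
              obtain ⟨a', ha', -, ha2'⟩ := rk1_cond' h (B.mul_mem hx hb) hxb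
              exact ⟨a', ha', ha2'⟩
    exact key x hx A (Or.inl rfl)
  · rintro (rfl | ⟨a, ha, rfl⟩)
    · exact rk1_A_mem_unipotent _ _
    · obtain ⟨x, hx, hx2⟩ := rk1_B_mem_unipotent h
      refine ⟨a * x, Subgroup.mul_mem _ (Subgroup.mem_sup_left ha) hx, ?_⟩
      rw [hx2, conjBy_conjBy]

theorem rk1_conjBy_B_ne_A (h : IsRankOnePair A B) {a : G} (ha : a ∈ A) : conjBy B a ≠ A := by
  intro h1
  rw [conjBy_eq_iff, conjBy_self_mem (A.inv_mem ha)] at h1
  exact h.ne h1.symm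

theorem rk1_mem_unipotent_ne_iff (h : IsRankOnePair A B) {C : Subgroup G} :
    (C ∈ unipotentSubgroups A B ∧ C ≠ A) ↔ ∃ a ∈ A, C = conjBy B a := by
  rw [rk1_mem_unipotent_iff h]
  constructor
  · rintro ⟨(rfl | h1), h2⟩
    · exact absurd rfl h2
    · exact h1
  · rintro ⟨a, ha, rfl⟩
    exact ⟨Or.inr ⟨a, ha, rfl⟩, rk1_conjBy_B_ne_A h ha⟩

theorem unipotent_conjBy_mem {C : Subgroup G} (hC : C ∈ unipotentSubgroups A B) {x : G} (hx : x ∈ A ⊔ B) :
    conjBy C x ∈ unipotentSubgroups A B := by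
  obtain ⟨y, hy, rfl⟩ := hC
  exact ⟨x * y, Subgroup.mul_mem _ hx hy, conjBy_conjBy _ _ _⟩

theorem unipotent_le {C : Subgroup G} (hC : C ∈ unipotentSubgroups A B) : C ≤ A ⊔ B := by
  obtain ⟨y, hy, rfl⟩ := hC
  exact conjBy_le_of_mem le_sup_left hy


/-- Every ordered pair of distinct conjugates of `A` is the image of `(A, B)`. -/
theorem rk1_two_transitive_aux (h : IsRankOnePair A B) {C₁ C₂ : Subgroup G}
    (h1 : C₁ ∈ unipotentSubgroups A B) (h2 : C₂ ∈ unipotentSubgroups A B) (hne : C₁ ≠ C₂) :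
    ∃ x ∈ A ⊔ B, conjBy A x = C₁ ∧ conjBy B x = C₂ := by
  obtain ⟨y, hy, rfl⟩ := h1
  have h3 : conjBy C₂ y⁻¹ ∈ unipotentSubgroups A B := unipotent_conjBy_mem h2 (Subgroup.inv_mem _ hy)
  have h4 : conjBy C₂ y⁻¹ ≠ A := by
    intro h5
    apply hne
    rw [conjBy_eq_iff, h5]
  obtain ⟨a, ha, ha2⟩ := (rk1_mem_unipotent_ne_iff h).mp ⟨h3, h4⟩
  refine ⟨y * a, Subgroup.mul_mem _ hy (Subgroup.mem_sup_left ha), ?_, ?_⟩
  · rw [← conjBy_conjBy, conjBy_self_mem ha]
  · rw [← conjBy_conjBy, ← ha2, conjBy_conjBy]; simp [conjBy_one]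

theorem rk1_two_transitive (h : IsRankOnePair A B) {C₁ C₂ D₁ D₂ : Subgroup G}
    (hC1 : C₁ ∈ unipotentSubgroups A B) (hC2 : C₂ ∈ unipotentSubgroups A B)
    (hD1 : D₁ ∈ unipotentSubgroups A B) (hD2 : D₂ ∈ unipotentSubgroups A B)
    (hC : C₁ ≠ C₂) (hD : D₁ ≠ D₂) :
    ∃ x ∈ A ⊔ B, conjBy C₁ x = D₁ ∧ conjBy C₂ x = D₂ := by
  obtain ⟨x, hx, rfl, rfl⟩ := rk1_two_transitive_aux h hC1 hC2 hC
  obtain ⟨y, hy, rfl, rfl⟩ := rk1_two_transitive_aux h hD1 hD2 hD
  refine ⟨y * x⁻¹, Subgroup.mul_mem _ hy (Subgroup.inv_mem _ hx), ?_, ?_⟩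
  · rw [conjBy_conjBy]; simp
  · rw [conjBy_conjBy]; simp

/-- Any two distinct conjugates of `A` generate `A ⊔ B`. -/
theorem rk1_sup_eq_of_mem (h : IsRankOnePair A B) {C₁ C₂ : Subgroup G}
    (h1 : C₁ ∈ unipotentSubgroups A B) (h2 : C₂ ∈ unipotentSubgroups A B) (hne : C₁ ≠ C₂) :
    C₁ ⊔ C₂ = A ⊔ B := by
  obtain ⟨x, hx, rfl, rfl⟩ := rk1_two_transitive_aux h h1 h2 hne
  rw [← conjBy_sup]
  exact mem_normalizer_iff_conjBy.mp (Subgroup.le_normalizer hx)

/-- `A` acts regularly on the conjugates of `A` other than `A`. -/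
theorem rk1_regular (h : IsRankOnePair A B) {C D : Subgroup G}
    (hC : C ∈ unipotentSubgroups A B) (hD : D ∈ unipotentSubgroups A B) (hCA : C ≠ A) (hDA : D ≠ A) :
    ∃! a : G, a ∈ A ∧ conjBy C a = D := by
  obtain ⟨c, hc, rfl⟩ := (rk1_mem_unipotent_ne_iff h).mp ⟨hC, hCA⟩
  obtain ⟨d, hd, rfl⟩ := (rk1_mem_unipotent_ne_iff h).mp ⟨hD, hDA⟩
  refine ⟨d * c⁻¹, ⟨A.mul_mem hd (A.inv_mem hc), ?_⟩, ?_⟩
  · rw [conjBy_conjBy]; simp
  · rintro a' ⟨ha', h2⟩
    rw [conjBy_conjBy] at h2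
    have := rk1_conjBy_inj h (A.mul_mem ha' hc) hd h2
    rw [← this]; simp

theorem rk1_three (h : IsRankOnePair A B) :
    ∃ C₁ ∈ unipotentSubgroups A B, ∃ C₂ ∈ unipotentSubgroups A B, ∃ C₃ ∈ unipotentSubgroups A B,
      C₁ ≠ C₂ ∧ C₁ ≠ C₃ ∧ C₂ ≠ C₃ := by
  obtain ⟨a, ha, ha1⟩ := rk1_exists_ne_one h
  refine ⟨A, rk1_A_mem_unipotent A B, B, rk1_B_mem_unipotent h, conjBy B a,
    (rk1_mem_unipotent_iff h).mpr (Or.inr ⟨a, ha, rfl⟩), h.ne, (rk1_conjBy_B_ne_A h ha).symm,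
    (rk1_not_normalize h ha ha1).symm⟩


/-- If `N` normalizes `A` and is normalized by `A ⊔ B` then `N` normalizes each conjugate of `A`. -/
theorem normalizes_unipotent {N : Subgroup G}
    (hNn : A ⊔ B ≤ Subgroup.normalizer (N : Set G)) (hNA : N ≤ Subgroup.normalizer (A : Set G))
    {C : Subgroup G} (hC : C ∈ unipotentSubgroups A B) : N ≤ Subgroup.normalizer (C : Set G) := by
  obtain ⟨x, hx, rfl⟩ := hC
  intro n hn
  rw [mem_normalizer_iff_conjBy, conjBy_conjBy]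
  have h1 : x⁻¹ * n * x ∈ N := by
    have := (Subgroup.mem_normalizer_iff''.mp (hNn hx) n).mp hn
    exact this
  have h2 : n * x = x * (x⁻¹ * n * x) := by group
  rw [h2, ← conjBy_conjBy, mem_normalizer_iff_conjBy.mp (hNA h1)]

theorem le_centralizer_sup_iff {N : Subgroup G} :
    N ≤ Subgroup.centralizer ((A ⊔ B : Subgroup G) : Set G) ↔
      (∀ n ∈ N, ∀ a ∈ A, a * n = n * a) ∧ (∀ n ∈ N, ∀ b ∈ B, b * n = n * b) := by
  rw [Subgroup.le_centralizer_iff, sup_le_iff]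
  constructor
  · rintro ⟨h1, h2⟩
    refine ⟨fun n hn a ha => ?_, fun n hn b hb => ?_⟩
    · exact (Subgroup.mem_centralizer_iff.mp (h1 ha) n hn).symm
    · exact (Subgroup.mem_centralizer_iff.mp (h2 hb) n hn).symm
  · rintro ⟨h1, h2⟩
    refine ⟨fun a ha => ?_, fun b hb => ?_⟩
    · exact Subgroup.mem_centralizer_iff.mpr fun n hn => (h1 n hn a ha).symm
    · exact Subgroup.mem_centralizer_iff.mpr fun n hn => (h2 n hn b hb).symm

theorem mem_centralizer_sup_iff {z : G} :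
    z ∈ Subgroup.centralizer ((A ⊔ B : Subgroup G) : Set G) ↔
      (∀ a ∈ A, a * z = z * a) ∧ (∀ b ∈ B, b * z = z * b) := by
  have := le_centralizer_sup_iff (A := A) (B := B) (N := Subgroup.zpowers z)
  rw [Subgroup.zpowers_le] at this
  rw [this]
  constructor
  · rintro ⟨h1, h2⟩
    exact ⟨fun a ha => h1 z (Subgroup.mem_zpowers z) a ha, fun b hb => h2 z (Subgroup.mem_zpowers z) b hb⟩
  · rintro ⟨h1, h2⟩
    refine ⟨fun n hn a ha => ?_, fun n hn b hb => ?_⟩
    · obtain ⟨k, rfl⟩ := Subgroup.mem_zpowers_iff.mp hn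
      exact ((Commute.zpow_right (h1 a ha) k : Commute a (z ^ k))).eq
    · obtain ⟨k, rfl⟩ := Subgroup.mem_zpowers_iff.mp hn
      exact ((Commute.zpow_right (h2 b hb) k : Commute b (z ^ k))).eq

/-- A subgroup of `A ⊔ B` normalized by `A ⊔ B` and normalizing `A` is central in `A ⊔ B`. -/
theorem rk1_central_of_normalizes (h : IsRankOnePair A B) {N : Subgroup G}
    (hNn : A ⊔ B ≤ Subgroup.normalizer (N : Set G)) (hNA : N ≤ Subgroup.normalizer (A : Set G)) :
    N ≤ Subgroup.centralizer ((A ⊔ B : Subgroup G) : Set G) := by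
  have hNB : N ≤ Subgroup.normalizer (B : Set G) := normalizes_unipotent hNn hNA (rk1_B_mem_unipotent h)
  rw [le_centralizer_sup_iff]
  refine ⟨fun n hn a ha => ?_, fun n hn b hb => ?_⟩
  · have h1 : n * a * n⁻¹ * a⁻¹ ∈ A ⊓ Subgroup.normalizer (B : Set G) := by
      refine ⟨?_, ?_⟩
      · exact A.mul_mem ((Subgroup.mem_normalizer_iff.mp (hNA hn) a).mp ha) (A.inv_mem ha)
      · apply hNB
        have h2 : a * n⁻¹ * a⁻¹ ∈ N :=
          (Subgroup.mem_normalizer_iff.mp (hNn (Subgroup.mem_sup_left ha)) n⁻¹).mp (N.inv_mem hn)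
        have := N.mul_mem hn h2
        simpa [mul_assoc] using this
    rw [rk1_inf_normalizer h, Subgroup.mem_bot] at h1
    have h3 : n * a = a * n := by
      have := congrArg (fun x => x * a * n) h1
      simpa [mul_assoc] using this
    exact h3.symm
  · have h1 : n * b * n⁻¹ * b⁻¹ ∈ B ⊓ Subgroup.normalizer (A : Set G) := by
      refine ⟨?_, ?_⟩
      · exact B.mul_mem ((Subgroup.mem_normalizer_iff.mp (hNB hn) b).mp hb) (B.inv_mem hb)
      · apply hNA
        have h2 : b * n⁻¹ * b⁻¹ ∈ N :=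
          (Subgroup.mem_normalizer_iff.mp (hNn (Subgroup.mem_sup_right hb)) n⁻¹).mp (N.inv_mem hn)
        have := N.mul_mem hn h2
        simpa [mul_assoc] using this
    rw [rk1_inf_normalizer' h, Subgroup.mem_bot] at h1
    have h3 : n * b = b * n := by
      have := congrArg (fun x => x * b * n) h1
      simpa [mul_assoc] using this
    exact h3.symm

/-- Dichotomy for subgroups of `A ⊔ B` normalized by `A ⊔ B`. -/
theorem rk1_normal_dichotomy (h : IsRankOnePair A B) {N : Subgroup G}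
    (hNn : A ⊔ B ≤ Subgroup.normalizer (N : Set G)) (hNle : N ≤ A ⊔ B) :
    B ≤ N ⊔ A ∨ N ≤ Subgroup.centralizer ((A ⊔ B : Subgroup G) : Set G) := by
  by_cases hNA : N ≤ Subgroup.normalizer (A : Set G)
  · right; exact rk1_central_of_normalizes h hNn hNA
  · left
    rw [SetLike.not_le_iff_exists] at hNA
    obtain ⟨n, hn, hn2⟩ := hNA
    rw [mem_normalizer_iff_conjBy] at hn2
    have h1 : conjBy A n ∈ unipotentSubgroups A B := ⟨n, hNle hn, rfl⟩
    obtain ⟨a, ha, ha2⟩ := (rk1_mem_unipotent_ne_iff h).mp ⟨h1, hn2⟩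
    have h2 : B = conjBy A (a⁻¹ * n) := by
      rw [← conjBy_conjBy, ha2, conjBy_conjBy]; simp [conjBy_one]
    rw [h2]
    apply conjBy_le_of_mem le_sup_right
    exact Subgroup.mul_mem _ (Subgroup.mem_sup_right (A.inv_mem ha)) (Subgroup.mem_sup_left hn)

/-- An element of `A ⊔ B` whose commutators with `A ⊔ B` are central in `A ⊔ B` is central. -/
theorem rk1_second_center (h : IsRankOnePair A B) {z : G} (hz : z ∈ A ⊔ B)
    (hc : ∀ y ∈ A ⊔ B, z * y * z⁻¹ * y⁻¹ ∈ Subgroup.centralizer ((A ⊔ B : Subgroup G) : Set G)) :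
    z ∈ Subgroup.centralizer ((A ⊔ B : Subgroup G) : Set G) := by
  -- the subgroup of such elements
  let N : Subgroup G :=
    { carrier := {z | z ∈ A ⊔ B ∧
        ∀ y ∈ A ⊔ B, z * y * z⁻¹ * y⁻¹ ∈ Subgroup.centralizer ((A ⊔ B : Subgroup G) : Set G)}
      one_mem' := ⟨Subgroup.one_mem _, fun y _ => by simp⟩
      mul_mem' := by
        rintro u v ⟨hu, hu2⟩ ⟨hv, hv2⟩
        refine ⟨Subgroup.mul_mem _ hu hv, fun y hy => ?_⟩
        have h1 := hv2 y hy
        have h2 := hu2 y hy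
        have h3 : u * v * y * (u * v)⁻¹ * y⁻¹ = (u * y * u⁻¹ * y⁻¹) * (v * y * v⁻¹ * y⁻¹) := by
          have h4 := Subgroup.mem_centralizer_iff.mp h1 (y * u⁻¹ * y⁻¹)
            (Subgroup.mul_mem _ (Subgroup.mul_mem _ hy (Subgroup.inv_mem _ hu)) (Subgroup.inv_mem _ hy))
          calc u * v * y * (u * v)⁻¹ * y⁻¹ = u * ((v * y * v⁻¹ * y⁻¹) * (y * u⁻¹ * y⁻¹)) := by group
            _ = u * ((y * u⁻¹ * y⁻¹) * (v * y * v⁻¹ * y⁻¹)) := by rw [h4]
            _ = _ := by group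
        rw [h3]
        exact Subgroup.mul_mem _ h2 h1
      inv_mem' := by
        rintro u ⟨hu, hu2⟩
        refine ⟨Subgroup.inv_mem _ hu, fun y hy => ?_⟩
        have h1 := hu2 y hy
        have h4 := Subgroup.mem_centralizer_iff.mp h1 u hu
        have h3 : u⁻¹ * y * u⁻¹⁻¹ * y⁻¹ = (u * y * u⁻¹ * y⁻¹)⁻¹ := by
          have h5 : u⁻¹ * y * u⁻¹⁻¹ * y⁻¹ = u⁻¹ * (u * y * u⁻¹ * y⁻¹)⁻¹ * u := by group
          have hcom : Commute u (u * y * u⁻¹ * y⁻¹) := h4
          have h6 : Commute u⁻¹ (u * y * u⁻¹ * y⁻¹)⁻¹ := hcom.inv_inv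
          rw [h5, h6.eq]; group
        rw [h3]
        exact Subgroup.inv_mem _ h1 }
  have hN : z ∈ N := ⟨hz, hc⟩
  have hNle : N ≤ A ⊔ B := fun u hu => hu.1
  have hNn : A ⊔ B ≤ Subgroup.normalizer (N : Set G) := by
    intro x hx
    rw [Subgroup.mem_normalizer_iff]
    intro u
    have key : ∀ x ∈ A ⊔ B, ∀ u ∈ N, x * u * x⁻¹ ∈ N := by
      rintro x hx u ⟨hu, hu2⟩
      refine ⟨Subgroup.mul_mem _ (Subgroup.mul_mem _ hx hu) (Subgroup.inv_mem _ hx), fun y hy => ?_⟩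
      have hy' : x⁻¹ * y * x ∈ A ⊔ B := Subgroup.mul_mem _ (Subgroup.mul_mem _ (Subgroup.inv_mem _ hx) hy) hx
      have h1 := hu2 _ hy'
      have h2 : x * u * x⁻¹ * y * (x * u * x⁻¹)⁻¹ * y⁻¹ =
          x * (u * (x⁻¹ * y * x) * u⁻¹ * (x⁻¹ * y * x)⁻¹) * x⁻¹ := by group
      rw [h2]
      have h3 := Subgroup.mem_centralizer_iff.mp h1 x hx
      rw [h3]; simpa using h1
    constructor
    · exact key x hx u
    · intro h1
      have := key x⁻¹ (Subgroup.inv_mem _ hx) _ h1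
      simpa [mul_assoc] using this
  have hNA : N ≤ Subgroup.normalizer (A : Set G) := by
    rintro u ⟨hu, hu2⟩
    rw [mem_normalizer_iff_conjBy]
    by_contra hne
    have h1 : conjBy A u ∈ unipotentSubgroups A B := ⟨u, hu, rfl⟩
    obtain ⟨a', ha', ha2'⟩ := (rk1_mem_unipotent_ne_iff h).mp ⟨h1, hne⟩
    -- every element of A normalizes conjBy A u
    have h2 : ∀ a ∈ A, conjBy (conjBy A u) a = conjBy A u := by
      intro a ha
      have hc := hu2 a (Subgroup.mem_sup_left ha)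
      set c := u * a * u⁻¹ * a⁻¹ with hcdef
      have h3 : a * u = c⁻¹ * u * a := by rw [hcdef]; group
      have h4 : c⁻¹ ∈ Subgroup.normalizer ((conjBy A u : Subgroup G) : Set G) := by
        apply Subgroup.centralizer_le_normalizer
        apply Subgroup.centralizer_le _ (Subgroup.inv_mem _ hc)
        exact SetLike.coe_subset_coe.mpr (conjBy_le_of_mem le_sup_left hu)
      rw [conjBy_conjBy, h3, mul_assoc, ← conjBy_conjBy, ← conjBy_conjBy, conjBy_self_mem ha]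
      exact mem_normalizer_iff_conjBy.mp h4
    rw [ha2'] at h2
    obtain ⟨a, ha, ha1⟩ := rk1_exists_ne_one h
    apply rk1_not_normalize h ha ha1
    have h5 := h2 (a' * a * a'⁻¹) (A.mul_mem (A.mul_mem ha' ha) (A.inv_mem ha'))
    rw [conjBy_conjBy] at h5
    have h6 : a' * a * a'⁻¹ * a' = a' * a := by group
    rw [h6, ← conjBy_conjBy, conjBy_inj] at h5
    exact h5
  exact rk1_central_of_normalizes h hNn hNA hN

end RankOne

end Cfsg.Agent.Lib.Helper86
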