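import Mathlib
import Cfsg.Prelude.Def_RootSubgroups
import Cfsg.Agent.Lib.Helper86.RankOne

set_option autoImplicit false

namespace Cfsg.Agent.Lib.Helper86

open Cfsg

variable {G : Type*} [Group G]

theorem comm_of_isMulCommutative {A : Subgroup G} (hA : IsMulCommutative A) {x y : G}
    (hx : x ∈ A) (hy : y ∈ A) : x * y = y * x := by
  have := hA.is_comm.comm ⟨x, hx⟩ ⟨y, hy⟩
  exact congrArg Subtype.val this

theorem commutator_eq_bot_iff_comm {A B : Subgroup G} :
    ⁅A, B⁆ = ⊥ ↔ ∀ a ∈ A, ∀ b ∈ B, a * b = b * a := by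
  rw [Subgroup.commutator_eq_bot_iff_le_centralizer]
  constructor
  · intro h a ha b hb
    exact (Subgroup.mem_centralizer_iff.mp (h ha) b hb).symm
  · intro h a ha
    exact Subgroup.mem_centralizer_iff.mpr fun b hb => (h a ha b hb).symm

section RankOne

variable {A B : Subgroup G}

theorem rk1_conj (h : IsRankOnePair A B) (x : G) : IsRankOnePair (conjBy A x) (conjBy B x) := by
  have key : ∀ {A B : Subgroup G}, RankOneCondition A B → RankOneCondition (conjBy A x) (conjBy B x) := by
    intro A B hc a' ha' ha1'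
    rw [mem_conjBy] at ha'
    have ha1 : x⁻¹ * a' * x ≠ 1 := by
      intro h1
      apply ha1'
      have := congrArg (fun y => x * y * x⁻¹) h1
      simpa [mul_assoc] using this
    obtain ⟨b, hb, hb1, hb2⟩ := hc _ ha' ha1
    refine ⟨x * b * x⁻¹, conj_mem_conjBy hb, ?_, ?_⟩
    · intro h1
      apply hb1
      have := congrArg (fun y => x⁻¹ * y * x) h1
      simpa [mul_assoc] using this
    · rw [conjBy_conjBy, conjBy_conjBy]
      have e1 : (x * b * x⁻¹)⁻¹ * x = x * b⁻¹ := by group
      have e2 : a'⁻¹ * x = x * (x⁻¹ * a' * x)⁻¹ := by group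
      rw [e1, e2, ← conjBy_conjBy, ← conjBy_conjBy, hb2]
  refine ⟨?_, ?_, ?_, key h.cond_left, key h.cond_right⟩
  · intro h1
    exact h.ne (conjBy_inj.mp h1)
  · have := h.nilpotent_left
    exact Group.nilpotent_of_mulEquiv
      (A.equivMapOfInjective (MulAut.conj x).toMonoidHom (MulAut.conj x).injective)
  · have := h.nilpotent_right
    exact Group.nilpotent_of_mulEquiv
      (B.equivMapOfInjective (MulAut.conj x).toMonoidHom (MulAut.conj x).injective)

theorem rk1_not_commute (h : IsRankOnePair A B) : ¬ (∀ a ∈ A, ∀ b ∈ B, a * b = b * a) := by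
  intro hc
  apply rk1_left_ne_bot h
  rw [← rk1_inf_normalizer h]
  symm
  apply inf_of_le_left
  intro a ha
  apply Subgroup.centralizer_le_normalizer
  exact Subgroup.mem_centralizer_iff.mpr fun b hb => (hc a ha b hb).symm

theorem rk1_inf_eq_bot (h : IsRankOnePair A B) : A ⊓ B = ⊥ := by
  rw [eq_bot_iff, ← rk1_inf_normalizer h]
  exact inf_le_inf_left A Subgroup.le_normalizer

/-- Elements `a ∈ A#`, `b ∈ B#` never commute when `A` is abelian. -/
theorem rk1_abelian_no_commute (h : IsRankOnePair A B) (hA : IsMulCommutative A) {a b : G}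
    (ha : a ∈ A) (ha1 : a ≠ 1) (hb : b ∈ B) (hb1 : b ≠ 1) : a * b ≠ b * a := by
  intro hab
  obtain ⟨a', ha', -, h2⟩ := rk1_cond' h hb hb1
  have h3 : a ∈ conjBy A b := by
    rw [mem_conjBy]
    have : b⁻¹ * a * b = a := by rw [mul_assoc, hab, ← mul_assoc]; simp
    rw [this]; exact ha
  rw [h2, mem_conjBy] at h3
  have h4 : a'⁻¹ * a * a' = a := by
    rw [mul_assoc, comm_of_isMulCommutative hA ha ha', ← mul_assoc]; simp
  rw [h4] at h3
  have h5 : a ∈ A ⊓ B := ⟨ha, h3⟩
  rw [rk1_inf_eq_bot h, Subgroup.mem_bot] at h5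
  exact ha1 h5

/-- If `B` commutes elementwise with a conjugate of `A` by an element of `B`, contradiction. -/
theorem rk1_not_commute_conj (h : IsRankOnePair A B) {b : G} (hb : b ∈ B) :
    ¬ (∀ b' ∈ B, ∀ y ∈ conjBy A b, b' * y = y * b') := by
  intro hc
  apply rk1_not_commute h
  intro a ha b' hb'
  have h1 := hc (b * b' * b⁻¹) (B.mul_mem (B.mul_mem hb hb') (B.inv_mem hb)) (b * a * b⁻¹) (conj_mem_conjBy ha)
  have h2 : b * (b' * a) * b⁻¹ = b * (a * b') * b⁻¹ := by
    calc b * (b' * a) * b⁻¹ = (b * b' * b⁻¹) * (b * a * b⁻¹) := by group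
      _ = (b * a * b⁻¹) * (b * b' * b⁻¹) := h1
      _ = _ := by group
  have h3 : b' * a = a * b' := by
    have := congrArg (fun y => b⁻¹ * y * b) h2
    simpa [mul_assoc] using this
  exact h3.symm

/-- Centralizer of `A` inside `A ⊔ B`, for abelian `A`. -/
theorem rk1_centralizer_left (h : IsRankOnePair A B) (hA : IsMulCommutative A) {y : G}
    (hy : y ∈ A ⊔ B) (hc : ∀ a ∈ A, a * y = y * a) :
    ∃ e ∈ A, ∃ z ∈ Subgroup.centralizer ((A ⊔ B : Subgroup G) : Set G), y = e * z := by
  have hyN : conjBy A y = A := by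
    apply mem_normalizer_iff_conjBy.mp
    apply Subgroup.centralizer_le_normalizer
    exact Subgroup.mem_centralizer_iff.mpr hc
  have h1 : conjBy B y ∈ unipotentSubgroups A B := unipotent_conjBy_mem (rk1_B_mem_unipotent h) hy
  have h2 : conjBy B y ≠ A := by
    intro h3
    rw [← hyN, conjBy_inj] at h3
    exact h.ne h3.symm
  obtain ⟨e, he, he2⟩ := (rk1_mem_unipotent_ne_iff h).mp ⟨h1, h2⟩
  refine ⟨e, he, e⁻¹ * y, ?_, by group⟩
  set z := e⁻¹ * y with hz
  have hzB : conjBy B z = B := by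
    rw [hz, ← conjBy_conjBy, he2, conjBy_conjBy]; simp [conjBy_one]
  have hzA : ∀ a ∈ A, a * z = z * a := by
    intro a ha
    rw [hz, ← mul_assoc, comm_of_isMulCommutative hA ha (A.inv_mem he), mul_assoc, hc a ha, mul_assoc]
  have hzAn : conjBy A z = A := by
    apply mem_normalizer_iff_conjBy.mp
    apply Subgroup.centralizer_le_normalizer
    exact Subgroup.mem_centralizer_iff.mpr hzA
  rw [mem_centralizer_sup_iff]
  refine ⟨hzA, ?_⟩
  intro f hf
  by_cases hf1 : f = 1
  · rw [hf1]; simp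
  obtain ⟨e1, he1, -, h3⟩ := rk1_cond' h hf hf1
  have h4 : conjBy A (z * f * z⁻¹) = conjBy A f := by
    have e5 : conjBy (conjBy A f) z = conjBy (conjBy B e1) z := by rw [h3]
    have e6 : conjBy (conjBy A f) z = conjBy A (z * f * z⁻¹) := by
      calc conjBy (conjBy A f) z = conjBy A (z * f) := conjBy_conjBy _ _ _
        _ = conjBy A ((z * f * z⁻¹) * z) := by rw [show (z * f * z⁻¹) * z = z * f by group]
        _ = conjBy (conjBy A z) (z * f * z⁻¹) := (conjBy_conjBy _ _ _).symm
        _ = conjBy A (z * f * z⁻¹) := by rw [hzAn]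
    have e7 : conjBy (conjBy B e1) z = conjBy B e1 := by
      rw [conjBy_conjBy, ← hzA e1 he1, ← conjBy_conjBy, hzB]
    rw [← e6, e5, e7, h3]
  have h5 : z * f * z⁻¹ ∈ B := by
    have := conj_mem_conjBy (g := z) hf
    rwa [hzB] at this
  have h6 := rk1_conjBy_inj (RankOnePair_symm h) h5 hf h4
  have := congrArg (fun y => y * z) h6
  simpa [mul_assoc] using this.symm

end RankOne


section RootSets

variable {S : Set (Subgroup G)} {A B C : Subgroup G}

theorem nonisolated_exists (hAS : A ∈ S) (hA : ¬ IsIsolatedIn (FAdj S) S A) :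
    ∃ B ∈ S, IsRankOnePair A B := by
  unfold IsIsolatedIn at hA
  push Not at hA
  obtain ⟨B, hB⟩ := hA hAS
  by_cases h1 : FAdj S A B
  · exact ⟨B, h1.2.1, h1.2.2⟩
  · obtain ⟨hB1, _, hB3⟩ := hB h1
    exact ⟨B, hB1, RankOnePair_symm hB3⟩

/-- In the commutator case `B` commutes elementwise with its conjugates under `C`. -/
theorem commcase_conj_commute (hB : IsMulCommutative B) (hc : RootCommutatorCase S B C)
    {x : G} (hx : x ∈ C) : ∀ b' ∈ B, ∀ y ∈ conjBy B x, b' * y = y * b' := by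
  intro b' hb' y hy
  rw [mem_conjBy] at hy
  obtain ⟨b, hb, rfl⟩ : ∃ b ∈ B, y = x * b * x⁻¹ := ⟨x⁻¹ * y * x, hy, by group⟩
  have hcm : b * x * b⁻¹ * x⁻¹ ∈ ⁅B, C⁆ := Subgroup.commutator_mem_commutator hb hx
  have hcm' : (b * x * b⁻¹ * x⁻¹)⁻¹ ∈ ⁅B, C⁆ := Subgroup.inv_mem _ hcm
  have h1 : x * b * x⁻¹ = (b * x * b⁻¹ * x⁻¹)⁻¹ * b := by group
  have h2 := hc.2.1 _ hcm' b' (Subgroup.mem_sup_left hb')
  generalize (b * x * b⁻¹ * x⁻¹)⁻¹ = c at h1 h2
  rw [h1, ← mul_assoc, ← h2, mul_assoc, comm_of_isMulCommutative hB hb' hb, mul_assoc]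

/-- Core of S5028: a member with a rank one partner meets every other member trivially. -/
theorem root_inter (hS : IsRootSubgroupSet S) (hA : A ∈ S) (hB : B ∈ S) (h : IsRankOnePair A B)
    (hC : C ∈ S) : A ⊓ C = ⊥ ∨ A = C := by
  by_contra hcon
  push Not at hcon
  obtain ⟨h1, h2⟩ := hcon
  have : ∃ x ∈ A ⊓ C, x ≠ 1 := by
    by_contra h3
    push Not at h3
    apply h1
    rw [eq_bot_iff]
    intro x hx
    rw [Subgroup.mem_bot]
    exact h3 x hx
  obtain ⟨x, hx, hx1⟩ := this
  obtain ⟨hxA, hxC⟩ := Subgroup.mem_inf.mp hx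
  have hAc := hS.commutative A hA
  have hBc := hS.commutative B hB
  obtain ⟨b, hb, hb1, hb2⟩ := rk1_cond h hxA hx1
  rcases hS.pair B hB C hC with h3 | h3 | h3
  · -- B and C commute
    rw [commutator_eq_bot_iff_comm] at h3
    have : x ∈ A ⊓ Subgroup.normalizer (B : Set G) := by
      refine ⟨hxA, ?_⟩
      apply Subgroup.centralizer_le_normalizer
      exact Subgroup.mem_centralizer_iff.mpr fun b hb => h3 b hb x hxC
    rw [rk1_inf_normalizer h, Subgroup.mem_bot] at this
    exact hx1 this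
  · -- rank one pair (B, C)
    obtain ⟨b', hb', hb1', hb2'⟩ := rk1_cond (RankOnePair_symm h3) hxC hx1
    have h4 : C = conjBy A (b'⁻¹ * b) := by
      rw [← conjBy_conjBy, ← hb2, hb2', conjBy_conjBy]; simp [conjBy_one]
    by_cases h5 : b'⁻¹ * b = 1
    · rw [h5, conjBy_one] at h4
      exact h2 h4.symm
    · obtain ⟨a'', ha'', -, h6⟩ := rk1_cond' h (B.mul_mem (B.inv_mem hb') hb) h5
      rw [h6] at h4
      rw [h4, mem_conjBy] at hxC
      have h7 : a''⁻¹ * x * a'' = x := by
        rw [mul_assoc, comm_of_isMulCommutative hAc hxA ha'', ← mul_assoc]; simp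
      rw [h7] at hxC
      have : x ∈ A ⊓ B := ⟨hxA, hxC⟩
      rw [rk1_inf_eq_bot h, Subgroup.mem_bot] at this
      exact hx1 this
  · -- commutator case
    have h4 := commcase_conj_commute hBc h3 hxC
    rw [hb2] at h4
    exact rk1_not_commute_conj h hb h4

/-- Core of S5025. -/
theorem root_central_translate (hS : IsRootSubgroupSet S) (hA : A ∈ S) (hB : B ∈ S)
    (h : IsRankOnePair A B) {z : G}
    (hz : z ∈ Subgroup.centralizer ((A ⊔ B : Subgroup G) : Set G)) (hz1 : z ≠ 1)
    {a : G} (ha : a ∈ A) (ha1 : a ≠ 1) : z * a ∉ rootElements S := by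
  rintro ⟨hza1, C, hC, hzaC⟩
  rw [mem_centralizer_sup_iff] at hz
  obtain ⟨hzA, hzB⟩ := hz
  have hAc := hS.commutative A hA
  have hBc := hS.commutative B hB
  have hzBn : conjBy B z = B := by
    apply mem_normalizer_iff_conjBy.mp
    apply Subgroup.centralizer_le_normalizer
    exact Subgroup.mem_centralizer_iff.mpr hzB
  have hconj : conjBy B (z * a) = conjBy B a := by
    rw [← hzA a ha, ← conjBy_conjBy, hzBn]
  obtain ⟨b, hb, hb1, hb2⟩ := rk1_cond h ha ha1
  -- `a` cannot normalize `B`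
  have hnot : ¬ (∀ b ∈ B, b * a = a * b) := by
    intro hc
    have : a ∈ A ⊓ Subgroup.normalizer (B : Set G) := by
      refine ⟨ha, ?_⟩
      apply Subgroup.centralizer_le_normalizer
      exact Subgroup.mem_centralizer_iff.mpr hc
    rw [rk1_inf_normalizer h, Subgroup.mem_bot] at this
    exact ha1 this
  -- if `z * a` commutes with `B` then so does `a`
  have hred : (∀ b ∈ B, b * (z * a) = (z * a) * b) → False := by
    intro hc
    apply hnot
    intro b hb
    have h1 := hc b hb
    rw [← mul_assoc, hzB b hb, mul_assoc, mul_assoc] at h1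
    exact mul_left_cancel h1
  rcases hS.pair B hB C hC with h3 | h3 | h3
  · rw [commutator_eq_bot_iff_comm] at h3
    exact hred fun b hb => h3 b hb _ hzaC
  · obtain ⟨b', hb', hb1', hb2'⟩ := rk1_cond (RankOnePair_symm h3) hzaC hza1
    rw [hconj] at hb2'
    have h4 : C = conjBy A (b'⁻¹ * b) := by
      rw [← conjBy_conjBy, ← hb2, hb2', conjBy_conjBy]; simp [conjBy_one]
    by_cases h5 : b'⁻¹ * b = 1
    · rw [h5, conjBy_one] at h4
      rw [h4] at hzaC
      have hzmem : z ∈ A := by
        have := A.mul_mem hzaC (A.inv_mem ha)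
        simpa using this
      have : z ∈ A ⊓ Subgroup.normalizer (B : Set G) := by
        refine ⟨hzmem, ?_⟩
        apply Subgroup.centralizer_le_normalizer
        exact Subgroup.mem_centralizer_iff.mpr hzB
      rw [rk1_inf_normalizer h, Subgroup.mem_bot] at this
      exact hz1 this
    · obtain ⟨a'', ha'', -, h6⟩ := rk1_cond' h (B.mul_mem (B.inv_mem hb') hb) h5
      rw [h6] at h4
      rw [h4, mem_conjBy] at hzaC
      have h7 : a''⁻¹ * (z * a) * a'' = z * a := by
        have e1 : a * a'' = a'' * a := comm_of_isMulCommutative hAc ha ha''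
        have e2 : a'' * z = z * a'' := hzA a'' ha''
        calc a''⁻¹ * (z * a) * a'' = a''⁻¹ * z * (a * a'') := by group
          _ = a''⁻¹ * z * (a'' * a) := by rw [e1]
          _ = a''⁻¹ * (z * a'') * a := by group
          _ = a''⁻¹ * (a'' * z) * a := by rw [e2]
          _ = z * a := by group
      rw [h7] at hzaC
      exact hred fun b hb => comm_of_isMulCommutative hBc hb hzaC
  · have h4 := commcase_conj_commute hBc h3 hzaC
    rw [hconj, hb2] at h4
    exact rk1_not_commute_conj h hb h4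

end RootSets

end Cfsg.Agent.Lib.Helper86
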