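import Mathlib
import Cfsg.Prelude.Def_RootSubgroups
import Cfsg.Agent.Lib.Helper86.RootSets

set_option autoImplicit false

namespace Cfsg.Agent.Lib.Helper86

open Cfsg

variable {G : Type*} [Group G] {S : Set (Subgroup G)}

/-- If `⁅B, C⁆` commutes elementwise with the abelian group `B`, then `B` commutes elementwise
with its conjugates under `C`. -/
theorem central_comm_conj_commute {B C : Subgroup G} (hB : IsMulCommutative B)
    (hcen : ∀ c ∈ ⁅B, C⁆, ∀ x ∈ B, c * x = x * c)
    {x : G} (hx : x ∈ C) : ∀ b' ∈ B, ∀ y ∈ conjBy B x, b' * y = y * b' := by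
  intro b' hb' y hy
  rw [mem_conjBy] at hy
  obtain ⟨b, hb, rfl⟩ : ∃ b ∈ B, y = x * b * x⁻¹ := ⟨x⁻¹ * y * x, hy, by group⟩
  have hcm : b * x * b⁻¹ * x⁻¹ ∈ ⁅B, C⁆ := Subgroup.commutator_mem_commutator hb hx
  have hcm' : (b * x * b⁻¹ * x⁻¹)⁻¹ ∈ ⁅B, C⁆ := Subgroup.inv_mem _ hcm
  have h1 : x * b * x⁻¹ = (b * x * b⁻¹ * x⁻¹)⁻¹ * b := by group
  have h2 := hcen _ hcm' b' hb'
  generalize (b * x * b⁻¹ * x⁻¹)⁻¹ = c at h1 h2
  rw [h1, ← mul_assoc, ← h2, mul_assoc, comm_of_isMulCommutative hB hb' hb, mul_assoc]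

/-- A member of `S` inside the rank one group `E ⊔ F` (with a rank one partner there) which
normalizes `E` equals `E`. -/
theorem root_normalizes_eq (hS : IsRootSubgroupSet S) {E F A' B' : Subgroup G}
    (hE : E ∈ S) (hF : F ∈ S) (hEF : IsRankOnePair E F)
    (hA' : A' ∈ S) (h' : IsRankOnePair A' B') (hA'le : A' ≤ E ⊔ F) (hB'le : B' ≤ E ⊔ F)
    (hn : A' ≤ Subgroup.normalizer (E : Set G)) : A' = E := by
  rcases hS.pair A' hA' E hE with h1 | h1 | h1
  · rw [commutator_eq_bot_iff_comm] at h1
    obtain ⟨a', ha', ha1'⟩ := rk1_exists_ne_one h'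
    obtain ⟨e, he, z, hz, hez⟩ := rk1_centralizer_left hEF (hS.commutative E hE) (hA'le ha')
      (fun e he => (h1 a' ha' e he).symm)
    by_cases hz1 : z = 1
    · rw [hz1, mul_one] at hez
      rcases root_inter hS hE hF hEF hA' with h2 | h2
      · exfalso
        have : a' ∈ E ⊓ A' := ⟨hez ▸ he, ha'⟩
        rw [h2, Subgroup.mem_bot] at this
        exact ha1' this
      · exact h2.symm
    · exfalso
      by_cases he1 : e = 1
      · rw [he1, one_mul] at hez
        have : a' ∈ A' ⊓ Subgroup.normalizer (B' : Set G) := by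
          refine ⟨ha', ?_⟩
          apply Subgroup.centralizer_le_normalizer
          rw [hez]
          exact Subgroup.centralizer_le (SetLike.coe_subset_coe.mpr hB'le) hz
        rw [rk1_inf_normalizer h', Subgroup.mem_bot] at this
        exact ha1' this
      · have h2 := root_central_translate hS hE hF hEF hz hz1 he he1
        apply h2
        have h3 : z * e = e * z := (Subgroup.mem_centralizer_iff.mp hz e (Subgroup.mem_sup_left he)).symm
        rw [h3, ← hez]
        exact ⟨ha1', A', hA', ha'⟩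
  · exfalso
    apply rk1_left_ne_bot h1
    rw [← rk1_inf_normalizer h1]
    symm
    exact inf_of_le_left hn
  · exfalso
    obtain ⟨hK, hcen, -, -⟩ := h1
    have hKle : ⁅A', E⁆ ≤ E := by
      rw [Subgroup.commutator_le]
      intro a ha e he
      have h2 : a * e * a⁻¹ ∈ E := (Subgroup.mem_normalizer_iff.mp (hn ha) e).mp he
      exact E.mul_mem h2 (E.inv_mem he)
    have hKne := hS.ne_bot _ hK
    rcases root_inter hS hE hF hEF hK with h2 | h2
    · rw [inf_of_le_right hKle] at h2
      exact hKne h2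
    · apply hKne
      rw [commutator_eq_bot_iff_comm]
      intro a ha e he
      have : e ∈ ⁅A', E⁆ := h2 ▸ he
      exact (hcen e this a (Subgroup.mem_sup_left ha)).symm

/-- A member of `S` lying in the rank one group `C ⊔ D` together with a rank one partner is
a conjugate of `C` under `C ⊔ D`. -/
theorem root_mem_unipotent (hS : IsRootSubgroupSet S) {C D A' B' : Subgroup G}
    (hC : C ∈ S) (hD : D ∈ S) (hCD : IsRankOnePair C D)
    (hA' : A' ∈ S) (h' : IsRankOnePair A' B') (hA'le : A' ≤ C ⊔ D) (hB'le : B' ≤ C ⊔ D) :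
    A' ∈ unipotentSubgroups C D := by
  by_contra hnot
  have hnn : ¬ A' ≤ Subgroup.normalizer (C : Set G) := by
    intro hn
    have := root_normalizes_eq hS hC hD hCD hA' h' hA'le hB'le hn
    exact hnot (this ▸ rk1_A_mem_unipotent C D)
  have hrk : IsRankOnePair A' C := by
    rcases hS.pair A' hA' C hC with h1 | h1 | h1
    · exfalso
      apply hnn
      rw [Subgroup.commutator_eq_bot_iff_le_centralizer] at h1
      exact h1.trans (Subgroup.centralizer_le_normalizer _)
    · exact h1
    · exfalso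
      apply hnn
      intro a ha
      rw [mem_normalizer_iff_conjBy]
      by_contra hne
      have hmem : conjBy C a ∈ unipotentSubgroups C D :=
        unipotent_conjBy_mem (rk1_A_mem_unipotent C D) (hA'le ha)
      obtain ⟨x, hx, hx1, hx2⟩ := rk1_two_transitive_aux hCD (rk1_A_mem_unipotent C D) hmem (Ne.symm hne)
      have hpair : IsRankOnePair C (conjBy C a) := by
        have := rk1_conj hCD x
        rwa [hx1, hx2] at this
      apply rk1_not_commute hpair
      have hcen : ∀ c ∈ ⁅C, A'⁆, ∀ x ∈ C, c * x = x * c := by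
        intro c hc x hx
        rw [Subgroup.commutator_comm] at hc
        exact h1.2.1 c hc x (Subgroup.mem_sup_right hx)
      exact central_comm_conj_commute (hS.commutative C hC) hcen ha
  obtain ⟨a, ha, ha1⟩ := rk1_exists_ne_one h'
  obtain ⟨c, hc, -, hc2⟩ := rk1_cond hrk ha ha1
  apply hnot
  refine ⟨c⁻¹ * a, Subgroup.mul_mem _ (Subgroup.mem_sup_left (C.inv_mem hc)) (hA'le ha), ?_⟩
  rw [← conjBy_conjBy, hc2, conjBy_conjBy]; simp [conjBy_one]

end Cfsg.Agent.Lib.Helper86
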