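import Mathlib
import Cfsg.Agent.Lib.Helper74.FCDefs
import Cfsg.Agent.Lib.Helper01.FrobComplNilp
import Cfsg.Agent.Lib.Helper01.FrobPackage

set_option autoImplicit false

/-!
# K-S3359-6 (architect helper74): odd Sylow subgroups of subgroups of a Frobenius complement are cyclic
-/

universe u

namespace Cfsg.Agent.Lib.Helper86.FC

open Cfsg.Agent.Lib.Helper74.FC

/-- A `p`-group (`p` odd) occurring as a Frobenius complement is cyclic. -/
theorem isCyclic_of_isFC_of_isPGroup {D : Type u} [Group D] (h : IsFC D) (p : ℕ)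
    [Fact p.Prime] (hp2 : p ≠ 2) (hD : IsPGroup p D) : IsCyclic D := by
  obtain ⟨L, instL, finL, H, hH, ⟨e⟩⟩ := h
  obtain ⟨N, hN, hNn, hNc⟩ := Cfsg.Agent.S0035.result H hH
  have pkg := Cfsg.Agent.Lib.Helper01.frobPkg_of H N hH hN
  haveI := hNn
  have hHp : IsPGroup p H := hD.of_equiv e
  let R : Sylow p H := default
  have hRc : IsCyclic R :=
    Cfsg.Agent.Lib.Helper01.sylow_cyclic_of_fpf_of_odd N H hNc pkg.N_ne pkg.fpf p hp2 R
  have hRtop : (⊤ : Subgroup H) = R := R.is_maximal' (hHp.to_subgroup ⊤) le_top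
  -- surjection R → D
  have hsurj : Function.Surjective (e.symm.toMonoidHom.comp (R : Subgroup H).subtype) := by
    intro d
    have hmem : e d ∈ (R : Subgroup H) := by rw [← hRtop]; exact Subgroup.mem_top _
    exact ⟨⟨e d, hmem⟩, by simp⟩
  exact isCyclic_of_surjective _ hsurj

/-- K-S3359-6. -/
theorem sylow_cyclic_of_ne_two {G : Type u} [Group G] [Finite G]
    (hsub : ∀ D : Subgroup G, D ≠ ⊥ → IsFC D) (M : Subgroup G) (p : ℕ) [Fact p.Prime] (hp2 : p ≠ 2)
    (P : Sylow p M) : IsCyclic P := by
  by_cases hP : (P : Subgroup M) = ⊥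
  · haveI : Subsingleton (P : Subgroup M) := by
      rw [hP]; infer_instance
    exact isCyclic_of_subsingleton
  · set D : Subgroup G := (P : Subgroup M).map M.subtype with hDdef
    have hDne : D ≠ ⊥ := by
      intro hbot
      apply hP
      rw [hDdef, Subgroup.map_eq_bot_iff_of_injective _ M.subtype_injective] at hbot
      exact hbot
    let f : (P : Subgroup M) ≃* D :=
      (P : Subgroup M).equivMapOfInjective M.subtype M.subtype_injective
    have hDp : IsPGroup p D := P.isPGroup'.of_equiv f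
    have hDc : IsCyclic D := isCyclic_of_isFC_of_isPGroup (hsub D hDne) p hp2 hDp
    exact isCyclic_of_surjective f.symm.toMonoidHom f.symm.surjective

end Cfsg.Agent.Lib.Helper86.FC
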