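import Mathlib
import Cfsg.Agent.S4208
import Cfsg.Agent.Lib.Helper01.FCStructA
import Cfsg.Agent.Lib.Helper42.Meta2

/-!
# K-S4118-8: an odd-order group normalizing a `2`-group with at most one involution

`[T,T]` centralizes `P`.  Route: `P` is metacyclic (Helper01), hence `2`-generated, so
`|P/Φ(P)| ≤ 4` (Helper42.Meta2) and `|Aut P|` divides `2^k * 6` (S4208).  The image of `T` in
`Aut P` has odd order dividing `2^k * 6`, hence order dividing `3`, hence is commutative.
-/

set_option autoImplicit false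

namespace Cfsg.Agent.Lib.Helper86.TIHall

variable {G : Type*} [Group G]

/-- conjugation action of a subgroup of the normalizer -/
def k8conj (P T : Subgroup G) (hT : T ≤ Subgroup.normalizer (P : Set G)) : T →* MulAut P where
  toFun t :=
    { toFun := fun x => ⟨(t : G) * x * (t : G)⁻¹,
        (Subgroup.mem_normalizer_iff.1 (hT t.2) x).1 x.2⟩
      invFun := fun x => ⟨(t : G)⁻¹ * x * (t : G), by
        have h := (Subgroup.mem_normalizer_iff.1 (hT t.2) ((t : G)⁻¹ * x * (t : G))).2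
        apply h
        have : (t : G) * ((t : G)⁻¹ * x * (t : G)) * (t : G)⁻¹ = x := by group
        rw [this]
        exact x.2⟩
      left_inv := fun x => by
        apply Subtype.ext
        simp only
        group
      right_inv := fun x => by
        apply Subtype.ext
        simp only
        group
      map_mul' := fun x y => by
        apply Subtype.ext
        simp only [Subgroup.coe_mul]
        group }
  map_one' := by
    ext x
    simp
  map_mul' s t := by
    ext x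
    simp only [Subgroup.coe_mul, MulAut.mul_apply, MulEquiv.coe_mk, Equiv.coe_fn_mk, mul_inv_rev]
    group

theorem k8conj_apply (P T : Subgroup G) (hT : T ≤ Subgroup.normalizer (P : Set G)) (t : T) (x : P) :
    ((k8conj P T hT t) x : G) = (t : G) * x * (t : G)⁻¹ := rfl

/-- a group with a cyclic normal subgroup and cyclic quotient is `2`-generated -/
theorem k8_two_generated {X : Type*} [Group X] (N : Subgroup X) [N.Normal] (hN : IsCyclic N)
    (hQ : IsCyclic (X ⧸ N)) : ∃ a b : X, Subgroup.zpowers a ⊔ Subgroup.zpowers b = ⊤ := by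
  obtain ⟨a, ha⟩ := hN.exists_generator
  obtain ⟨bq, hb⟩ := hQ.exists_generator
  obtain ⟨b, rfl⟩ := QuotientGroup.mk_surjective bq
  refine ⟨(a : X), b, ?_⟩
  rw [eq_top_iff]
  intro x _
  obtain ⟨k, hk⟩ := Subgroup.mem_zpowers_iff.1 (hb (QuotientGroup.mk x))
  have h1 : ((b ^ k : X) : X ⧸ N) = (x : X ⧸ N) := by
    rw [← hk]; rfl
  have h2 : (b ^ k)⁻¹ * x ∈ N := QuotientGroup.eq.1 h1
  obtain ⟨j, hj⟩ := Subgroup.mem_zpowers_iff.1 (ha ⟨_, h2⟩)
  have h3 : ((a : X)) ^ j = (b ^ k)⁻¹ * x := by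
    have := congrArg (fun z : N => (z : X)) hj
    simpa using this
  have h4 : x = b ^ k * (a : X) ^ j := by
    rw [h3]; group
  rw [h4]
  exact Subgroup.mul_mem _
    (Subgroup.mem_sup_right (Subgroup.zpow_mem_zpowers b k))
    (Subgroup.mem_sup_left (Subgroup.zpow_mem_zpowers (a : X) j))

/-- arithmetic: an odd number dividing `2^k * (one of 1, 1, 6)` divides `3`. -/
theorem k8_arith (m k c : ℕ) (hm : Odd m) (hc : c ∣ 6) (h : m ∣ 2 ^ k * c) : m ∣ 3 := by
  have h6 : m ∣ 2 ^ k * 6 := h.trans (Nat.mul_dvd_mul_left _ hc)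
  have h2 : (2 ^ k * 6 : ℕ) = 2 ^ (k + 1) * 3 := by ring
  rw [h2] at h6
  have hcop : Nat.Coprime m (2 ^ (k + 1)) :=
    Nat.Coprime.pow_right _ (Nat.coprime_two_right.2 hm)
  exact hcop.dvd_of_dvd_mul_left h6

/-- K8. An odd-order group `T` normalizing a `2`-group `P` with at most one involution:
`[T,T]` centralizes `P`. -/
theorem commutator_le_centralizer_of_two_group {G : Type*} [Group G] [Finite G] (P T : Subgroup G)
    (hP : IsPGroup 2 P)
    (hinv : ∀ s ∈ P, ∀ t ∈ P, orderOf s = 2 → orderOf t = 2 → s = t)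
    (hT : T ≤ Subgroup.normalizer (P : Set G)) (hodd : Odd (Nat.card T)) :
    ⁅T, T⁆ ≤ Subgroup.centralizer (P : Set G) := by
  haveI : Fact (Nat.Prime 2) := ⟨Nat.prime_two⟩
  -- structure of P
  have hinv' : ∀ s t : P, orderOf s = 2 → orderOf t = 2 → s = t := by
    intro s t hs ht
    apply Subtype.ext
    apply hinv _ s.2 _ t.2
    · rw [← hs]; exact (Subgroup.orderOf_coe s)
    · rw [← ht]; exact (Subgroup.orderOf_coe t)
  obtain ⟨N, hNn, hNc, hQc⟩ := Cfsg.Agent.Lib.Helper01.metacyclic_of_unique_involution hP hinv'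
  obtain ⟨a, b, hab⟩ := k8_two_generated N hNc hQc
  have hV : Nat.card (↥P ⧸ frattini ↥P) ≤ 4 :=
    Cfsg.Agent.Lib.Helper42.Meta2.card_frattini_quotient_le hP a b hab
  -- order of Aut P
  obtain ⟨n, hn⟩ := hP.exists_card_eq
  have hidx : ∃ r, (frattini ↥P).index = 2 ^ r := by
    have hdvd : (frattini ↥P).index ∣ 2 ^ n := by
      rw [← hn]; exact Subgroup.index_dvd_card _
    obtain ⟨r, -, hr⟩ := (Nat.dvd_prime_pow Nat.prime_two).1 hdvd
    exact ⟨r, hr⟩
  obtain ⟨r, hr⟩ := hidx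
  have hr2 : r ≤ 2 := by
    have h1 : (frattini ↥P).index ≤ 4 := hV
    rw [hr] at h1
    by_contra hcon
    push_neg at hcon
    have : 2 ^ 3 ≤ 2 ^ r := Nat.pow_le_pow_right (by norm_num) hcon
    omega
  have hAut := Cfsg.Agent.S4208.result (P := ↥P) (p := 2) (n := n) (r := r) hn hr
  have hc6 : (∏ i ∈ Finset.range r, (2 ^ r - 2 ^ i)) ∣ 6 := by
    interval_cases r <;> simp [Finset.prod_range_succ]
  -- the image of T
  set φ := k8conj P T hT with hφ
  have h1 : Nat.card φ.range ∣ Nat.card T := Subgroup.card_range_dvd φ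
  have h2 : Nat.card φ.range ∣ Nat.card (MulAut ↥P) := Subgroup.card_subgroup_dvd_card _
  have hoddr : Odd (Nat.card φ.range) := by
    obtain ⟨c, hc⟩ := h1
    rw [hc] at hodd
    exact (Nat.odd_mul.1 hodd).1
  have h3 : Nat.card φ.range ∣ 3 := k8_arith _ _ _ hoddr hc6 (h2.trans hAut)
  haveI : Fact (Nat.Prime 3) := ⟨Nat.prime_three⟩
  have hcyc : IsCyclic φ.range := isCyclic_of_card_dvd_prime h3
  have hcomm : ∀ s t : T, φ s * φ t = φ t * φ s := by
    intro s t
    letI := hcyc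
    have := (IsCyclic.commGroup (α := φ.range)).mul_comm ⟨φ s, ⟨s, rfl⟩⟩ ⟨φ t, ⟨t, rfl⟩⟩
    exact congrArg Subtype.val this
  rw [Subgroup.commutator_le]
  intro s hs t ht
  rw [Subgroup.mem_centralizer_iff]
  intro x hx
  -- the commutator acts trivially
  have hst : φ (⟨s, hs⟩ * ⟨t, ht⟩ * ⟨s, hs⟩⁻¹ * ⟨t, ht⟩⁻¹) = 1 := by
    rw [map_mul, map_mul, map_mul, map_inv, map_inv, hcomm ⟨s, hs⟩ ⟨t, ht⟩]
    group
  have := congrArg (fun α : MulAut ↥P => ((α ⟨x, hx⟩ : ↥P) : G)) hst
  simp only [MulAut.one_apply] at this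
  rw [k8conj_apply] at this
  simp only [Subgroup.coe_mul, Subgroup.coe_inv, mul_inv_rev, inv_inv] at this
  rw [commutatorElement_def]
  -- this : (s t s⁻¹ t⁻¹) x (t s t⁻¹ s⁻¹) = x
  have h5 : s * t * s⁻¹ * t⁻¹ * x = x * (s * t * s⁻¹ * t⁻¹) := by
    calc s * t * s⁻¹ * t⁻¹ * x
        = (s * t * s⁻¹ * t⁻¹ * x * (t * (s * (t⁻¹ * s⁻¹)))) * (s * t * s⁻¹ * t⁻¹) := by group
      _ = x * (s * t * s⁻¹ * t⁻¹) := by rw [this]
  exact h5.symm

end Cfsg.Agent.Lib.Helper86.TIHall
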