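/-
K-OhP-W1 (keystone 597407, architect helper38, pack S5974), part a: anisotropic planes inside nondegenerate
quadratic spaces of dimension at least four over a finite field (any characteristic), and the keystone modulo LEAF A
(`plusQ_sup_iff`, taken as a hypothesis here).
-/
import Cfsg.Agent.Lib.Helper16.OhPW2

set_option autoImplicit false
set_option linter.unusedSimpArgs false
set_option linter.unusedSectionVars false
set_option linter.unusedVariables false
set_option linter.style.haveILetI false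
set_option maxHeartbeats 800000

namespace Cfsg.Agent.Lib.Helper86.OhP

open Module Cfsg.Agent.Lib.Helper98.Elus Cfsg.Agent.Lib.Helper98.Sy Cfsg.Agent.Lib.Helper38.OhP

universe u
variable {F : Type u} [Field F] {V : Type u} [AddCommGroup V] [Module F V]

/-- an irreducible polynomial `t² + t + ζ` exists over a finite field (local copy, Mathlib only) -/
theorem w1_exists_irred_quadratic [Finite F] : ∃ ζ : F, ∀ t : F, t ^ 2 + t + ζ ≠ 0 := by
  classical
  have hni : ¬ Function.Injective (fun t : F => t ^ 2 + t) := by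
    intro h
    have h1 : (fun t : F => t ^ 2 + t) 0 = (fun t : F => t ^ 2 + t) (-1) := by
      simp
    have := h h1
    have h3 : (1 : F) = 0 := by linear_combination this
    exact one_ne_zero h3
  have hns : ¬ Function.Surjective (fun t : F => t ^ 2 + t) := fun h =>
    hni (Finite.injective_iff_surjective.mpr h)
  rw [Function.Surjective] at hns
  rw [not_forall] at hns
  obtain ⟨y, hy⟩ := hns
  rw [not_exists] at hy
  refine ⟨-y, fun t ht => hy t ?_⟩
  show t ^ 2 + t = y
  linear_combination ht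

/-- the binary form `a² + a b + ζ b²` is anisotropic -/
theorem w1_binary_aniso (ζ : F) (hζ : ∀ t : F, t ^ 2 + t + ζ ≠ 0) (a b : F)
    (h : a * a + a * b + ζ * (b * b) = 0) : a = 0 ∧ b = 0 := by
  by_cases hb : b = 0
  · subst hb
    have : a * a = 0 := by linear_combination h
    exact ⟨(mul_self_eq_zero.mp this), rfl⟩
  · exfalso
    apply hζ (a / b)
    field_simp
    linear_combination h

theorem w1_Q_add (Q : QuadraticForm F V) (a b : V) : Q (a + b) = Q a + Q b + pB Q a b := by
  rw [pB_apply]; ring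

theorem w1_Q_smul (Q : QuadraticForm F V) (c : F) (a : V) : Q (c • a) = c * c * Q a := by
  rw [QuadraticMap.map_smul, smul_eq_mul]

/-- a plane with nonzero Gram determinant is nondegenerate of dimension two -/
theorem w1_plane_props (Q : QuadraticForm F V) (x y : V)
    (hd : pB Q x x * pB Q y y - pB Q x y * pB Q x y ≠ 0) :
    NonDeg (pB Q) (Submodule.span F {x, y}) ∧ finrank F (Submodule.span F {x, y}) = 2 := by
  have hS : ∀ a b, pB Q a b = pB Q b a := pB_symm Q
  have key : ∀ a b : F, pB Q (a • x + b • y) x = 0 → pB Q (a • x + b • y) y = 0 → a = 0 ∧ b = 0 := by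
    intro a b h1 h2
    simp only [map_add, map_smul, LinearMap.add_apply, LinearMap.smul_apply, smul_eq_mul] at h1 h2
    rw [hS y x] at h1
    have ha : a * (pB Q x x * pB Q y y - pB Q x y * pB Q x y) = 0 := by
      linear_combination (pB Q y y) * h1 - (pB Q x y) * h2
    have hb : b * (pB Q x x * pB Q y y - pB Q x y * pB Q x y) = 0 := by
      linear_combination (pB Q x x) * h2 - (pB Q x y) * h1
    exact ⟨(mul_eq_zero.mp ha).resolve_right hd, (mul_eq_zero.mp hb).resolve_right hd⟩
  constructor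
  · intro w hw hw'
    obtain ⟨a, b, rfl⟩ := Submodule.mem_span_pair.mp hw
    have hx : x ∈ Submodule.span F {x, y} := Submodule.subset_span (by simp)
    have hy : y ∈ Submodule.span F {x, y} := Submodule.subset_span (by simp)
    obtain ⟨rfl, rfl⟩ := key a b (hw' x hx) (hw' y hy)
    simp
  · have hli : LinearIndependent F ![x, y] := by
      rw [LinearIndependent.pair_iff]
      intro a b hab
      apply key a b
      · rw [hab]; simp
      · rw [hab]; simp
    have := finrank_span_eq_card hli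
    rw [Matrix.range_cons_cons_empty] at this
    rw [this]
    simp

/-- a singular vector of a nondegenerate subspace is half of a hyperbolic pair inside it -/
theorem w1_exists_pair_of_sing (Q : QuadraticForm F V) (D : Submodule F V) (hD : NonDeg (pB Q) D)
    (x : V) (hxD : x ∈ D) (hx0 : x ≠ 0) (hQx : Q x = 0) :
    ∃ y ∈ D, Q y = 0 ∧ pB Q x y = 1 := by
  have hS : ∀ a b, pB Q a b = pB Q b a := pB_symm Q
  have hex : ∃ g ∈ D, pB Q x g ≠ 0 := by
    by_contra hcon
    push Not at hcon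
    exact hx0 (hD x hxD hcon)
  obtain ⟨g, hgD, hg⟩ := hex
  obtain ⟨g', hg'D, h1⟩ : ∃ g' ∈ D, pB Q x g' = 1 :=
    ⟨(pB Q x g)⁻¹ • g, D.smul_mem _ hgD, by rw [map_smul, smul_eq_mul, inv_mul_cancel₀ hg]⟩
  refine ⟨g' - Q g' • x, D.sub_mem hg'D (D.smul_mem _ hxD), ?_, ?_⟩
  · rw [sub_eq_add_neg, ← neg_smul, w1_Q_add, w1_Q_smul, hQx]
    simp only [map_smul, smul_eq_mul]
    rw [hS g' x, h1]
    ring
  · rw [map_sub, map_smul, smul_eq_mul, h1, pB_self, hQx]
    ring

/-- a nondegenerate subspace of dimension at least four contains a nondegenerate anisotropic plane -/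
theorem w1_exists_aniso_plane [Fintype F] [FiniteDimensional F V] (Q : QuadraticForm F V)
    (C : Submodule F V) (hC : NonDeg (pB Q) C) (h4 : 4 ≤ finrank F C) :
    ∃ A : Submodule F V, A ≤ C ∧ NonDeg (pB Q) A ∧ finrank F A = 2 ∧ ∀ a ∈ A, Q a = 0 → a = 0 := by
  have hS : ∀ a b, pB Q a b = pB Q b a := pB_symm Q
  have hR := Cfsg.Agent.Lib.Helper98.Os.isRefl_of_symm hS
  obtain ⟨x1, hx1C, y1, hy1C, hx10, hQx1, hQy1, hxy1⟩ :=
    Cfsg.Agent.Lib.Helper16.OhP.exists_sing_pair Q C hC (by omega)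
  have hx1x1 : pB Q x1 x1 = 0 := by rw [pB_self, hQx1, mul_zero]
  have hy1y1 : pB Q y1 y1 = 0 := by rw [pB_self, hQy1, mul_zero]
  obtain ⟨hHn, hHd⟩ := w1_plane_props Q x1 y1 (by rw [hx1x1, hy1y1, hxy1]; simp)
  have hx1H : x1 ∈ Submodule.span F {x1, y1} := Submodule.subset_span (by simp)
  have hy1H : y1 ∈ Submodule.span F {x1, y1} := Submodule.subset_span (by simp)
  have hHC : Submodule.span F {x1, y1} ≤ C := by
    rw [Submodule.span_le]
    intro z hz
    rcases hz with rfl | rfl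
    · exact hx1C
    · exact hy1C
  obtain ⟨-, -, hDn, hDd⟩ :=
    Cfsg.Agent.Lib.Helper98.Os.compl_props hR (Submodule.span F {x1, y1}) C hHn hHC hC
  set D : Submodule F V := LinearMap.BilinForm.orthogonal (pB Q) (Submodule.span F {x1, y1}) ⊓ C with hDdef
  have hDC : D ≤ C := inf_le_right
  by_cases hani : ∀ a ∈ D, Q a = 0 → a = 0
  · refine ⟨D, hDC, hDn, ?_, hani⟩
    by_contra hne
    have h3 : 3 ≤ finrank F D := by omega
    obtain ⟨x, hxD, y, hyD, hx0, hQx, -, -⟩ :=
      Cfsg.Agent.Lib.Helper16.OhP.exists_sing_pair Q D hDn h3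
    exact hx0 (hani x hxD hQx)
  · push Not at hani
    obtain ⟨x2, hx2D, hQx2, hx20⟩ := hani
    obtain ⟨y2, hy2D, hQy2, hxy2⟩ := w1_exists_pair_of_sing Q D hDn x2 hx2D hx20 hQx2
    obtain ⟨ζ, hζ⟩ := w1_exists_irred_quadratic (F := F)
    have hort : ∀ h ∈ Submodule.span F {x1, y1}, ∀ d ∈ D, pB Q h d = 0 := by
      intro h hh d hd
      exact LinearMap.BilinForm.mem_orthogonal_iff.mp hd.1 h hh
    have e1 : pB Q x1 x2 = 0 := hort x1 hx1H x2 hx2D
    have e2 : pB Q x1 y2 = 0 := hort x1 hx1H y2 hy2D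
    have e3 : pB Q y1 x2 = 0 := hort y1 hy1H x2 hx2D
    have e4 : pB Q y1 y2 = 0 := hort y1 hy1H y2 hy2D
    set u : V := x1 + y1 with hu
    set v : V := y1 + (x2 + ζ • y2) with hv
    have hQu : Q u = 1 := by
      rw [hu, w1_Q_add, hQx1, hQy1, hxy1]; ring
    have hQv : Q v = ζ := by
      rw [hv, w1_Q_add, w1_Q_add, w1_Q_smul, hQy1, hQx2, hQy2]
      simp only [map_add, map_smul, smul_eq_mul]
      rw [e3, e4, hxy2]; ring
    have huv : pB Q u v = 1 := by
      rw [hu, hv]
      simp only [map_add, map_smul, LinearMap.add_apply, LinearMap.smul_apply, smul_eq_mul]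
      rw [e1, e2, e3, e4, hxy1, hy1y1]; ring
    have huu : pB Q u u = 2 := by rw [pB_self, hQu, mul_one]
    have hvv : pB Q v v = 2 * ζ := by rw [pB_self, hQv]
    have hdet : pB Q u u * pB Q v v - pB Q u v * pB Q u v ≠ 0 := by
      rw [huu, hvv, huv]
      intro h0
      apply hζ (-2 * ζ)
      linear_combination ζ * h0
    obtain ⟨hAn, hAd⟩ := w1_plane_props Q u v hdet
    have huC : u ∈ C := C.add_mem hx1C hy1C
    have hvC : v ∈ C := C.add_mem hy1C (C.add_mem (hDC hx2D) (C.smul_mem _ (hDC hy2D)))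
    refine ⟨Submodule.span F {u, v}, ?_, hAn, hAd, ?_⟩
    · rw [Submodule.span_le]
      intro z hz
      rcases hz with rfl | rfl
      · exact huC
      · exact hvC
    · intro w hw hQw
      obtain ⟨a, b, rfl⟩ := Submodule.mem_span_pair.mp hw
      rw [w1_Q_add, w1_Q_smul, w1_Q_smul, hQu, hQv] at hQw
      simp only [map_smul, LinearMap.smul_apply, smul_eq_mul] at hQw
      rw [huv] at hQw
      obtain ⟨rfl, rfl⟩ := w1_binary_aniso ζ hζ a b (by linear_combination hQw)
      simp

/-- **K-OhP-W1 modulo LEAF A.** -/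
theorem exists_sub_of_type_of [Fintype F] [FiniteDimensional F V] (Q : QuadraticForm F V)
    (hA : ∀ W1 W2 : Submodule F V, NonDeg (pB Q) W1 → NonDeg (pB Q) W2 → Ort (pB Q) W1 W2 →
      Even (finrank F W1) → Even (finrank F W2) → (PlusQ Q (W1 ⊔ W2) ↔ (PlusQ Q W1 ↔ PlusQ Q W2)))
    (C : Submodule F V) (hC : NonDeg (pB Q) C) (hCe : Even (finrank F C))
    (e : ℕ) (he : Even e) (he2 : 2 ≤ e) (hlt : e + 2 ≤ finrank F C) (t : Prop) :
    ∃ W : Submodule F V, W ≤ C ∧ NonDeg (pB Q) W ∧ finrank F W = e ∧ (PlusQ Q W ↔ t) := by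
  have hS : ∀ a b, pB Q a b = pB Q b a := pB_symm Q
  have hR := Cfsg.Agent.Lib.Helper98.Os.isRefl_of_symm hS
  by_cases ht : t
  · obtain ⟨W, hWC, hWn, hWd, hWp⟩ :=
      Cfsg.Agent.Lib.Helper16.OhP.exists_plus_sub Q C hC e he (by omega)
    exact ⟨W, hWC, hWn, hWd, iff_of_true hWp ht⟩
  · obtain ⟨A, hAC, hAn, hAd, hAa⟩ := w1_exists_aniso_plane Q C hC (by omega)
    have hAnp : ¬ PlusQ Q A := by
      rintro ⟨U, hUA, hU0, hUd⟩
      have hUbot : U = ⊥ := by
        rw [eq_bot_iff]
        intro z hz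
        exact (Submodule.mem_bot F).mpr (hAa z (hUA hz) (hU0 z hz))
      rw [hUbot, finrank_bot, hAd] at hUd
      omega
    obtain ⟨-, -, hDn, hDd⟩ := Cfsg.Agent.Lib.Helper98.Os.compl_props hR A C hAn hAC hC
    obtain ⟨k, rfl⟩ := he
    have hk : 1 ≤ k := by omega
    obtain ⟨P, hPD, hPn, hPd, hPp⟩ :=
      Cfsg.Agent.Lib.Helper16.OhP.exists_plus_sub Q
        (LinearMap.BilinForm.orthogonal (pB Q) A ⊓ C) hDn ((k - 1) + (k - 1)) ⟨k - 1, rfl⟩ (by omega)
    have hort : Ort (pB Q) A P := by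
      intro a ha p hp
      exact LinearMap.BilinForm.mem_orthogonal_iff.mp (hPD hp).1 a ha
    refine ⟨A ⊔ P, sup_le hAC (le_trans hPD inf_le_right),
      (Cfsg.Agent.Lib.Helper98.Os.nonDeg_sup hR _ _ hAn hPn hort).1, ?_, ?_⟩
    · rw [Cfsg.Agent.Lib.Helper98.Os.finrank_sup_of_ort hR _ _ hAn hPn hort, hAd, hPd]
      omega
    · rw [hA A P hAn hPn hort (by rw [hAd]; exact ⟨1, rfl⟩) (by rw [hPd]; exact ⟨k - 1, rfl⟩)]
      constructor
      · intro h
        exact absurd (h.mpr hPp) hAnp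
      · intro h
        exact absurd h ht

end Cfsg.Agent.Lib.Helper86.OhP
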