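import Cfsg.Agent.Lib.Helper48.StODefs

/-!
# K-StO-R0a (keystone 254701, S2547 pack of helper48): the three permutation matrices are isometries
-/

set_option autoImplicit false
set_option linter.unusedSectionVars false

namespace Cfsg.Agent.Lib.Helper86.StO

open Cfsg Cfsg.Agent.Lib.Helper48.StO

variable {m : ℕ} {F : Type*} [Field F]

/-- a permutation of the index set preserving `quadFormOdd` gives an isometry -/
theorem exists_of_perm (σ : Equiv.Perm (OI m))
    (hQ : ∀ u : OI m → F, Cfsg.quadFormOdd m F (u ∘ σ) = Cfsg.quadFormOdd m F u) :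
    ∃ g : OG m F, mat g = σ.permMatrix F := by
  refine exists_of_isometry (σ.permMatrix F) (σ⁻¹.permMatrix F) ?_ ?_ ?_
  · rw [← Matrix.permMatrix_mul, inv_mul_cancel, Matrix.permMatrix_one]
  · rw [← Matrix.permMatrix_mul, mul_inv_cancel, Matrix.permMatrix_one]
  · intro u
    rw [Matrix.permMatrix_mulVec]
    exact hQ u

theorem mat_sPerm (i j : Fin m) : mat (sPerm m F i j) = sPermMat m F i j := by
  refine mat_ofMat _ (exists_of_perm (swapE m i j) ?_)
  intro u
  unfold Cfsg.quadFormOdd
  congr 1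
  exact Equiv.sum_comp (Equiv.swap i j) (fun a => u (Sum.inr (Sum.inl a)) * u (Sum.inr (Sum.inr a)))

theorem mat_sFlip (k : Fin m) : mat (sFlip m F k) = sFlipMat m F k := by
  refine mat_ofMat _ (exists_of_perm (flipE m k) ?_)
  intro u
  unfold Cfsg.quadFormOdd
  have hz : (u ∘ ⇑(flipE m k)) (Sum.inl ()) = u (Sum.inl ()) := by
    show u (Equiv.swap (eI k) (fI k) zI) = u zI
    rw [Equiv.swap_apply_of_ne_of_ne (by simp) (by simp)]
  rw [hz]
  congr 1
  apply Finset.sum_congr rfl
  intro a _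
  show u (Equiv.swap (eI k) (fI k) (eI a)) * u (Equiv.swap (eI k) (fI k) (fI a)) =
    u (eI a) * u (fI a)
  by_cases h : a = k
  · subst h
    rw [Equiv.swap_apply_left, Equiv.swap_apply_right, mul_comm]
  · have h1 : (eI a : OI m) ≠ eI k := fun e => h (Sum.inl.inj (Sum.inr.inj e))
    have h2 : (fI a : OI m) ≠ fI k := fun e => h (Sum.inr.inj (Sum.inr.inj e))
    rw [Equiv.swap_apply_of_ne_of_ne h1 (by simp), Equiv.swap_apply_of_ne_of_ne (by simp) h2]

theorem mat_w0 : mat (w0 m F) = w0Mat m F := by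
  refine mat_ofMat _ (exists_of_perm (dualE m) ?_)
  intro u
  unfold Cfsg.quadFormOdd
  congr 1
  apply Finset.sum_congr rfl
  intro a _
  show u (fI a) * u (eI a) = u (eI a) * u (fI a)
  rw [mul_comm]

end Cfsg.Agent.Lib.Helper86.StO
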