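import Cfsg.Agent.Lib.Helper37.G2InvDefs

/-!
# K-G2I pack (S2177), leaf Z: the abelian group `Z = X₉X₁₀X₁₁` and the action of `x₆ … x₁₀` on it
-/

set_option autoImplicit false
set_option linter.unusedSectionVars false
set_option linter.unusedVariables false

namespace Cfsg.Agent.Lib.Helper86.G2Inv

open Cfsg.Agent.Lib.Helper37.G2Inv

variable {F : Type*} [Field F] [CharP F 2] {G : Type*} [Group G] (D : UData F G)

theorem comm_left {a b : G} (h : a * b = b * a) (r : G) : a * (b * r) = b * (a * r) := by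
  rw [← mul_assoc, h, mul_assoc]

theorem swap610 (t u : F) : D.x 6 t * D.x 10 u = D.x 10 u * (D.x 11 (t * u) * D.x 6 t) := by
  calc D.x 6 t * D.x 10 u = D.x 6 t * D.x 10 u * D.x 11 (t * u) * D.x 11 (t * u) := by
        rw [mul_assoc (D.x 6 t * D.x 10 u), D.x_sq, mul_one]
    _ = D.x 10 u * D.x 6 t * D.x 11 (t * u) := by rw [← D.r610]
    _ = D.x 10 u * (D.x 11 (t * u) * D.x 6 t) := by rw [mul_assoc, D.c611]

theorem swap79 (t u : F) : D.x 7 t * D.x 9 u = D.x 9 u * (D.x 10 (t * u) * D.x 7 t) := by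
  calc D.x 7 t * D.x 9 u = D.x 7 t * D.x 9 u * D.x 10 (t * u) * D.x 10 (t * u) := by
        rw [mul_assoc (D.x 7 t * D.x 9 u), D.x_sq, mul_one]
    _ = D.x 9 u * D.x 7 t * D.x 10 (t * u) := by rw [← D.r79]
    _ = D.x 9 u * (D.x 10 (t * u) * D.x 7 t) := by rw [mul_assoc, D.c710]

theorem swap89 (t u : F) : D.x 8 t * D.x 9 u = D.x 9 u * (D.x 11 (t * u) * D.x 8 t) := by
  calc D.x 8 t * D.x 9 u = D.x 8 t * D.x 9 u * D.x 11 (t * u) * D.x 11 (t * u) := by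
        rw [mul_assoc (D.x 8 t * D.x 9 u), D.x_sq, mul_one]
    _ = D.x 9 u * D.x 8 t * D.x 11 (t * u) := by rw [← D.r89]
    _ = D.x 9 u * (D.x 11 (t * u) * D.x 8 t) := by rw [mul_assoc, D.c811]

theorem z_mul (α β γ α' β' γ' : F) : D.z α β γ * D.z α' β' γ' = D.z (α + α') (β + β') (γ + γ') := by
  unfold UData.z
  calc D.x 9 α * (D.x 10 β * D.x 11 γ) * (D.x 9 α' * (D.x 10 β' * D.x 11 γ'))
      = D.x 9 α * (D.x 10 β * (D.x 11 γ * (D.x 9 α' * (D.x 10 β' * D.x 11 γ')))) := by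
        simp only [mul_assoc]
    _ = D.x 9 α * (D.x 10 β * (D.x 9 α' * (D.x 11 γ * (D.x 10 β' * D.x 11 γ')))) := by
        rw [comm_left (D.c911 α' γ).symm]
    _ = D.x 9 α * (D.x 9 α' * (D.x 10 β * (D.x 11 γ * (D.x 10 β' * D.x 11 γ')))) := by
        rw [comm_left (D.c910 α' β).symm]
    _ = D.x 9 α * (D.x 9 α' * (D.x 10 β * (D.x 10 β' * (D.x 11 γ * D.x 11 γ')))) := by
        rw [comm_left (D.c1011 β' γ).symm]
    _ = D.x 9 (α + α') * (D.x 10 (β + β') * D.x 11 (γ + γ')) := by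
        rw [← mul_assoc (D.x 9 α), D.add, ← mul_assoc (D.x 10 β), D.add, D.add]

theorem z_conj6 (c α β γ : F) : D.x 6 c * D.z α β γ * (D.x 6 c)⁻¹ = D.z α β (γ + c * β) := by
  rw [mul_inv_eq_iff_eq_mul]
  unfold UData.z
  calc D.x 6 c * (D.x 9 α * (D.x 10 β * D.x 11 γ))
      = D.x 9 α * (D.x 6 c * (D.x 10 β * D.x 11 γ)) := comm_left (D.c69 c α) _
    _ = D.x 9 α * (D.x 10 β * (D.x 11 (c * β) * D.x 6 c) * D.x 11 γ) := by
        rw [← mul_assoc (D.x 6 c), swap610]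
    _ = D.x 9 α * (D.x 10 β * (D.x 11 (c * β) * (D.x 11 γ * D.x 6 c))) := by
        rw [mul_assoc (D.x 10 β), mul_assoc (D.x 11 (c * β)), D.c611]
    _ = D.x 9 α * (D.x 10 β * (D.x 11 (γ + c * β) * D.x 6 c)) := by
        rw [← mul_assoc (D.x 11 (c * β)), D.add, add_comm]
    _ = D.x 9 α * (D.x 10 β * D.x 11 (γ + c * β)) * D.x 6 c := by simp only [mul_assoc]

theorem z_conj7 (c α β γ : F) : D.x 7 c * D.z α β γ * (D.x 7 c)⁻¹ = D.z α (β + c * α) γ := by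
  rw [mul_inv_eq_iff_eq_mul]
  unfold UData.z
  calc D.x 7 c * (D.x 9 α * (D.x 10 β * D.x 11 γ))
      = D.x 9 α * (D.x 10 (c * α) * D.x 7 c) * (D.x 10 β * D.x 11 γ) := by
        rw [← mul_assoc (D.x 7 c), swap79]
    _ = D.x 9 α * (D.x 10 (c * α) * (D.x 7 c * (D.x 10 β * D.x 11 γ))) := by
        simp only [mul_assoc]
    _ = D.x 9 α * (D.x 10 (c * α) * (D.x 10 β * (D.x 7 c * D.x 11 γ))) := by
        rw [comm_left (D.c710 c β)]
    _ = D.x 9 α * (D.x 10 (c * α) * (D.x 10 β * (D.x 11 γ * D.x 7 c))) := by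
        rw [D.c711]
    _ = D.x 9 α * (D.x 10 (β + c * α) * (D.x 11 γ * D.x 7 c)) := by
        rw [← mul_assoc (D.x 10 (c * α)), D.add, add_comm]
    _ = D.x 9 α * (D.x 10 (β + c * α) * D.x 11 γ) * D.x 7 c := by simp only [mul_assoc]

theorem z_conj8 (c α β γ : F) : D.x 8 c * D.z α β γ * (D.x 8 c)⁻¹ = D.z α β (γ + c * α) := by
  rw [mul_inv_eq_iff_eq_mul]
  unfold UData.z
  calc D.x 8 c * (D.x 9 α * (D.x 10 β * D.x 11 γ))
      = D.x 9 α * (D.x 11 (c * α) * D.x 8 c) * (D.x 10 β * D.x 11 γ) := by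
        rw [← mul_assoc (D.x 8 c), swap89]
    _ = D.x 9 α * (D.x 11 (c * α) * (D.x 8 c * (D.x 10 β * D.x 11 γ))) := by
        simp only [mul_assoc]
    _ = D.x 9 α * (D.x 11 (c * α) * (D.x 10 β * (D.x 8 c * D.x 11 γ))) := by
        rw [comm_left (D.c810 c β)]
    _ = D.x 9 α * (D.x 11 (c * α) * (D.x 10 β * (D.x 11 γ * D.x 8 c))) := by
        rw [D.c811]
    _ = D.x 9 α * (D.x 10 β * (D.x 11 (c * α) * (D.x 11 γ * D.x 8 c))) := by
        rw [comm_left (D.c1011 β (c * α)).symm]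
    _ = D.x 9 α * (D.x 10 β * (D.x 11 (γ + c * α) * D.x 8 c)) := by
        rw [← mul_assoc (D.x 11 (c * α)), D.add, add_comm]
    _ = D.x 9 α * (D.x 10 β * D.x 11 (γ + c * α)) * D.x 8 c := by simp only [mul_assoc]

theorem z_conj9 (c α β γ : F) : D.x 9 c * D.z α β γ * (D.x 9 c)⁻¹ = D.z α β γ := by
  rw [mul_inv_eq_iff_eq_mul]
  unfold UData.z
  calc D.x 9 c * (D.x 9 α * (D.x 10 β * D.x 11 γ))
      = D.x 9 α * (D.x 9 c * (D.x 10 β * D.x 11 γ)) := by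
        rw [← mul_assoc, D.add, add_comm, ← D.add, mul_assoc]
    _ = D.x 9 α * (D.x 10 β * (D.x 9 c * D.x 11 γ)) := by rw [comm_left (D.c910 c β)]
    _ = D.x 9 α * (D.x 10 β * (D.x 11 γ * D.x 9 c)) := by rw [D.c911]
    _ = D.x 9 α * (D.x 10 β * D.x 11 γ) * D.x 9 c := by simp only [mul_assoc]

theorem z_conj10 (c α β γ : F) : D.x 10 c * D.z α β γ * (D.x 10 c)⁻¹ = D.z α β γ := by
  rw [mul_inv_eq_iff_eq_mul]
  unfold UData.z
  calc D.x 10 c * (D.x 9 α * (D.x 10 β * D.x 11 γ))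
      = D.x 9 α * (D.x 10 c * (D.x 10 β * D.x 11 γ)) := comm_left (D.c910 α c).symm _
    _ = D.x 9 α * (D.x 10 β * (D.x 10 c * D.x 11 γ)) := by
        rw [← mul_assoc (D.x 10 c), D.add, add_comm, ← D.add, mul_assoc]
    _ = D.x 9 α * (D.x 10 β * (D.x 11 γ * D.x 10 c)) := by rw [D.c1011]
    _ = D.x 9 α * (D.x 10 β * D.x 11 γ) * D.x 10 c := by simp only [mul_assoc]

theorem z_eq_one_iff (α β γ : F) : D.z α β γ = 1 ↔ α = 0 ∧ β = 0 ∧ γ = 0 := by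
  constructor
  · intro h
    have h1 : D.x 6 0 * (D.x 7 0 * (D.x 8 0 * (D.x 9 α * (D.x 10 β * D.x 11 γ)))) =
        D.x 6 0 * (D.x 7 0 * (D.x 8 0 * (D.x 9 0 * (D.x 10 0 * D.x 11 0)))) := by
      have h2 : D.x 9 α * (D.x 10 β * D.x 11 γ) = 1 := h
      rw [h2]
      simp only [D.x_zero, mul_one]
    obtain ⟨-, -, -, h9, h10, h11⟩ := D.inj _ _ _ _ _ _ _ _ _ _ _ _ h1
    exact ⟨h9, h10, h11⟩
  · rintro ⟨rfl, rfl, rfl⟩
    unfold UData.z
    simp only [D.x_zero, mul_one]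

end Cfsg.Agent.Lib.Helper86.G2Inv
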