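import Mathlib
import Cfsg.Prelude.Def_Characters
import Cfsg.Prelude.Def_Blocks
import Cfsg.Agent.Lib.Helper34.PFaithDefs
import Cfsg.Agent.Lib.Helper84.Clifford
import Cfsg.Agent.Lib.Helper80.GaloisChar
import Cfsg.Agent.Lib.Helper14.PFaithD1

/-!
# K-S4489-D2 (helper86): Clifford count of the Galois twists of an induced character

`ψ ∈ Irr(M)`, `M ⊲ P` of index `p` in a `p`-group, `ψ^P` irreducible.  Then
`pN p ψ = r * pN p (ψ^P)` with `1 ≤ r ≤ p`; when `r ≥ 2` some twist `ptw k ψ` (`p ∤ k`) is a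
`P`-conjugate `conjFun M y ψ` with `y ∉ M`.
-/

set_option autoImplicit false

namespace Cfsg.Agent.Lib.Helper86.PFaith

open Cfsg Cfsg.Agent.Lib.Helper34.PFaith

universe u

/-- an irreducible character of a normal subgroup is fixed by conjugation with elements of the subgroup -/
theorem conjFun_mem_self {P : Type u} [Group P] (M : Subgroup P) [M.Normal] {θ : M → ℂ}
    (hθ : IsClassFunction M θ) (m : P) (hm : m ∈ M) :
    Cfsg.Agent.Lib.Helper84.conjFun M m θ = θ := by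
  funext n
  rw [Cfsg.Agent.Lib.Helper84.conjFun_apply]
  have := hθ n ⟨m, hm⟩
  rw [← this]
  congr 1

/-- a twist in the fibre over `ψ^P` is a `P`-conjugate of `ψ` -/
theorem exists_conj_of_fiber {P : Type u} [Group P] [Fintype P] (p a : ℕ) (hp : p.Prime)
    (hP : Nat.card P = p ^ a) (M : Subgroup P) [M.Normal] {ψ : M → ℂ}
    (hψ : IsIrrCharacter M ψ) (hχ : IsIrrCharacter P (indFun M ψ)) {ψ' : M → ℂ}
    (h1 : ψ' ∈ porbit p ψ) (h2 : indFun M ψ' = indFun M ψ) :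
    IsIrrCharacter M ψ' ∧ ∃ y : P, Cfsg.Agent.Lib.Helper84.conjFun M y ψ = ψ' := by
  classical
  have : Fintype M := Fintype.ofFinite M
  obtain ⟨k, hk, rfl⟩ := h1
  -- `k` is coprime to `|M|`
  have hcop : k.Coprime (Nat.card M) := by
    have hdvd : Nat.card M ∣ p ^ a := hP ▸ Subgroup.card_subgroup_dvd_card M
    obtain ⟨b, -, hb⟩ := (Nat.dvd_prime_pow hp).mp hdvd
    rw [hb]
    exact Nat.Coprime.pow_right b ((Nat.Prime.coprime_iff_not_dvd hp).mpr hk).symm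
  have hirr : IsIrrCharacter M (ptw k ψ) :=
    Cfsg.Agent.Lib.Helper80.isIrrCharacter_pow_coprime hψ k hcop
  refine ⟨hirr, ?_⟩
  have hχc : IsClassFunction P (indFun M ψ) :=
    Cfsg.Agent.Lib.Helper83.char_isClassFunction (Cfsg.Agent.Lib.Helper83.isCharacter_of_irr hχ)
  have hone : classInner (fun n : M => indFun M ψ n) (ptw k ψ) = 1 := by
    rw [← Cfsg.Agent.Lib.Helper34.classInner_indFun_right M (ptw k ψ) (indFun M ψ) hχc, h2]
    exact Cfsg.Agent.Lib.Helper05.classInner_irr_self hχ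
  rw [Cfsg.Agent.Lib.Helper84.classInner_indFun_restrict M hψ hirr] at hone
  by_contra hcon
  push Not at hcon
  have : IsEmpty {x : P // Cfsg.Agent.Lib.Helper84.conjFun M x ψ = ptw k ψ} :=
    ⟨fun x => hcon x.1 x.2⟩
  rw [Nat.card_of_isEmpty (α := {x : P // Cfsg.Agent.Lib.Helper84.conjFun M x ψ = ptw k ψ})] at hone
  simp at hone

theorem pN_induced {P : Type u} [Group P] [Fintype P] (p a : ℕ) (hp : p.Prime)
    (hP : Nat.card P = p ^ a) (M : Subgroup P) [M.Normal] (hM : M.index = p) {ψ : M → ℂ}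
    (hψ : IsIrrCharacter M ψ) (hχ : IsIrrCharacter P (indFun M ψ)) :
    ∃ r : ℕ, 1 ≤ r ∧ r ≤ p ∧ pN p ψ = r * pN p (indFun M ψ) ∧
      (2 ≤ r → ∃ (k : ℕ) (y : P), ¬ p ∣ k ∧ y ∉ M ∧
        ∀ h : M, ψ (h ^ k) = Cfsg.Agent.Lib.Helper84.conjFun M y ψ h) := by
  classical
  set F : Set (M → ℂ) := {ψ' : M → ℂ | ψ' ∈ porbit p ψ ∧ indFun M ψ' = indFun M ψ} with hF
  have hψc : IsClassFunction M ψ :=
    Cfsg.Agent.Lib.Helper83.char_isClassFunction (Cfsg.Agent.Lib.Helper83.isCharacter_of_irr hψ)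
  -- `F` lies in the range of `q ↦ conjFun M q.out ψ`
  have hsub : F ⊆ Set.range (fun q : P ⧸ M => Cfsg.Agent.Lib.Helper84.conjFun M q.out ψ) := by
    intro ψ' hψ'
    obtain ⟨hirr, y, hy⟩ := exists_conj_of_fiber p a hp hP M hψ hχ hψ'.1 hψ'.2
    have hψ'c : IsClassFunction M ψ' :=
      Cfsg.Agent.Lib.Helper83.char_isClassFunction (Cfsg.Agent.Lib.Helper83.isCharacter_of_irr hirr)
    refine ⟨(y : P ⧸ M), ?_⟩
    obtain ⟨m, hm⟩ := QuotientGroup.mk_out_eq_mul M y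
    show Cfsg.Agent.Lib.Helper84.conjFun M (Quotient.out (y : P ⧸ M)) ψ = ψ'
    rw [hm, Cfsg.Agent.Lib.Helper84.conjFun_mul, hy]
    exact conjFun_mem_self M hψ'c m m.2
  have hfinR : (Set.range (fun q : P ⧸ M => Cfsg.Agent.Lib.Helper84.conjFun M q.out ψ)).Finite :=
    Set.finite_range _
  have hfinF : F.Finite := hfinR.subset hsub
  have hψF : ψ ∈ F := by
    refine ⟨⟨1, ?_, (ptw_one ψ).symm⟩, rfl⟩
    exact hp.one_lt.ne' ∘ Nat.dvd_one.mp
  refine ⟨F.ncard, ?_, ?_, ?_, ?_⟩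
  · exact (Set.ncard_pos hfinF).mpr ⟨ψ, hψF⟩
  · calc F.ncard ≤ (Set.range (fun q : P ⧸ M => Cfsg.Agent.Lib.Helper84.conjFun M q.out ψ)).ncard :=
          Set.ncard_le_ncard hsub hfinR
      _ ≤ Nat.card (P ⧸ M) := by
          rw [← Set.image_univ, ← Set.ncard_univ]
          exact Set.ncard_image_le Set.finite_univ
      _ = p := by rw [← hM]; rfl
  · exact Cfsg.Agent.Lib.Helper14.PFaith.pN_eq_fiber_mul p a hp hP M hM ψ
  · intro h2
    obtain ⟨ψ', hψ'F, hne⟩ := Set.exists_ne_of_one_lt_ncard (by omega : 1 < F.ncard) ψ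
    obtain ⟨-, y, hy⟩ := exists_conj_of_fiber p a hp hP M hψ hχ hψ'F.1 hψ'F.2
    obtain ⟨k, hk, hk'⟩ := hψ'F.1
    refine ⟨k, y, hk, ?_, ?_⟩
    · intro hyM
      apply hne
      rw [← hy]
      exact conjFun_mem_self M hψc y hyM
    · intro h
      rw [hy, hk']
      rfl

end Cfsg.Agent.Lib.Helper86.PFaith
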