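import Mathlib

set_option autoImplicit false

namespace Cfsg.Agent.Lib.Helper86.K65B

theorem geom_aux (p : ℕ) (ν : ℂ) (h : ν ^ p = 1) :
    ∑ j ∈ Finset.range p, ν ^ j = if ν = 1 then (p : ℂ) else 0 := by
  split_ifs with h1
  · subst h1; simp
  · have := geom_sum_mul ν p
    rw [h, sub_self] at this
    rcases mul_eq_zero.mp this with h2 | h2
    · exact h2
    · exact absurd (sub_eq_zero.mp h2) h1

/-- **K65-B** (roots of unity). `d < p - 1` numbers `μ i` with `μ i ^ p = 1` whose power sums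
`∑ μ i ^ j` are the same for all `j` prime to `p` are all `1`. -/
theorem roots_all_one_of_pow_invariant (p : ℕ) (hp : p.Prime) {ι : Type*} [Fintype ι]
    (μ : ι → ℂ) (hμ : ∀ i, μ i ^ p = 1) (hd : Fintype.card ι + 1 < p)
    (hinv : ∀ j : ℕ, ¬ p ∣ j → ∑ i, μ i ^ j = ∑ i, μ i) : ∀ i, μ i = 1 := by
  classical
  obtain ⟨p', rfl⟩ : ∃ p', p = p' + 1 := ⟨p - 1, (Nat.succ_pred_eq_of_pos hp.pos).symm⟩
  set S : ℂ := ∑ i, μ i with hS
  set m₀ := (Finset.univ.filter (fun i => μ i = 1)).card with hm₀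
  let c : ι → ℕ := fun i => (Finset.univ.filter (fun i' => μ i = μ i')).card
  have hμ0 : ∀ i, μ i ≠ 0 := fun i h0 => by
    have := hμ i
    rw [h0, zero_pow (Nat.succ_ne_zero _)] at this
    exact zero_ne_one this
  have hT : ∀ j, j < p' → ∑ i, μ i ^ (j+1) = S := fun j hj =>
    hinv (j+1) (Nat.not_dvd_of_pos_of_lt (Nat.succ_pos _) (by omega))
  have hT' : ∀ j, j < p' → ∑ i, (μ i)⁻¹ ^ (j+1) = S := by
    intro j hj
    have h1 : ¬ (p'+1) ∣ p' * (j+1) := by
      intro h
      rcases (Nat.Prime.dvd_mul hp).mp h with h | h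
      · exact Nat.not_dvd_of_pos_of_lt (by have := hp.two_le; omega) (by omega) h
      · exact Nat.not_dvd_of_pos_of_lt (Nat.succ_pos _) (by omega) h
    rw [← hinv _ h1]
    refine Finset.sum_congr rfl fun i _ => ?_
    have : μ i ^ (p' * (j+1)) * μ i ^ (j+1) = 1 := by
      rw [← pow_add, show p' * (j+1) + (j+1) = (p'+1) * (j+1) by ring, pow_mul, hμ i, one_pow]
    rw [inv_pow]
    exact (eq_inv_of_mul_eq_one_left this).symm
  -- first identity
  have id1 : ((p'+1 : ℕ) : ℂ) * m₀ = Fintype.card ι + p' * S := by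
    have e1 : ∑ j ∈ Finset.range (p'+1), ∑ i, μ i ^ j = ((p'+1 : ℕ) : ℂ) * m₀ := by
      rw [Finset.sum_comm]
      simp_rw [geom_aux (p'+1) _ (hμ _)]
      rw [Finset.sum_ite, Finset.sum_const, Finset.sum_const_zero, add_zero, nsmul_eq_mul,
        mul_comm]
    have e2 : ∑ j ∈ Finset.range (p'+1), ∑ i, μ i ^ j = Fintype.card ι + p' * S := by
      rw [Finset.sum_range_succ']
      simp only [pow_zero, Finset.sum_const, Finset.card_univ, nsmul_eq_mul, mul_one]
      rw [Finset.sum_congr rfl (fun j hj => hT j (Finset.mem_range.mp hj))]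
      simp [add_comm]
    rw [← e1, e2]
  -- second identity
  have id2 : ((p'+1 : ℕ) : ℂ) * (∑ i, c i : ℕ) =
      (Fintype.card ι : ℂ) * Fintype.card ι + p' * (S * S) := by
    have e1 : ∑ j ∈ Finset.range (p'+1), (∑ i, μ i ^ j) * (∑ i, (μ i)⁻¹ ^ j) =
        ((p'+1 : ℕ) : ℂ) * (∑ i, c i : ℕ) := by
      simp_rw [Finset.sum_mul_sum, ← mul_pow]
      rw [Finset.sum_comm]
      have : ∀ i, ∑ j ∈ Finset.range (p'+1), ∑ i', (μ i * (μ i')⁻¹) ^ j =
          ((p'+1 : ℕ) : ℂ) * (c i : ℕ) := by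
        intro i
        rw [Finset.sum_comm]
        have hh : ∀ i', (μ i * (μ i')⁻¹) ^ (p'+1) = 1 := by
          intro i'
          rw [mul_pow, inv_pow, hμ, hμ, inv_one, mul_one]
        simp_rw [geom_aux (p'+1) _ (hh _)]
        rw [Finset.sum_ite, Finset.sum_const, Finset.sum_const_zero, add_zero, nsmul_eq_mul,
          mul_comm]
        congr 2
        show _ = (Finset.univ.filter (fun i' => μ i = μ i')).card
        congr 1
        ext i'
        simp only [Finset.mem_filter, Finset.mem_univ, true_and]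
        rw [mul_inv_eq_one₀ (hμ0 i')]
      simp_rw [this]
      rw [← Finset.mul_sum]
      push_cast
      rfl
    have e2 : ∑ j ∈ Finset.range (p'+1), (∑ i, μ i ^ j) * (∑ i, (μ i)⁻¹ ^ j) =
        (Fintype.card ι : ℂ) * Fintype.card ι + p' * (S * S) := by
      rw [Finset.sum_range_succ']
      simp only [pow_zero, Finset.sum_const, Finset.card_univ, nsmul_eq_mul, mul_one]
      rw [Finset.sum_congr rfl (fun j hj => by
        rw [hT j (Finset.mem_range.mp hj), hT' j (Finset.mem_range.mp hj)])]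
      simp [add_comm]
    rw [← e1, e2]
  -- lower bound on N
  have hN : m₀ * m₀ + (Fintype.card ι - m₀) ≤ ∑ i, c i := by
    have h1 : ∀ i, (if μ i = 1 then m₀ else 1) ≤ c i := by
      intro i
      split_ifs with h
      · apply Finset.card_le_card
        intro i' hi'
        simp only [Finset.mem_filter, Finset.mem_univ, true_and] at hi' ⊢
        rw [h, hi']
      · apply Finset.card_pos.mpr
        exact ⟨i, by simp⟩
    refine le_trans ?_ (Finset.sum_le_sum fun i _ => h1 i)
    rw [Finset.sum_ite, Finset.sum_const, Finset.sum_const, smul_eq_mul, smul_eq_mul, mul_one]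
    have : (Finset.univ.filter (fun i => ¬ μ i = 1)).card = Fintype.card ι - m₀ := by
      have := Finset.card_filter_add_card_filter_not (s := (Finset.univ : Finset ι))
        (fun i => μ i = 1)
      rw [Finset.card_univ] at this
      omega
    rw [this]
  -- combine
  have hm_le : m₀ ≤ Fintype.card ι := by
    rw [← Finset.card_univ]; exact Finset.card_filter_le _ _
  set N := ∑ i, c i with hNdef
  set d := Fintype.card ι with hddef
  have hZ : ((p' : ℤ) * (p'+1) * N : ℤ) = p' * (d * d) + ((p'+1) * m₀ - d) * ((p'+1) * m₀ - d) := by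
    have : (((p' : ℤ) * (p'+1) * N : ℤ) : ℂ) =
        ((p' * (d * d) + ((p'+1) * m₀ - d) * ((p'+1) * m₀ - d) : ℤ) : ℂ) := by
      push_cast at id1 id2 ⊢
      have e : ((p':ℂ)+1) * m₀ - d = p' * S := by rw [id1]; ring
      rw [e]
      linear_combination (p' : ℂ) * id2
    exact_mod_cast this
  have ht : d - m₀ = 0 := by
    by_contra hne
    have hpos : 0 < d - m₀ := Nat.pos_of_ne_zero hne
    obtain ⟨t, ht⟩ : ∃ t, d = m₀ + t := ⟨d - m₀, by omega⟩
    have ht' : d - m₀ = t := by omega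
    rw [ht'] at hN hpos
    have hN' : ((m₀ : ℤ) * m₀ + t) ≤ N := by exact_mod_cast hN
    have htd : (t : ℤ) < p' := by omega
    have hp'0 : (0 : ℤ) < p' := by omega
    have htpos : (0 : ℤ) < t := by exact_mod_cast hpos
    rw [ht] at hZ
    push_cast at hZ
    -- p'(p'+1) N = p' d² + ((p'+1) m₀ - d)²
    have key : (p' : ℤ) * (p'+1) * ((m₀ : ℤ) * m₀ + t) ≤ (p' : ℤ) * (p'+1) * N :=
      mul_le_mul_of_nonneg_left hN' (by positivity)
    have : (p' : ℤ) * t ≤ t * t := by
      have h3 : ((p':ℤ)+1) * ((p' : ℤ) * t) ≤ ((p':ℤ)+1) * (t * t) := by nlinarith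
      exact le_of_mul_le_mul_left h3 (by linarith)
    nlinarith
  intro i
  have : (Finset.univ.filter (fun i => μ i = 1)).card = (Finset.univ : Finset ι).card := by
    rw [Finset.card_univ]; omega
  have h2 := (Finset.card_eq_iff_eq_univ _).mp (by rw [this, Finset.card_univ])
  have : i ∈ Finset.univ.filter (fun i => μ i = 1) := by rw [h2]; exact Finset.mem_univ _
  exact (Finset.mem_filter.mp this).2

end Cfsg.Agent.Lib.Helper86.K65B
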