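import Mathlib
import Cfsg.Prelude.Def_GeometricClasses
import Cfsg.Agent.Lib.Helper11.TensorPlumb

/-!
Core of K-SpMax-Y3: if the symplectic form of `F^8` is, through `e` and `P`, the standard form
`std` on `F^2 ⊗ F^4` (alternating ⊗ hyperbolic), then the tensor product subgroup is not maximal in `Sp_8(F)`:
the set of pure vectors `x ⊗ w` with `w` singular is preserved by an intermediate subgroup.
-/

set_option autoImplicit false

namespace Cfsg.Agent.Lib.Helper86.SpMax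

open Cfsg Cfsg.Geo
open scoped Matrix Kronecker MatrixGroups
open Cfsg.Agent.Lib.Helper11.TensorPlumb

variable {F : Type*} [Field F]

section transport

variable {ι : Type} [Fintype ι] [DecidableEq ι] {n₁ n₂ : ℕ}

/-- transport of `GL (Fin n₁ × Fin n₂)` to `GL ι` along `e` and `P` -/
def tHom (e : ι ≃ Fin n₁ × Fin n₂) (P : GL ι F) : GL (Fin n₁ × Fin n₂) F →* GL ι F :=
  (MulAut.conj P).toMonoidHom.comp (glReindex e.symm).toMonoidHom

theorem tHom_val (e : ι ≃ Fin n₁ × Fin n₂) (P : GL ι F) (k : GL (Fin n₁ × Fin n₂) F) :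
    ((tHom e P k : GL ι F) : Matrix ι ι F) =
      (P : Matrix ι ι F) * (k : Matrix (Fin n₁ × Fin n₂) (Fin n₁ × Fin n₂) F).submatrix e e *
        ((P⁻¹ : GL ι F) : Matrix ι ι F) := rfl

theorem tHom_mulVec_tau (e : ι ≃ Fin n₁ × Fin n₂) (P : GL ι F) (k : GL (Fin n₁ × Fin n₂) F)
    (z : Fin n₁ × Fin n₂ → F) :
    ((tHom e P k : GL ι F) : Matrix ι ι F) *ᵥ tau e P z =
      tau e P ((k : Matrix (Fin n₁ × Fin n₂) (Fin n₁ × Fin n₂) F) *ᵥ z) := by
  rw [tHom_val]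
  unfold tau
  rw [Matrix.mulVec_mulVec, Matrix.mul_assoc, Matrix.mul_assoc, ← Units.val_mul, inv_mul_cancel,
    Units.val_one, Matrix.mul_one, ← Matrix.mulVec_mulVec]
  congr 1
  rw [Matrix.submatrix_mulVec_equiv]
  have hz : (z ∘ ⇑e) ∘ ⇑e.symm = z := by
    ext q
    simp [Function.comp]
  rw [hz]

theorem tHom_injective (e : ι ≃ Fin n₁ × Fin n₂) (P : GL ι F) : Function.Injective (tHom e P) := by
  intro a b h
  have h1 : (MulAut.conj P) ((glReindex e.symm) a) = (MulAut.conj P) ((glReindex e.symm) b) := h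
  exact (glReindex e.symm).injective ((MulAut.conj P).injective h1)

theorem tensorProductSubgroup_eq_map (e : ι ≃ Fin n₁ × Fin n₂) (P : GL ι F) :
    tensorProductSubgroup n₁ n₂ e P = (kroneckerSubgroup n₁ n₂ F).map (tHom e P) := by
  unfold tensorProductSubgroup tHom
  rw [Subgroup.map_map]

end transport

section core

/-- coordinate vectors of `F^2 ⊗ F^4` -/
abbrev W8 (F : Type*) [Field F] := Fin 2 × Fin 4 → F

/-- the standard form (alternating ⊗ hyperbolic) on `F^2 ⊗ F^4`, up to a scalar -/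
def std (X Y : W8 F) : F :=
  X (0, 0) * Y (1, 2) + X (0, 2) * Y (1, 0) + X (0, 1) * Y (1, 3) + X (0, 3) * Y (1, 1)
    - X (1, 0) * Y (0, 2) - X (1, 2) * Y (0, 0) - X (1, 1) * Y (0, 3) - X (1, 3) * Y (0, 1)

theorem std_pt (x x' : Fin 2 → F) (w w' : Fin 4 → F) :
    std (pt x w) (pt x' w') =
      (x 0 * x' 1 - x 1 * x' 0) * (w 0 * w' 2 + w 2 * w' 0 + w 1 * w' 3 + w 3 * w' 1) := by
  simp only [std, pt]
  ring

/-- pure vectors `x ⊗ w` with `w` singular for the hyperbolic form -/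
def IsPure (X : W8 F) : Prop :=
  ∃ (x : Fin 2 → F) (w : Fin 4 → F), w 0 * w 2 + w 1 * w 3 = 0 ∧ X = pt x w

/-- the swap of the first two factors of `F^2 ⊗ F^2 ⊗ F^2` in coordinates -/
def sFun (X : W8 F) : W8 F := fun a =>
  ![![X (0, 0), X (0, 1), X (1, 1), -X (1, 0)], ![-X (0, 3), X (0, 2), X (1, 2), X (1, 3)]] a.1 a.2

/-- a symplectic transvection in coordinates -/
def tFun (X : W8 F) : W8 F := fun a =>
  ![![X (0, 0), X (0, 1), X (0, 2), X (0, 3)], ![X (1, 0), X (1, 1), X (1, 2) + X (0, 0), X (1, 3)]] a.1 a.2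

/-- its inverse -/
def tFun' (X : W8 F) : W8 F := fun a =>
  ![![X (0, 0), X (0, 1), X (0, 2), X (0, 3)], ![X (1, 0), X (1, 1), X (1, 2) - X (0, 0), X (1, 3)]] a.1 a.2

def sLin : W8 F →ₗ[F] W8 F where
  toFun := sFun
  map_add' X Y := by
    funext ⟨i, j⟩
    fin_cases i <;> fin_cases j <;> simp [sFun] <;> ring
  map_smul' c X := by
    funext ⟨i, j⟩
    fin_cases i <;> fin_cases j <;> simp [sFun]

def tLin : W8 F →ₗ[F] W8 F where
  toFun := tFun
  map_add' X Y := by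
    funext ⟨i, j⟩
    fin_cases i <;> fin_cases j <;> simp [tFun] <;> ring
  map_smul' c X := by
    funext ⟨i, j⟩
    fin_cases i <;> fin_cases j <;> simp [tFun] <;> ring

def tLin' : W8 F →ₗ[F] W8 F where
  toFun := tFun'
  map_add' X Y := by
    funext ⟨i, j⟩
    fin_cases i <;> fin_cases j <;> simp [tFun'] <;> ring
  map_smul' c X := by
    funext ⟨i, j⟩
    fin_cases i <;> fin_cases j <;> simp [tFun'] <;> ring

theorem sFun_sFun (X : W8 F) : sFun (sFun X) = X := by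
  funext ⟨i, j⟩
  fin_cases i <;> fin_cases j <;> simp [sFun]

theorem tFun_tFun' (X : W8 F) : tFun (tFun' X) = X := by
  funext ⟨i, j⟩
  fin_cases i <;> fin_cases j <;> simp [tFun, tFun']

theorem tFun'_tFun (X : W8 F) : tFun' (tFun X) = X := by
  funext ⟨i, j⟩
  fin_cases i <;> fin_cases j <;> simp [tFun, tFun']

/-- an invertible matrix from a pair of mutually inverse linear maps -/
def glOfLin (f g : W8 F →ₗ[F] W8 F) (h1 : ∀ X, f (g X) = X) (h2 : ∀ X, g (f X) = X) :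
    GL (Fin 2 × Fin 4) F where
  val := LinearMap.toMatrix' f
  inv := LinearMap.toMatrix' g
  val_inv := by
    rw [← LinearMap.toMatrix'_comp]
    have : f.comp g = LinearMap.id := LinearMap.ext h1
    rw [this, LinearMap.toMatrix'_id]
  inv_val := by
    rw [← LinearMap.toMatrix'_comp]
    have : g.comp f = LinearMap.id := LinearMap.ext h2
    rw [this, LinearMap.toMatrix'_id]

theorem glOfLin_mulVec (f g : W8 F →ₗ[F] W8 F) (h1 : ∀ X, f (g X) = X) (h2 : ∀ X, g (f X) = X)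
    (X : W8 F) :
    ((glOfLin f g h1 h2 : GL (Fin 2 × Fin 4) F) : Matrix (Fin 2 × Fin 4) (Fin 2 × Fin 4) F) *ᵥ X = f X :=
  LinearMap.toMatrix'_mulVec f X

/-- the swap as an invertible matrix -/
def sGL : GL (Fin 2 × Fin 4) F := glOfLin sLin sLin sFun_sFun sFun_sFun

/-- the transvection as an invertible matrix -/
def tGL : GL (Fin 2 × Fin 4) F := glOfLin tLin tLin' tFun_tFun' tFun'_tFun

theorem sGL_mulVec (X : W8 F) :
    ((sGL : GL (Fin 2 × Fin 4) F) : Matrix (Fin 2 × Fin 4) (Fin 2 × Fin 4) F) *ᵥ X = sFun X :=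
  glOfLin_mulVec _ _ _ _ X

theorem tGL_mulVec (X : W8 F) :
    ((tGL : GL (Fin 2 × Fin 4) F) : Matrix (Fin 2 × Fin 4) (Fin 2 × Fin 4) F) *ᵥ X = tFun X :=
  glOfLin_mulVec _ _ _ _ X

theorem std_sFun (X Y : W8 F) : std (sFun X) (sFun Y) = std X Y := by
  simp [std, sFun]
  ring

theorem std_tFun (X Y : W8 F) : std (tFun X) (tFun Y) = std X Y := by
  simp [std, tFun]
  ring

/-- rank one decomposition of a singular vector of the hyperbolic form -/
theorem exists_rank_one (w : Fin 4 → F) (hw : w 0 * w 2 + w 1 * w 3 = 0) :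
    ∃ y z : Fin 2 → F, w 0 = y 0 * z 0 ∧ w 1 = y 0 * z 1 ∧ w 2 = y 1 * z 1 ∧ w 3 = -(y 1 * z 0) := by
  by_cases h0 : w 0 = 0
  · by_cases h1 : w 1 = 0
    · refine ⟨![0, 1], ![-w 3, w 2], ?_, ?_, ?_, ?_⟩ <;> simp [h0, h1]
    · have h3 : w 3 = 0 := by
        rw [h0, zero_mul, zero_add] at hw
        exact (mul_eq_zero.mp hw).resolve_left h1
      refine ⟨![1, w 2 / w 1], ![0, w 1], ?_, ?_, ?_, ?_⟩ <;> simp [h0, h3]
      field_simp
  · refine ⟨![1, -w 3 / w 0], ![w 0, w 1], ?_, ?_, ?_, ?_⟩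
    · simp
    · simp
    · simp only [Matrix.cons_val_one, Matrix.cons_val_zero]
      field_simp
      linear_combination hw
    · simp only [Matrix.cons_val_one, Matrix.cons_val_zero]
      field_simp

theorem isPure_sFun (X : W8 F) (hX : IsPure X) : IsPure (sFun X) := by
  obtain ⟨x, w, hw, rfl⟩ := hX
  obtain ⟨y, z, h0, h1, h2, h3⟩ := exists_rank_one w hw
  refine ⟨y, ![x 0 * z 0, x 0 * z 1, x 1 * z 1, -(x 1 * z 0)], ?_, ?_⟩
  · simp
    ring
  · funext ⟨i, j⟩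
    fin_cases i <;> fin_cases j <;> simp [sFun, pt, h0, h1, h2, h3] <;> ring

variable {ι : Type} [Fintype ι] [DecidableEq ι]

/-- pure vectors of `F^ι` -/
def IsPureV (e : ι ≃ Fin 2 × Fin 4) (P : GL ι F) (v : ι → F) : Prop :=
  ∃ X : W8 F, IsPure X ∧ v = tau e P X

/-- the subgroup of `Sp` permuting the pure vectors -/
def pureSub (e : (Fin 4 ⊕ Fin 4) ≃ Fin 2 × Fin 4) (P : GL (Fin 4 ⊕ Fin 4) F) :
    Subgroup (GL (Fin 4 ⊕ Fin 4) F) where
  carrier := {g | g ∈ spGL 4 F ∧ ∀ v, IsPureV e P v ↔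
    IsPureV e P ((g : Matrix (Fin 4 ⊕ Fin 4) (Fin 4 ⊕ Fin 4) F) *ᵥ v)}
  mul_mem' {a b} ha hb := by
    refine ⟨(spGL 4 F).mul_mem ha.1 hb.1, fun v => ?_⟩
    rw [Units.val_mul, ← Matrix.mulVec_mulVec]
    exact (hb.2 v).trans (ha.2 _)
  one_mem' := by
    refine ⟨(spGL 4 F).one_mem, fun v => ?_⟩
    rw [Units.val_one, Matrix.one_mulVec]
  inv_mem' {a} ha := by
    refine ⟨(spGL 4 F).inv_mem ha.1, fun v => ?_⟩
    have h := ha.2 (((a⁻¹ : GL (Fin 4 ⊕ Fin 4) F) : Matrix (Fin 4 ⊕ Fin 4) (Fin 4 ⊕ Fin 4) F) *ᵥ v)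
    rw [Matrix.mulVec_mulVec, ← Units.val_mul, mul_inv_cancel, Units.val_one, Matrix.one_mulVec] at h
    exact h.symm

theorem mem_sp_iff (e : (Fin 4 ⊕ Fin 4) ≃ Fin 2 × Fin 4) (P : GL (Fin 4 ⊕ Fin 4) F) (d : F) (hd : d ≠ 0)
    (hform : ∀ X Y : W8 F, sympForm 4 F (tau e P X) (tau e P Y) = d * std X Y)
    (k : GL (Fin 2 × Fin 4) F) :
    tHom e P k ∈ spGL 4 F ↔ ∀ X Y : W8 F,
      std ((k : Matrix (Fin 2 × Fin 4) (Fin 2 × Fin 4) F) *ᵥ X)
        ((k : Matrix (Fin 2 × Fin 4) (Fin 2 × Fin 4) F) *ᵥ Y) = std X Y := by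
  constructor
  · intro h X Y
    have h1 := h (tau e P X) (tau e P Y)
    change sympForm 4 F (((tHom e P k : GL _ F) : Matrix _ _ F) *ᵥ tau e P X)
      (((tHom e P k : GL _ F) : Matrix _ _ F) *ᵥ tau e P Y) = _ at h1
    rw [tHom_mulVec_tau, tHom_mulVec_tau, hform, hform] at h1
    exact mul_left_cancel₀ hd h1
  · intro h u v
    obtain ⟨X, rfl⟩ := tau_surj e P u
    obtain ⟨Y, rfl⟩ := tau_surj e P v
    change sympForm 4 F (((tHom e P k : GL _ F) : Matrix _ _ F) *ᵥ tau e P X)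
      (((tHom e P k : GL _ F) : Matrix _ _ F) *ᵥ tau e P Y) = _
    rw [tHom_mulVec_tau, tHom_mulVec_tau, hform, hform, h]

section main

variable (e : (Fin 4 ⊕ Fin 4) ≃ Fin 2 × Fin 4) (P : GL (Fin 4 ⊕ Fin 4) F) (d : F) (hd : d ≠ 0)
  (hform : ∀ X Y : W8 F, sympForm 4 F (tau e P X) (tau e P Y) = d * std X Y)

include hd hform

theorem tensor_forward (h2 : (2 : F) ≠ 0) (g : GL (Fin 4 ⊕ Fin 4) F)
    (hg : g ∈ tensorProductSubgroup 2 4 e P) (hsp : g ∈ spGL 4 F) (v : Fin 4 ⊕ Fin 4 → F)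
    (hv : IsPureV e P v) :
    IsPureV e P ((g : Matrix (Fin 4 ⊕ Fin 4) (Fin 4 ⊕ Fin 4) F) *ᵥ v) := by
  rw [tensorProductSubgroup_eq_map] at hg
  obtain ⟨k, ⟨a, b, hk⟩, rfl⟩ := hg
  obtain ⟨X, ⟨x, w, hw, rfl⟩, rfl⟩ := hv
  have hk' := (mem_sp_iff e P d hd hform k).1 hsp
  refine ⟨pt ((a : Matrix _ _ F) *ᵥ x) ((b : Matrix _ _ F) *ᵥ w),
    ⟨(a : Matrix _ _ F) *ᵥ x, (b : Matrix _ _ F) *ᵥ w, ?_, rfl⟩, ?_⟩
  · have h := hk' (pt (((a⁻¹ : GL (Fin 2) F) : Matrix (Fin 2) (Fin 2) F) *ᵥ (Pi.single 0 1 : Fin 2 → F)) w)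
      (pt (((a⁻¹ : GL (Fin 2) F) : Matrix (Fin 2) (Fin 2) F) *ᵥ (Pi.single 1 1 : Fin 2 → F)) w)
    rw [hk, kron_pt, kron_pt, std_pt, std_pt, Matrix.mulVec_mulVec, Matrix.mulVec_mulVec,
      ← Units.val_mul, mul_inv_cancel, Units.val_one, Matrix.one_mulVec, Matrix.one_mulVec] at h
    have h4 : (w 0 * w 2 + w 2 * w 0 + w 1 * w 3 + w 3 * w 1) = 0 := by
      linear_combination 2 * hw
    rw [h4, mul_zero] at h
    simp only [Pi.single_eq_same, ne_eq, one_ne_zero, not_false_eq_true, Pi.single_eq_of_ne,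
      zero_ne_one, mul_one, mul_zero, sub_zero, one_mul] at h
    have h5 : (2 : F) * (((b : Matrix (Fin 4) (Fin 4) F) *ᵥ w) 0 * ((b : Matrix (Fin 4) (Fin 4) F) *ᵥ w) 2 +
        ((b : Matrix (Fin 4) (Fin 4) F) *ᵥ w) 1 * ((b : Matrix (Fin 4) (Fin 4) F) *ᵥ w) 3) = 0 := by
      linear_combination h
    exact (mul_eq_zero.mp h5).resolve_left h2
  · rw [tHom_mulVec_tau, hk, kron_pt]

theorem tensor_le_pureSub (h2 : (2 : F) ≠ 0) :
    tensorProductSubgroup 2 4 e P ⊓ spGL 4 F ≤ pureSub e P := by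
  intro g hg
  obtain ⟨hg1, hg2⟩ := hg
  refine ⟨hg2, fun v => ⟨fun hv => tensor_forward e P d hd hform h2 g hg1 hg2 v hv, fun hv => ?_⟩⟩
  have h := tensor_forward e P d hd hform h2 g⁻¹ (Subgroup.inv_mem _ hg1) (Subgroup.inv_mem _ hg2) _ hv
  rw [Matrix.mulVec_mulVec, ← Units.val_mul, inv_mul_cancel, Units.val_one, Matrix.one_mulVec] at h
  exact h

theorem sG_mem_pureSub : tHom e P sGL ∈ pureSub e P := by
  refine ⟨(mem_sp_iff e P d hd hform sGL).2 fun X Y => ?_, fun v => ⟨fun hv => ?_, fun hv => ?_⟩⟩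
  · rw [sGL_mulVec, sGL_mulVec, std_sFun]
  · obtain ⟨X, hX, rfl⟩ := hv
    exact ⟨sFun X, isPure_sFun X hX, by rw [tHom_mulVec_tau, sGL_mulVec]⟩
  · obtain ⟨Z, rfl⟩ := tau_surj e P v
    obtain ⟨X', hX', hE⟩ := hv
    rw [tHom_mulVec_tau, sGL_mulVec] at hE
    have h1 := tau_inj e P _ _ hE
    refine ⟨Z, ?_, rfl⟩
    have h2 : Z = sFun X' := by rw [← h1, sFun_sFun]
    rw [h2]
    exact isPure_sFun X' hX'

omit hd hform in
theorem sG_not_mem_tensor : tHom e P (sGL : GL (Fin 2 × Fin 4) F) ∉ tensorProductSubgroup 2 4 e P := by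
  rw [tensorProductSubgroup_eq_map]
  rintro ⟨k, ⟨a, b, hk⟩, hkeq⟩
  have hks := tHom_injective e P hkeq
  subst hks
  have E1 := congrFun (congrFun hk (0, 0)) (0, 0)
  have E2 := congrFun (congrFun hk (0, 2)) (1, 1)
  have E3 := congrFun (congrFun hk (0, 0)) (1, 0)
  simp only [sGL, glOfLin, LinearMap.toMatrix'_apply, Matrix.kroneckerMap_apply] at E1 E2 E3
  simp [sLin, sFun] at E1 E2 E3
  rcases E3 with h | h
  · rw [h, zero_mul] at E2
    exact one_ne_zero E2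
  · rw [h, mul_zero] at E1
    exact one_ne_zero E1

theorem tG_mem_sp : tHom e P tGL ∈ spGL 4 F := by
  refine (mem_sp_iff e P d hd hform tGL).2 fun X Y => ?_
  rw [tGL_mulVec, tGL_mulVec, std_tFun]

omit hd hform in
theorem tG_not_mem_pureSub : tHom e P (tGL : GL (Fin 2 × Fin 4) F) ∉ pureSub e P := by
  intro h
  have h1 := (h.2 (tau e P (pt (Pi.single 0 1) (Pi.single 0 1)))).1
    ⟨_, ⟨Pi.single 0 1, Pi.single 0 1, by simp, rfl⟩, rfl⟩
  obtain ⟨X', ⟨x', w', -, rfl⟩, hE⟩ := h1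
  rw [tHom_mulVec_tau, tGL_mulVec] at hE
  have h2 := tau_inj e P _ _ hE
  have E1 := congrFun h2 (0, 0)
  have E2 := congrFun h2 (1, 2)
  have E3 := congrFun h2 (0, 2)
  simp [tFun, pt] at E1 E2 E3
  rcases E3 with h | h
  · rw [h, zero_mul] at E1
    exact one_ne_zero E1
  · rw [h, mul_zero] at E2
    exact one_ne_zero E2

theorem core_not_maximal (h2 : (2 : F) ≠ 0) :
    ¬ IsMaximalIn (spGL 4 F) (tensorProductSubgroup 2 4 e P ⊓ spGL 4 F) := by
  rintro ⟨-, hmax⟩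
  have hle : pureSub e P ≤ spGL 4 F := fun g hg => hg.1
  rcases hmax (pureSub e P) (tensor_le_pureSub e P d hd hform h2) hle with h | h
  · have hs := sG_mem_pureSub e P d hd hform
    rw [h] at hs
    exact sG_not_mem_tensor e P hs.1
  · have ht := tG_mem_sp e P d hd hform
    rw [← h] at ht
    exact tG_not_mem_pureSub e P ht

end main

end core

end Cfsg.Agent.Lib.Helper86.SpMax
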