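import Mathlib
import Cfsg.Prelude.Def_GeometricClasses

/-!
Helper for K-SpMax-Y3a: from a hyperbolic basis of a bilinear form on `F^4` to the matrix statement
`Cᵀ * gramMatrix f * C = hyperbolic Gram matrix`, with `C` invertible.
-/

set_option autoImplicit false

namespace Cfsg.Agent.Lib.Helper86.SpMax

open Cfsg Cfsg.Geo
open scoped Matrix Kronecker MatrixGroups

variable {F : Type*} [Field F]

section gramb

variable {κ : Type} [Fintype κ] [DecidableEq κ]

theorem bilin_sum_left'' (f : (κ → F) → (κ → F) → F) (hf : IsBilinearForm f)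
    {α : Type*} (s : Finset α) (c : α → F) (v : α → κ → F) (y : κ → F) :
    f (∑ a ∈ s, c a • v a) y = ∑ a ∈ s, c a * f (v a) y := by
  classical
  induction s using Finset.induction_on with
  | empty =>
    have h := hf.smul_left 0 0 y
    rw [zero_smul, zero_mul] at h
    simpa using h
  | insert a s ha ih =>
    rw [Finset.sum_insert ha, Finset.sum_insert ha, hf.add_left, hf.smul_left, ih]

theorem bilin_sum_right'' (f : (κ → F) → (κ → F) → F) (hf : IsBilinearForm f)
    {α : Type*} (s : Finset α) (c : α → F) (v : α → κ → F) (x : κ → F) :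
    f x (∑ a ∈ s, c a • v a) = ∑ a ∈ s, c a * f x (v a) := by
  classical
  induction s using Finset.induction_on with
  | empty =>
    have h := hf.smul_right 0 x 0
    rw [zero_smul, zero_mul] at h
    simpa using h
  | insert a s ha ih =>
    rw [Finset.sum_insert ha, Finset.sum_insert ha, hf.add_right, hf.smul_right, ih]

/-- a bilinear form given as a function is the form of its Gram matrix -/
theorem bilin_eq_gram'' (f : (κ → F) → (κ → F) → F) (hf : IsBilinearForm f)
    (x y : κ → F) : f x y = x ⬝ᵥ (gramMatrix f *ᵥ y) := by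
  have hx : x = ∑ a, x a • (Pi.single a (1 : F) : κ → F) := by
    ext k
    simp [Finset.sum_apply, Pi.single_apply]
  have hy : y = ∑ a, y a • (Pi.single a (1 : F) : κ → F) := by
    ext k
    simp [Finset.sum_apply, Pi.single_apply]
  conv_lhs => rw [hx, bilin_sum_left'' f hf]
  simp only [dotProduct, Matrix.mulVec, gramMatrix]
  apply Finset.sum_congr rfl
  intro a _
  congr 1
  conv_lhs => rw [hy, bilin_sum_right'' f hf]
  apply Finset.sum_congr rfl
  intro b _
  ring

end gramb

/-- from a hyperbolic basis to the Gram matrix statement -/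
theorem exists_gl_of_hyperbolic_basis (f : (Fin 4 → F) → (Fin 4 → F) → F) (hf : IsBilinearForm f)
    (c : Fin 4 → (Fin 4 → F))
    (hc : ∀ j l, f (c j) (c l) =
      (!![0, 0, 1, 0; 0, 0, 0, 1; 1, 0, 0, 0; 0, 1, 0, 0] : Matrix (Fin 4) (Fin 4) F) j l) :
    ∃ C : GL (Fin 4) F,
      (C : Matrix (Fin 4) (Fin 4) F)ᵀ * gramMatrix f * (C : Matrix (Fin 4) (Fin 4) F) =
        (!![0, 0, 1, 0; 0, 0, 0, 1; 1, 0, 0, 0; 0, 1, 0, 0] : Matrix (Fin 4) (Fin 4) F) := by
  set H : Matrix (Fin 4) (Fin 4) F := !![0, 0, 1, 0; 0, 0, 0, 1; 1, 0, 0, 0; 0, 1, 0, 0] with hH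
  obtain ⟨Cm, hCm⟩ : ∃ Cm : Matrix (Fin 4) (Fin 4) F, ∀ m j, Cm m j = c j m := ⟨fun m j => c j m, fun _ _ => rfl⟩
  have hgram : Cmᵀ * gramMatrix f * Cm = H := by
    ext j l
    rw [← hc j l, bilin_eq_gram'' f hf]
    simp only [Matrix.mul_apply, Matrix.transpose_apply, dotProduct, Matrix.mulVec, hCm,
      Finset.sum_mul, Finset.mul_sum]
    rw [Finset.sum_comm]
    apply Finset.sum_congr rfl
    intro a _
    apply Finset.sum_congr rfl
    intro b _
    ring
  have hHH : H * H = 1 := by
    rw [hH]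
    ext i j
    fin_cases i <;> fin_cases j <;> simp [Matrix.mul_apply, Fin.sum_univ_four]
  have hleft : (H * Cmᵀ * gramMatrix f) * Cm = 1 := by
    rw [Matrix.mul_assoc, Matrix.mul_assoc, ← Matrix.mul_assoc Cmᵀ, hgram, hHH]
  have hright : Cm * (H * Cmᵀ * gramMatrix f) = 1 := mul_eq_one_comm.mp hleft
  exact ⟨⟨Cm, H * Cmᵀ * gramMatrix f, hright, hleft⟩, hgram⟩

end Cfsg.Agent.Lib.Helper86.SpMax
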