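import Mathlib
import Cfsg.Prelude.Def_GeometricClasses
import Cfsg.Agent.Lib.Helper86.SpMaxY3b

/-!
Backup of K-SpMax-Y3a: a plus-type symmetric form on `F^4` (char ≠ 2) has a hyperbolic basis.
-/

set_option autoImplicit false

namespace Cfsg.Agent.Lib.Helper86.SpMax

open Cfsg Cfsg.Geo
open scoped Matrix Kronecker MatrixGroups

variable {F : Type*} [Field F]

/-- the standard hyperbolic Gram matrix on `F^4` -/
def hyp4 (F : Type*) [Field F] : Matrix (Fin 4) (Fin 4) F :=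
  !![0, 0, 1, 0; 0, 0, 0, 1; 1, 0, 0, 0; 0, 1, 0, 0]

theorem exists_hyperbolic_vectors (h2 : (2 : F) ≠ 0) (f₂ : (Fin 4 → F) → (Fin 4 → F) → F)
    (h₂ : IsSymmetricForm f₂) (hplus : IsPlusTypeOn (fun v : Fin 4 → F => f₂ v v) ⊤) :
    ∃ a1 a2 b1 b2 : Fin 4 → F,
      f₂ a1 a1 = 0 ∧ f₂ a1 a2 = 0 ∧ f₂ a1 b1 = 1 ∧ f₂ a1 b2 = 0 ∧
      f₂ a2 a2 = 0 ∧ f₂ a2 b1 = 0 ∧ f₂ a2 b2 = 1 ∧
      f₂ b1 b1 = 0 ∧ f₂ b1 b2 = 0 ∧ f₂ b2 b2 = 0 := by
  -- a Mathlib bilinear form equal to f₂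
  set Bm : LinearMap.BilinForm F (Fin 4 → F) := Matrix.toBilin' (gramMatrix f₂) with hBm
  have hB : ∀ x y, f₂ x y = Bm x y := by
    intro x y
    rw [hBm, Matrix.toBilin'_apply', bilin_eq_gram'' f₂ h₂.bilinear]
  have hsymm : ∀ x y, Bm x y = Bm y x := fun x y => by rw [← hB, ← hB, h₂.symm]
  obtain ⟨U, -, hUQ, hdim⟩ := hplus
  have hU2 : Module.finrank F U = 2 := by
    have : Module.finrank F (⊤ : Submodule F (Fin 4 → F)) = 4 := by
      rw [finrank_top, Module.finrank_fin_fun]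
    omega
  have hUU : ∀ u ∈ U, ∀ u' ∈ U, Bm u u' = 0 := by
    intro u hu u' hu'
    have h1 : Bm (u + u') (u + u') = 0 := by
      rw [← hB]; exact hUQ _ (U.add_mem hu hu')
    have h3 : Bm u u = 0 := by rw [← hB]; exact hUQ _ hu
    have h4 : Bm u' u' = 0 := by rw [← hB]; exact hUQ _ hu'
    simp only [map_add, LinearMap.add_apply, h3, h4, hsymm u' u] at h1
    have h5 : (2 : F) * Bm u u' = 0 := by linear_combination h1
    exact (mul_eq_zero.mp h5).resolve_left h2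
  -- a1
  have hUne : U ≠ ⊥ := by
    intro h
    rw [h, finrank_bot] at hU2
    omega
  obtain ⟨a1, ha1U, ha1⟩ := Submodule.exists_mem_ne_zero_of_ne_bot hUne
  obtain ⟨v1, hv1⟩ := (h₂.nondegenerate a1 ha1).2
  rw [hB] at hv1
  -- u outside span a1
  have hnle : ¬ U ≤ Submodule.span F {a1} := by
    intro hle
    have h1 := Submodule.finrank_mono hle
    rw [hU2, finrank_span_singleton ha1] at h1
    omega
  obtain ⟨u, huU, hu⟩ := SetLike.not_le_iff_exists.mp hnle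
  set a2 : Fin 4 → F := u - (Bm u v1 / Bm a1 v1) • a1 with ha2def
  have ha2U : a2 ∈ U := U.sub_mem huU (U.smul_mem _ ha1U)
  have ha2 : a2 ≠ 0 := by
    intro h
    apply hu
    rw [Submodule.mem_span_singleton]
    exact ⟨Bm u v1 / Bm a1 v1, (sub_eq_zero.mp h).symm⟩
  have ha2v1 : Bm a2 v1 = 0 := by
    rw [ha2def]
    simp only [map_sub, map_smul, LinearMap.sub_apply, LinearMap.smul_apply, smul_eq_mul]
    field_simp
    ring
  obtain ⟨v2, hv2⟩ := (h₂.nondegenerate a2 ha2).2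
  rw [hB] at hv2
  set b1' : Fin 4 → F := (Bm a1 v1)⁻¹ • v1 with hb1'
  set b2' : Fin 4 → F := (Bm a2 v2)⁻¹ • (v2 - (Bm a1 v2 / Bm a1 v1) • v1) with hb2'
  have e11 : Bm a1 b1' = 1 := by
    rw [hb1']; simp only [map_smul, smul_eq_mul]; field_simp
  have e21 : Bm a2 b1' = 0 := by
    rw [hb1']; simp only [map_smul, smul_eq_mul, ha2v1, mul_zero]
  have e12 : Bm a1 b2' = 0 := by
    rw [hb2']; simp only [map_smul, map_sub, smul_eq_mul]; field_simp; ring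
  have e22 : Bm a2 b2' = 1 := by
    rw [hb2']; simp only [map_smul, map_sub, smul_eq_mul, ha2v1, mul_zero, sub_zero]; field_simp
  have z11 : Bm a1 a1 = 0 := hUU a1 ha1U a1 ha1U
  have z12 : Bm a1 a2 = 0 := hUU a1 ha1U a2 ha2U
  have z21 : Bm a2 a1 = 0 := hUU a2 ha2U a1 ha1U
  have z22 : Bm a2 a2 = 0 := hUU a2 ha2U a2 ha2U
  have e11' : Bm b1' a1 = 1 := by rw [hsymm, e11]
  have e21' : Bm b1' a2 = 0 := by rw [hsymm, e21]
  have e12' : Bm b2' a1 = 0 := by rw [hsymm, e12]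
  have e22' : Bm b2' a2 = 1 := by rw [hsymm, e22]
  have s21 : Bm b2' b1' = Bm b1' b2' := hsymm _ _
  refine ⟨a1, a2, b1' - (Bm b1' b1' / 2) • a1,
    b2' - (Bm b2' b2' / 2) • a2 - (Bm b1' b2') • a1, ?_, ?_, ?_, ?_, ?_, ?_, ?_, ?_, ?_, ?_⟩ <;>
  rw [hB] <;>
  simp only [map_sub, map_smul, LinearMap.sub_apply, LinearMap.smul_apply, smul_eq_mul,
    z11, z12, z21, z22, e11, e21, e12, e22, e11', e21', e12', e22'] <;>
  field_simp <;> ring

/-- K-SpMax-Y3a: a plus-type symmetric form on `F^4` (char ≠ 2) has the hyperbolic Gram matrix in a suitable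
basis -/
theorem exists_hyperbolic_gram' (h2 : (2 : F) ≠ 0) (f₂ : (Fin 4 → F) → (Fin 4 → F) → F)
    (h₂ : IsSymmetricForm f₂) (hplus : IsPlusTypeOn (fun v : Fin 4 → F => f₂ v v) ⊤) :
    ∃ C : GL (Fin 4) F,
      (C : Matrix (Fin 4) (Fin 4) F)ᵀ * gramMatrix f₂ * (C : Matrix (Fin 4) (Fin 4) F) = hyp4 F := by
  obtain ⟨a1, a2, b1, b2, h11, h12, h13, h14, h22, h23, h24, h33, h34, h44⟩ :=
    exists_hyperbolic_vectors h2 f₂ h₂ hplus
  refine exists_gl_of_hyperbolic_basis f₂ h₂.bilinear ![a1, a2, b1, b2] ?_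
  intro j l
  fin_cases j <;> fin_cases l <;>
  simp only [Fin.zero_eta, Fin.mk_one, Fin.reduceFinMk, Matrix.cons_val_zero, Matrix.cons_val_one,
    Matrix.cons_val, Matrix.of_apply, Matrix.cons_val', Matrix.cons_val_fin_one] <;>
  first
  | assumption
  | (rw [h₂.symm]; assumption)

end Cfsg.Agent.Lib.Helper86.SpMax
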