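import Mathlib
import Cfsg.Prelude.Def_GeometricClasses
import Cfsg.Agent.Lib.Helper11.TensorPlumb
import Cfsg.Agent.Lib.Helper86.SpMaxY3Core
import Cfsg.Agent.Lib.Helper86.SpMaxY3c

/-!
K-SpMax-Y3: for `q` odd the stabiliser in `Sp_8(q)` of a tensor decomposition
(alternating on `F^2`) ⊗ (plus-type symmetric on `F^4`) is not maximal.
-/

set_option autoImplicit false

namespace Cfsg.Agent.Lib.Helper86.SpMax

open Cfsg Cfsg.Geo
open scoped Matrix Kronecker MatrixGroups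
open Cfsg.Agent.Lib.Helper11.TensorPlumb

variable {F : Type*} [Field F]

section gram

variable {κ : Type} [Fintype κ] [DecidableEq κ]

theorem bilin_sum_left' (f : (κ → F) → (κ → F) → F) (hf : IsBilinearForm f)
    {α : Type*} (s : Finset α) (c : α → F) (v : α → κ → F) (y : κ → F) :
    f (∑ a ∈ s, c a • v a) y = ∑ a ∈ s, c a * f (v a) y := by
  classical
  induction s using Finset.induction_on with
  | empty =>
    have h := hf.smul_left 0 0 y
    rw [zero_smul, zero_mul] at h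
    simpa using h
  | insert a s ha ih =>
    rw [Finset.sum_insert ha, Finset.sum_insert ha, hf.add_left, hf.smul_left, ih]

theorem bilin_sum_right' (f : (κ → F) → (κ → F) → F) (hf : IsBilinearForm f)
    {α : Type*} (s : Finset α) (c : α → F) (v : α → κ → F) (x : κ → F) :
    f x (∑ a ∈ s, c a • v a) = ∑ a ∈ s, c a * f x (v a) := by
  classical
  induction s using Finset.induction_on with
  | empty =>
    have h := hf.smul_right 0 x 0
    rw [zero_smul, zero_mul] at h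
    simpa using h
  | insert a s ha ih =>
    rw [Finset.sum_insert ha, Finset.sum_insert ha, hf.add_right, hf.smul_right, ih]

/-- a bilinear form given as a function is the form of its Gram matrix -/
theorem bilin_eq_gram' (f : (κ → F) → (κ → F) → F) (hf : IsBilinearForm f)
    (x y : κ → F) : f x y = x ⬝ᵥ (gramMatrix f *ᵥ y) := by
  have hx : x = ∑ a, x a • (Pi.single a (1 : F) : κ → F) := by
    ext k
    simp [Finset.sum_apply, Pi.single_apply]
  have hy : y = ∑ a, y a • (Pi.single a (1 : F) : κ → F) := by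
    ext k
    simp [Finset.sum_apply, Pi.single_apply]
  conv_lhs => rw [hx, bilin_sum_left' f hf]
  simp only [dotProduct, Matrix.mulVec, gramMatrix]
  apply Finset.sum_congr rfl
  intro a _
  congr 1
  conv_lhs => rw [hy, bilin_sum_right' f hf]
  apply Finset.sum_congr rfl
  intro b _
  ring

theorem formOfGram_eq (G : Matrix κ κ F) (x y : κ → F) :
    formOfGram id G x y = x ⬝ᵥ (G *ᵥ y) := by
  simp only [formOfGram, id, dotProduct, Matrix.mulVec, Finset.mul_sum, mul_assoc]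

theorem dot_congr (k G : Matrix κ κ F) (X Y : κ → F) :
    (k *ᵥ X) ⬝ᵥ (G *ᵥ (k *ᵥ Y)) = X ⬝ᵥ ((kᵀ * G * k) *ᵥ Y) := by
  rw [← Matrix.mulVec_mulVec, ← Matrix.mulVec_mulVec, Matrix.dotProduct_mulVec X kᵀ,
    Matrix.vecMul_transpose]

end gram

section reduction

/-- the Kronecker product of two invertible matrices as an element of `GL` -/
def kronGL2 (a : GL (Fin 2) F) (b : GL (Fin 4) F) : GL (Fin 2 × Fin 4) F where
  val := (a : Matrix (Fin 2) (Fin 2) F) ⊗ₖ (b : Matrix (Fin 4) (Fin 4) F)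
  inv := ((a⁻¹ : GL (Fin 2) F) : Matrix (Fin 2) (Fin 2) F) ⊗ₖ
    ((b⁻¹ : GL (Fin 4) F) : Matrix (Fin 4) (Fin 4) F)
  val_inv := by
    rw [← Matrix.mul_kronecker_mul, ← Units.val_mul, ← Units.val_mul, mul_inv_cancel,
      mul_inv_cancel, Units.val_one, Units.val_one, Matrix.one_kronecker_one]
  inv_val := by
    rw [← Matrix.mul_kronecker_mul, ← Units.val_mul, ← Units.val_mul, inv_mul_cancel,
      inv_mul_cancel, Units.val_one, Units.val_one, Matrix.one_kronecker_one]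

theorem kronGL2_mem (a : GL (Fin 2) F) (b : GL (Fin 4) F) :
    kronGL2 a b ∈ kroneckerSubgroup 2 4 F := ⟨a, b, rfl⟩

variable {ι : Type} [Fintype ι] [DecidableEq ι]

theorem tHom_mul_reindex (e : ι ≃ Fin 2 × Fin 4) (P : GL ι F) (k₀ k : GL (Fin 2 × Fin 4) F) :
    tHom e (P * glReindex e.symm k₀) k = tHom e P (k₀ * k * k₀⁻¹) := by
  change (P * glReindex e.symm k₀) * glReindex e.symm k * (P * glReindex e.symm k₀)⁻¹ =
    P * glReindex e.symm (k₀ * k * k₀⁻¹) * P⁻¹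
  rw [map_mul, map_mul, map_inv]
  group

theorem tau_mul_reindex (e : ι ≃ Fin 2 × Fin 4) (P : GL ι F) (k₀ : GL (Fin 2 × Fin 4) F)
    (X : Fin 2 × Fin 4 → F) :
    tau e (P * glReindex e.symm k₀) X =
      tau e P ((k₀ : Matrix (Fin 2 × Fin 4) (Fin 2 × Fin 4) F) *ᵥ X) := by
  unfold tau
  have h1 : ((P * glReindex e.symm k₀ : GL ι F) : Matrix ι ι F) =
      (P : Matrix ι ι F) * (k₀ : Matrix (Fin 2 × Fin 4) (Fin 2 × Fin 4) F).submatrix e e := rfl
  change ((P * glReindex e.symm k₀ : GL ι F) : Matrix ι ι F) *ᵥ (X ∘ e) = _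
  rw [h1, ← Matrix.mulVec_mulVec]
  congr 1
  rw [Matrix.submatrix_mulVec_equiv]
  have hz : (X ∘ ⇑e) ∘ ⇑e.symm = X := by
    ext q
    simp [Function.comp]
  rw [hz]

theorem tensorProductSubgroup_mul_reindex (e : ι ≃ Fin 2 × Fin 4) (P : GL ι F)
    (k₀ : GL (Fin 2 × Fin 4) F) (hk₀ : k₀ ∈ kroneckerSubgroup 2 4 F) :
    tensorProductSubgroup 2 4 e (P * glReindex e.symm k₀) = tensorProductSubgroup 2 4 e P := by
  rw [tensorProductSubgroup_eq_map, tensorProductSubgroup_eq_map]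
  ext g
  constructor
  · rintro ⟨k, hk, rfl⟩
    refine ⟨k₀ * k * k₀⁻¹, ?_, (tHom_mul_reindex e P k₀ k).symm⟩
    exact Subgroup.mul_mem _ (Subgroup.mul_mem _ hk₀ hk) (Subgroup.inv_mem _ hk₀)
  · rintro ⟨k, hk, rfl⟩
    refine ⟨k₀⁻¹ * k * k₀, ?_, ?_⟩
    · exact Subgroup.mul_mem _ (Subgroup.mul_mem _ (Subgroup.inv_mem _ hk₀) hk) hk₀
    · rw [tHom_mul_reindex]
      congr 1
      group

theorem two_ne_zero_of_odd_card [Fintype F] (hodd : Odd (Fintype.card F)) : (2 : F) ≠ 0 := by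
  apply Ring.two_ne_zero
  intro h
  have := FiniteField.even_card_iff_char_two.mp h
  rw [Nat.odd_iff] at hodd
  omega

theorem gram_std (γ : F) (G₁ : Matrix (Fin 2) (Fin 2) F) (h00 : G₁ 0 0 = 0) (h11 : G₁ 1 1 = 0)
    (h01 : G₁ 0 1 = γ) (h10 : G₁ 1 0 = -γ) (X Y : W8 F) :
    X ⬝ᵥ ((G₁ ⊗ₖ hyp4 F) *ᵥ Y) = γ * std X Y := by
  simp only [dotProduct, Matrix.mulVec, Fintype.sum_prod_type, Fin.sum_univ_two, Fin.sum_univ_four,
    Matrix.kroneckerMap_apply, hyp4, std, h00, h11, h01, h10]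
  simp
  ring

end reduction

/-- K-SpMax-Y3 -/
theorem tensor_two_four_plus_not_maximal [Fintype F] (hodd : Odd (Fintype.card F))
    (e : (Fin 4 ⊕ Fin 4) ≃ Fin 2 × Fin 4) (P : GL (Fin 4 ⊕ Fin 4) F)
    (f₁ : (Fin 2 → F) → (Fin 2 → F) → F) (f₂ : (Fin 4 → F) → (Fin 4 → F) → F)
    (h₁ : IsSymplecticForm f₁) (h₂ : IsSymmetricForm f₂)
    (hplus : IsPlusTypeOn (fun v : Fin 4 → F => f₂ v v) ⊤)
    (hT : IsTensorFormStructure id (sympForm 4 F) f₁ f₂ e P) :
    ¬ IsMaximalIn (spGL 4 F) (tensorProductSubgroup 2 4 e P ⊓ spGL 4 F) := by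
  have h2 := two_ne_zero_of_odd_card hodd
  obtain ⟨c, hc, hcf⟩ := hT
  obtain ⟨C, hC⟩ := exists_hyperbolic_gram' h2 f₂ h₂ hplus
  set k₀ : GL (Fin 2 × Fin 4) F := kronGL2 1 C with hk₀
  set γ : F := gramMatrix f₁ 0 1 with hγdef
  have h00 : gramMatrix f₁ 0 0 = 0 := h₁.alternating _
  have h11 : gramMatrix f₁ 1 1 = 0 := h₁.alternating _
  have h10 : gramMatrix f₁ 1 0 = -γ := h₁.skew _ _
  have hγ : γ ≠ 0 := by
    intro hγ0
    have hG0 : gramMatrix f₁ = 0 := by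
      ext i j
      fin_cases i <;> fin_cases j
      · exact h00
      · exact hγ0
      · simpa [hγ0] using h10
      · exact h11
    have hne : (Pi.single 0 1 : Fin 2 → F) ≠ 0 := by
      intro h
      have := congrFun h 0
      simp at this
    obtain ⟨⟨x, hx⟩, -⟩ := h₁.nondegenerate (Pi.single 0 1) hne
    apply hx
    rw [bilin_eq_gram' f₁ h₁.bilinear, hG0, Matrix.zero_mulVec, dotProduct_zero]
  rw [← tensorProductSubgroup_mul_reindex e P k₀ (kronGL2_mem 1 C)]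
  refine core_not_maximal e (P * glReindex e.symm k₀) (c * γ) (mul_ne_zero hc hγ) ?_ h2
  intro X Y
  rw [tau_mul_reindex, tau_mul_reindex]
  have h := hcf ((k₀ : Matrix (Fin 2 × Fin 4) (Fin 2 × Fin 4) F) *ᵥ X)
    ((k₀ : Matrix (Fin 2 × Fin 4) (Fin 2 × Fin 4) F) *ᵥ Y)
  change sympForm 4 F (tau e P _) (tau e P _) = _ at h
  rw [h, formOfGram_eq, mul_assoc]
  congr 1
  rw [← gram_std γ (gramMatrix f₁) h00 h11 rfl h10]
  have hG : (k₀ : Matrix (Fin 2 × Fin 4) (Fin 2 × Fin 4) F)ᵀ * (gramMatrix f₁ ⊗ₖ gramMatrix f₂) *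
      (k₀ : Matrix (Fin 2 × Fin 4) (Fin 2 × Fin 4) F) = gramMatrix f₁ ⊗ₖ hyp4 F := by
    change ((1 : Matrix (Fin 2) (Fin 2) F) ⊗ₖ (C : Matrix (Fin 4) (Fin 4) F))ᵀ * _ *
      ((1 : Matrix (Fin 2) (Fin 2) F) ⊗ₖ (C : Matrix (Fin 4) (Fin 4) F)) = _
    rw [← Matrix.kroneckerMap_transpose, ← Matrix.mul_kronecker_mul, ← Matrix.mul_kronecker_mul,
      Matrix.transpose_one, Matrix.one_mul, Matrix.mul_one, hC]
  rw [← hG, dot_congr]

end Cfsg.Agent.Lib.Helper86.SpMax
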