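import Mathlib

set_option autoImplicit false

namespace Cfsg.Agent.Lib.Helper86

open Matrix

section TV
variable {ι : Type*} [Fintype ι] [DecidableEq ι] {F : Type*} [Field F]

/-- The matrix `1 + v φᵀ`. -/
def tvM (v φ : ι → F) : Matrix ι ι F := 1 + vecMulVec v φ

theorem tvM_det (v φ : ι → F) : (tvM v φ).det = 1 + φ ⬝ᵥ v := by
  have h := Matrix.det_one_add_replicateCol_mul_replicateRow (ι := Unit) v φ
  rw [← h]
  unfold tvM
  congr 2
  ext i j
  simp [vecMulVec, Matrix.mul_apply]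

/-- The transvection `1 + v φᵀ` (with `φ v = 0`) as an element of the special linear group. -/
def tvS (v φ : ι → F) (h : φ ⬝ᵥ v = 0) : Matrix.SpecialLinearGroup ι F :=
  ⟨tvM v φ, by rw [tvM_det, h, add_zero]⟩

theorem tvS_coe (v φ : ι → F) (h : φ ⬝ᵥ v = 0) :
    ((tvS v φ h : Matrix.SpecialLinearGroup ι F) : Matrix ι ι F) = 1 + vecMulVec v φ := rfl

theorem vmv_mul_vmv (u x w y : ι → F) :
    vecMulVec u x * vecMulVec w y = (x ⬝ᵥ w) • vecMulVec u y := by
  rw [vecMulVec_mul_vecMulVec, vecMulVec_smul]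

theorem sl_coe_mul_inv (g : Matrix.SpecialLinearGroup ι F) :
    (g : Matrix ι ι F) * ((g⁻¹ : Matrix.SpecialLinearGroup ι F) : Matrix ι ι F) = 1 := by
  rw [← Matrix.SpecialLinearGroup.coe_mul, mul_inv_cancel, Matrix.SpecialLinearGroup.coe_one]

theorem sl_coe_inv_mul (g : Matrix.SpecialLinearGroup ι F) :
    ((g⁻¹ : Matrix.SpecialLinearGroup ι F) : Matrix ι ι F) * (g : Matrix ι ι F) = 1 := by
  rw [← Matrix.SpecialLinearGroup.coe_mul, inv_mul_cancel, Matrix.SpecialLinearGroup.coe_one]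

theorem sl_conj_dot (g : Matrix.SpecialLinearGroup ι F) (v φ : ι → F) :
    (φ ᵥ* ((g⁻¹ : Matrix.SpecialLinearGroup ι F) : Matrix ι ι F)) ⬝ᵥ ((g : Matrix ι ι F) *ᵥ v) = φ ⬝ᵥ v := by
  rw [dotProduct_mulVec, vecMul_vecMul, sl_coe_inv_mul, vecMul_one]

theorem tvS_conj (g : Matrix.SpecialLinearGroup ι F) (v φ : ι → F) (h : φ ⬝ᵥ v = 0)
    (h' : (φ ᵥ* ((g⁻¹ : Matrix.SpecialLinearGroup ι F) : Matrix ι ι F)) ⬝ᵥ ((g : Matrix ι ι F) *ᵥ v) = 0) :
    g * tvS v φ h * g⁻¹ =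
      tvS ((g : Matrix ι ι F) *ᵥ v) (φ ᵥ* ((g⁻¹ : Matrix.SpecialLinearGroup ι F) : Matrix ι ι F)) h' := by
  apply Subtype.ext
  simp only [Matrix.SpecialLinearGroup.coe_mul, tvS_coe]
  rw [mul_add, add_mul, mul_one, sl_coe_mul_inv, mul_vecMulVec, vecMulVec_mul]

theorem tvS_conj' (g : Matrix.SpecialLinearGroup ι F) (v φ : ι → F) (h : φ ⬝ᵥ v = 0) :
    g * tvS v φ h * g⁻¹ =
      tvS ((g : Matrix ι ι F) *ᵥ v) (φ ᵥ* ((g⁻¹ : Matrix.SpecialLinearGroup ι F) : Matrix ι ι F))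
        ((sl_conj_dot g v φ).trans h) :=
  tvS_conj g v φ h _

theorem tvS_congr {v v' φ φ' : ι → F} (h : φ ⬝ᵥ v = 0) (hv : v = v') (hφ : φ = φ') :
    tvS v φ h = tvS v' φ' (by rw [← hv, ← hφ]; exact h) := by
  subst hv; subst hφ; rfl

theorem tvS_mul_same (v w φ : ι → F) (h : φ ⬝ᵥ v = 0) (h' : φ ⬝ᵥ w = 0) :
    tvS v φ h * tvS w φ h' = tvS (v + w) φ (by rw [dotProduct_add, h, h', add_zero]) := by
  apply Subtype.ext
  simp only [Matrix.SpecialLinearGroup.coe_mul, tvS_coe]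
  rw [add_mul, mul_add, mul_add, one_mul, one_mul, mul_one, vmv_mul_vmv, h', zero_smul, add_vecMulVec]
  abel

theorem tvS_zero_left (φ : ι → F) : tvS (0 : ι → F) φ (by simp) = 1 := by
  apply Subtype.ext
  simp [tvS_coe]

theorem tvS_inv (v φ : ι → F) (h : φ ⬝ᵥ v = 0) :
    (tvS v φ h)⁻¹ = tvS (-v) φ (by rw [dotProduct_neg, h, neg_zero]) := by
  apply inv_eq_of_mul_eq_one_right
  rw [tvS_mul_same]
  rw [← tvS_zero_left φ]
  exact tvS_congr _ (add_neg_cancel v) rfl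

theorem tvS_mulVec (x y : ι → F) (h : y ⬝ᵥ x = 0) (v : ι → F) :
    ((tvS x y h : Matrix.SpecialLinearGroup ι F) : Matrix ι ι F) *ᵥ v = v + (y ⬝ᵥ v) • x := by
  rw [tvS_coe, add_mulVec, one_mulVec, vecMulVec_mulVec]
  congr 1
  ext i
  simp [mul_comm]

theorem tvS_vecMul (x y : ι → F) (h : y ⬝ᵥ x = 0) (φ : ι → F) :
    φ ᵥ* ((tvS x y h : Matrix.SpecialLinearGroup ι F) : Matrix ι ι F) = φ + (φ ⬝ᵥ x) • y := by
  rw [tvS_coe, vecMul_add, vecMul_one, vecMul_vecMulVec]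

theorem sl_mulVec_eq_zero (g : Matrix.SpecialLinearGroup ι F) {x : ι → F}
    (h : (g : Matrix ι ι F) *ᵥ x = 0) : x = 0 := by
  have : ((g⁻¹ : Matrix.SpecialLinearGroup ι F) : Matrix ι ι F) *ᵥ ((g : Matrix ι ι F) *ᵥ x) = x := by
    rw [mulVec_mulVec, sl_coe_inv_mul, one_mulVec]
  rw [← this, h, mulVec_zero]

theorem sl_vecMul_eq_zero (g : Matrix.SpecialLinearGroup ι F) {x : ι → F}
    (h : x ᵥ* (g : Matrix ι ι F) = 0) : x = 0 := by
  have : (x ᵥ* (g : Matrix ι ι F)) ᵥ* ((g⁻¹ : Matrix.SpecialLinearGroup ι F) : Matrix ι ι F) = x := by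
    rw [vecMul_vecMul, sl_coe_mul_inv, vecMul_one]
  rw [← this, h, zero_vecMul]

/-- `k`-th row of `g` is the `k`-th unit row vector. -/
def RowFix (k : ι) (g : Matrix.SpecialLinearGroup ι F) : Prop :=
  (Pi.single k (1 : F)) ᵥ* (g : Matrix ι ι F) = Pi.single k 1

theorem RowFix.mul {k : ι} {g h : Matrix.SpecialLinearGroup ι F} (hg : RowFix k g) (hh : RowFix k h) :
    RowFix k (g * h) := by
  unfold RowFix at *
  rw [Matrix.SpecialLinearGroup.coe_mul, ← vecMul_vecMul, hg, hh]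

theorem rowFix_tvS {k : ι} (x y : ι → F) (h : y ⬝ᵥ x = 0) (hk : x k = 0) : RowFix k (tvS x y h) := by
  unfold RowFix
  rw [tvS_vecMul, single_one_dotProduct, hk, zero_smul, add_zero]

/-- First move: if some coordinate of `v` other than the `p`-th is non-zero, `v` can be moved to `e_p`. -/
theorem tv_move_aux (p : ι) (v : ι → F) (j : ι) (hjp : j ≠ p) (hj : v j ≠ 0) :
    ∃ g : Matrix.SpecialLinearGroup ι F, (g : Matrix ι ι F) *ᵥ v = Pi.single p 1 ∧
      ∀ k, k ≠ p → v k = 0 → RowFix k g := by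
  -- first transvection
  have h1 : (Pi.single j (1 : F)) ⬝ᵥ (((1 - v p) / v j) • (Pi.single p (1 : F) : ι → F)) = 0 := by
    rw [single_one_dotProduct]
    simp [Pi.single_apply, hjp]
  set g₁ := tvS (((1 - v p) / v j) • (Pi.single p (1 : F) : ι → F)) (Pi.single j 1) h1 with hg₁
  set v' := (g₁ : Matrix ι ι F) *ᵥ v with hv'
  have hv'eq : v' = v + (1 - v p) • (Pi.single p (1 : F) : ι → F) := by
    rw [hv', hg₁, tvS_mulVec, single_one_dotProduct, smul_smul]
    congr 2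
    field_simp
  have hv'p : v' p = 1 := by
    rw [hv'eq]; simp
  have hv'k : ∀ k, k ≠ p → v' k = v k := by
    intro k hk
    rw [hv'eq]; simp [Pi.single_apply, hk]
  have h2 : (Pi.single p (1 : F)) ⬝ᵥ ((Pi.single p (1 : F) : ι → F) - v') = 0 := by
    rw [single_one_dotProduct]
    simp [hv'p]
  set g₂ := tvS ((Pi.single p (1 : F) : ι → F) - v') (Pi.single p 1) h2 with hg₂
  refine ⟨g₂ * g₁, ?_, ?_⟩
  · rw [Matrix.SpecialLinearGroup.coe_mul, ← mulVec_mulVec, ← hv', hg₂, tvS_mulVec, single_one_dotProduct,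
      hv'p, one_smul]
    abel
  · intro k hk hvk
    apply RowFix.mul
    · apply rowFix_tvS
      simp [Pi.single_apply, hk, hv'k k hk, hvk]
    · apply rowFix_tvS
      simp [Pi.single_apply, hk]

/-- `SL` is transitive on non-zero vectors (dimension at least two), with control on rows. -/
theorem tv_move (p r : ι) (hpr : p ≠ r) (v : ι → F) (hv : v ≠ 0) :
    ∃ g : Matrix.SpecialLinearGroup ι F, (g : Matrix ι ι F) *ᵥ v = Pi.single p 1 ∧
      ∀ k, k ≠ p → k ≠ r → v k = 0 → RowFix k g := by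
  by_cases hex : ∃ j, j ≠ p ∧ v j ≠ 0
  · obtain ⟨j, hjp, hj⟩ := hex
    obtain ⟨g, hg1, hg2⟩ := tv_move_aux p v j hjp hj
    exact ⟨g, hg1, fun k hk _ hvk => hg2 k hk hvk⟩
  · have hall : ∀ j, j ≠ p → v j = 0 := by
      intro j hj
      by_contra h
      exact hex ⟨j, hj, h⟩
    have hvp : v p ≠ 0 := by
      intro h
      apply hv
      ext j
      by_cases hj : j = p
      · rw [hj, h]; rfl
      · rw [hall j hj]; rfl
    have h0 : (Pi.single p (1 : F)) ⬝ᵥ (Pi.single r (1 : F) : ι → F) = 0 := by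
      rw [single_one_dotProduct]
      simp [Pi.single_apply, hpr]
    set g₀ := tvS (Pi.single r (1 : F) : ι → F) (Pi.single p 1) h0 with hg₀
    set v₀ := (g₀ : Matrix ι ι F) *ᵥ v with hv₀
    have hv₀eq : v₀ = v + v p • (Pi.single r (1 : F) : ι → F) := by
      rw [hv₀, hg₀, tvS_mulVec, single_one_dotProduct]
    have hv₀r : v₀ r ≠ 0 := by
      rw [hv₀eq]
      simp [hall r hpr.symm, hvp]
    obtain ⟨g, hg1, hg2⟩ := tv_move_aux p v₀ r hpr.symm hv₀r
    refine ⟨g * g₀, ?_, ?_⟩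
    · rw [Matrix.SpecialLinearGroup.coe_mul, ← mulVec_mulVec, ← hv₀, hg1]
    · intro k hk hkr hvk
      apply RowFix.mul
      · apply hg2 k hk
        rw [hv₀eq]
        simp [Pi.single_apply, hkr, hvk]
      · apply rowFix_tvS
        simp [Pi.single_apply, hkr]

theorem single_dot_single_ne {i j : ι} (hij : i ≠ j) :
    (Pi.single j (1 : F)) ⬝ᵥ (Pi.single i (1 : F) : ι → F) = 0 := by
  rw [single_one_dotProduct]
  simp [Pi.single_apply, hij.symm]

/-- Transitivity: every transvection `1 + v φᵀ` is conjugate in `SL` to the elementary one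
`1 + e_{i0} e_{i1}ᵀ` (dimension at least three). -/
theorem tv_transitive (i0 i1 i2 : ι) (h01 : i0 ≠ i1) (h02 : i0 ≠ i2) (h12 : i1 ≠ i2)
    (v φ : ι → F) (hv : v ≠ 0) (hφ : φ ≠ 0) (h : φ ⬝ᵥ v = 0) :
    ∃ g : Matrix.SpecialLinearGroup ι F,
      g * tvS v φ h * g⁻¹ = tvS (Pi.single i0 1) (Pi.single i1 1) (single_dot_single_ne h01) := by
  obtain ⟨g₁, hg₁, -⟩ := tv_move i0 i1 h01 v hv
  set φ' := φ ᵥ* ((g₁⁻¹ : Matrix.SpecialLinearGroup ι F) : Matrix ι ι F) with hφ'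
  have hφ'0 : φ' ≠ 0 := fun h0 => hφ (sl_vecMul_eq_zero g₁⁻¹ h0)
  have hφ'i0 : φ' i0 = 0 := by
    have h3 := sl_conj_dot g₁ v φ
    rw [hg₁, h, dotProduct_single_one] at h3
    exact h3
  obtain ⟨h₂, hh₂, hrow⟩ := tv_move i1 i2 h12 φ' hφ'0
  have hfix := hrow i0 h01 h02 hφ'i0
  unfold RowFix at hfix
  set g₂ : Matrix.SpecialLinearGroup ι F := (Matrix.SpecialLinearGroup.transpose h₂)⁻¹ with hg₂
  have hg₂inv : g₂⁻¹ = Matrix.SpecialLinearGroup.transpose h₂ := inv_inv _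
  have e1 : φ' ᵥ* ((g₂⁻¹ : Matrix.SpecialLinearGroup ι F) : Matrix ι ι F) = Pi.single i1 1 := by
    rw [hg₂inv, Matrix.SpecialLinearGroup.coe_transpose, vecMul_transpose, hh₂]
  have e2 : (g₂ : Matrix ι ι F) *ᵥ (Pi.single i0 (1 : F)) = Pi.single i0 1 := by
    have h4 : ((Matrix.SpecialLinearGroup.transpose h₂ : Matrix.SpecialLinearGroup ι F) : Matrix ι ι F) *ᵥ
        (Pi.single i0 (1 : F)) = Pi.single i0 1 := by
      rw [Matrix.SpecialLinearGroup.coe_transpose, mulVec_transpose]; exact hfix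
    calc (g₂ : Matrix ι ι F) *ᵥ (Pi.single i0 (1 : F))
        = (g₂ : Matrix ι ι F) *ᵥ (((Matrix.SpecialLinearGroup.transpose h₂ :
            Matrix.SpecialLinearGroup ι F) : Matrix ι ι F) *ᵥ (Pi.single i0 (1 : F))) := by rw [h4]
      _ = Pi.single i0 1 := by rw [mulVec_mulVec, ← hg₂inv, sl_coe_mul_inv, one_mulVec]
  refine ⟨g₂ * g₁, ?_⟩
  have e3 : g₂ * g₁ * tvS v φ h * (g₂ * g₁)⁻¹ = g₂ * (g₁ * tvS v φ h * g₁⁻¹) * g₂⁻¹ := by group
  rw [e3, tvS_conj' g₁, tvS_conj' g₂]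
  exact tvS_congr _ (by rw [hg₁, e2]) e1

end TV

section Alg
variable {F : Type*} [Field F] [CharP F 2] {S : Type*} [Ring S] [Algebra F S]

theorem alg_add_self (F : Type*) [Field F] [CharP F 2] {S : Type*} [Ring S] [Algebra F S]
    (x : S) : x + x = 0 := by
  have h2 : (2 : F) = 0 := CharTwo.two_eq_zero
  calc x + x = (2 : F) • x := by rw [two_smul]
    _ = 0 := by rw [h2, zero_smul]

theorem alg_one_add_sq (F : Type*) [Field F] [CharP F 2] {S : Type*} [Ring S] [Algebra F S]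
    (X : S) : (1 + X) * (1 + X) = 1 + X * X := by
  calc (1 + X) * (1 + X) = 1 + (X + X) + X * X := by noncomm_ring
    _ = 1 + X * X := by rw [alg_add_self F X, add_zero]

/-- The degenerate case: `(A B)(A)=0`. -/
theorem tv_pair_sq (F : Type*) [Field F] [CharP F 2] {S : Type*} [Ring S] [Algebra F S]
    (A B : S) (hA : A * A = 0) (hB : B * B = 0) (hABA : A * B * A = 0)
    (hBAB : B * A * B = 0) :
    ((1 + A) * (1 + B)) ^ 2 = 1 + (A * B + B * A) ∧ ((1 + A) * (1 + B)) ^ 4 = 1 := by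
  have hM : (1 + A) * (1 + B) = 1 + (A + B + A * B) := by noncomm_ring
  have hXX : (A + B + A * B) * (A + B + A * B) = A * B + B * A := by
    simp only [mul_add, add_mul, ← mul_assoc]
    simp only [mul_assoc A B B, hA, hB, hABA, hBAB, zero_mul, mul_zero, add_zero,
      zero_add]
    abel
  have hYY : (A * B + B * A) * (A * B + B * A) = 0 := by
    simp only [mul_add, add_mul, ← mul_assoc]
    simp only [mul_assoc A B B, mul_assoc B A A, hA, hB, hABA, hBAB, zero_mul, mul_zero, add_zero]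
  have h2 : ((1 + A) * (1 + B)) ^ 2 = 1 + (A * B + B * A) := by
    rw [hM, pow_two, alg_one_add_sq F, hXX]
  refine ⟨h2, ?_⟩
  have : (4 : ℕ) = 2 * 2 := rfl
  rw [this, pow_mul, h2, pow_two, alg_one_add_sq F, hYY, add_zero]

omit [CharP F 2] in
theorem tv_pair_rel (A B : S) (c : F) (hA : A * A = 0) (hB : B * B = 0) (hABA : A * B * A = c • A)
    (hBAB : B * A * B = c • B) :
    (A + B + A * B) * (A + B + A * B) = c • (A + B + A * B) + (A * B + B * A) ∧
    (A + B + A * B) * (A * B + B * A) = c • (A + B + A * B) ∧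
    (A * B + B * A) * (A + B + A * B) = c • (A + B + A * B) ∧
    (A * B + B * A) * (A * B + B * A) = c • (A * B + B * A) := by
  refine ⟨?_, ?_, ?_, ?_⟩
  all_goals
    simp only [mul_add, add_mul, ← mul_assoc]
    simp only [mul_assoc A B B, mul_assoc B A A, hA, hB, hABA, hBAB, zero_mul, mul_zero, add_zero,
      zero_add, smul_mul_assoc]
    module

theorem tv_pair_pow_two (X Y : S) (c : F) (hXX : X * X = c • X + Y) (hXY : X * Y = c • X)
    (hYX : Y * X = c • X) (hYY : Y * Y = c • Y) (j : ℕ) :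
    ∃ s t : F, (1 + X) ^ (2 ^ j) = 1 + s • X + t • Y ∧ s * c = c ^ (2 ^ j) := by
  have h2 : (2 : F) = 0 := CharTwo.two_eq_zero
  induction j with
  | zero => exact ⟨1, 0, by simp, by simp⟩
  | succ j ih =>
    obtain ⟨s, t, hM, hs⟩ := ih
    have key : (1 + s • X + t • Y) * (1 + s • X + t • Y) =
        1 + (c * s ^ 2 + 2 * (s + c * s * t)) • X + (s ^ 2 + c * t ^ 2 + 2 * t) • Y := by
      simp only [mul_add, add_mul, mul_one, one_mul, smul_mul_assoc, mul_smul_comm, hXX, hXY, hYX,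
        hYY, smul_add, smul_smul]
      match_scalars <;> ring
    refine ⟨c * s ^ 2, s ^ 2 + c * t ^ 2, ?_, ?_⟩
    · rw [pow_succ, pow_mul, hM, pow_two, key, h2, zero_mul, zero_mul, add_zero, add_zero]
    · calc c * s ^ 2 * c = (s * c) ^ 2 := by ring
        _ = (c ^ (2 ^ j)) ^ 2 := by rw [hs]
        _ = c ^ (2 ^ (j + 1)) := by rw [← pow_mul, ← pow_succ]

theorem tv_pair_pow_card [Fintype F] [CharP S 2] (X Y : S) (c : F) (hc : c ≠ 0)
    (hXX : X * X = c • X + Y) (hXY : X * Y = c • X)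
    (hYX : Y * X = c • X) (hYY : Y * Y = c • Y) :
    (1 + X) ^ (Fintype.card F ^ 2) = 1 + X := by
  obtain ⟨m, -, hq⟩ := FiniteField.card F 2
  obtain ⟨s, t, hM, hs⟩ := tv_pair_pow_two X Y c hXX hXY hYX hYY (m : ℕ)
  rw [← hq] at hM hs
  rw [FiniteField.pow_card] at hs
  have hs1 : s = 1 := by
    have : s * c = 1 * c := by rw [hs, one_mul]
    exact mul_right_cancel₀ hc this
  rw [hs1, one_smul] at hM
  have hYpow : ∀ k : ℕ, Y ^ (k + 1) = c ^ k • Y := by
    intro k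
    induction k with
    | zero => simp
    | succ k ih => rw [pow_succ, ih, smul_mul_assoc, hYY, smul_smul, pow_succ]
  have hYq : Y ^ Fintype.card F = Y := by
    have h1 : Fintype.card F = (Fintype.card F - 1) + 1 :=
      (Nat.sub_add_cancel Fintype.card_pos).symm
    rw [h1, hYpow, FiniteField.pow_card_sub_one_eq_one c hc, one_smul]
  have hcomm : Commute (1 + X) (t • Y) := by
    unfold Commute SemiconjBy
    rw [add_mul, mul_add, one_mul, mul_one, mul_smul_comm, smul_mul_assoc, hXY, hYX]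
  haveI : Fact (Nat.Prime 2) := ⟨Nat.prime_two⟩
  have h3 : ((1 + X) + t • Y) ^ (Fintype.card F) = (1 + X) ^ (Fintype.card F) + (t • Y) ^ (Fintype.card F) := by
    rw [hq]
    exact add_pow_char_pow_of_commute 2 (m : ℕ) hcomm
  rw [pow_two, pow_mul, hM, h3, hM, smul_pow, hYq, FiniteField.pow_card, add_assoc,
    alg_add_self F (t • Y), add_zero]

end Alg

section Main
variable {ι : Type*} [Fintype ι] [DecidableEq ι] {F : Type*} [Field F]

/-- The set of all transvections `1 + v φᵀ` (`v, φ ≠ 0`, `φ v = 0`) in `SL`. -/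
def tvSet (ι : Type*) [Fintype ι] [DecidableEq ι] (F : Type*) [Field F] :
    Set (Matrix.SpecialLinearGroup ι F) :=
  {t | ∃ (v φ : ι → F) (h : φ ⬝ᵥ v = 0), v ≠ 0 ∧ φ ≠ 0 ∧ t = tvS v φ h}

theorem tvS_mem_tvSet (v φ : ι → F) (h : φ ⬝ᵥ v = 0) (hv : v ≠ 0) (hφ : φ ≠ 0) :
    tvS v φ h ∈ tvSet ι F := ⟨v, φ, h, hv, hφ, rfl⟩

theorem tvSet_conj {t : Matrix.SpecialLinearGroup ι F} (ht : t ∈ tvSet ι F)
    (g : Matrix.SpecialLinearGroup ι F) : g * t * g⁻¹ ∈ tvSet ι F := by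
  obtain ⟨v, φ, h, hv, hφ, rfl⟩ := ht
  rw [tvS_conj' g v φ h]
  exact tvS_mem_tvSet _ _ _ (fun h0 => hv (sl_mulVec_eq_zero g h0))
    (fun h0 => hφ (sl_vecMul_eq_zero g⁻¹ h0))

theorem tvSet_ne_one {t : Matrix.SpecialLinearGroup ι F} (ht : t ∈ tvSet ι F) : t ≠ 1 := by
  obtain ⟨v, φ, h, hv, hφ, rfl⟩ := ht
  intro h1
  have h2 := congrArg (fun x : Matrix.SpecialLinearGroup ι F => (x : Matrix ι ι F)) h1
  simp only [tvS_coe, Matrix.SpecialLinearGroup.coe_one] at h2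
  have h3 : vecMulVec v φ = 0 := by
    have := add_left_cancel (a := (1 : Matrix ι ι F)) (b := vecMulVec v φ) (c := 0) (by rw [h2, add_zero])
    exact this
  rcases vecMulVec_eq_zero.mp h3 with h4 | h4
  · exact hv h4
  · exact hφ h4

theorem tvSet_mul_self [CharP F 2] {t : Matrix.SpecialLinearGroup ι F} (ht : t ∈ tvSet ι F) :
    t * t = 1 := by
  obtain ⟨v, φ, h, hv, hφ, rfl⟩ := ht
  rw [tvS_mul_same, ← tvS_zero_left φ]
  exact tvS_congr _ (funext fun i => CharTwo.add_self_eq_zero (v i)) rfl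

theorem tvSet_orderOf [CharP F 2] {t : Matrix.SpecialLinearGroup ι F} (ht : t ∈ tvSet ι F) :
    orderOf t = 2 := by
  haveI : Fact (Nat.Prime 2) := ⟨Nat.prime_two⟩
  exact orderOf_eq_prime (by rw [pow_two]; exact tvSet_mul_self ht) (tvSet_ne_one ht)

theorem comm_of_invol {G : Type*} [Group G] {a b : G} (haa : a * a = 1) (hbb : b * b = 1)
    (h1 : a * b * (a * b) = 1) : a * b = b * a := by
  have ia : a⁻¹ = a := inv_eq_of_mul_eq_one_left haa
  have ib : b⁻¹ = b := inv_eq_of_mul_eq_one_left hbb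
  calc a * b = (a * b)⁻¹ := eq_inv_of_mul_eq_one_left h1
    _ = b * a := by rw [_root_.mul_inv_rev, ia, ib]

theorem tvSet_pair [Fintype F] [CharP F 2] [Nonempty ι] {a b : Matrix.SpecialLinearGroup ι F}
    (ha : a ∈ tvSet ι F) (hb : b ∈ tvSet ι F) :
    a * b = b * a ∨ (orderOf (a * b) = 4 ∧ (a * b) ^ 2 ∈ tvSet ι F) ∨
      (a * b) ^ (Fintype.card F ^ 2 - 1) = 1 := by
  have haa := tvSet_mul_self ha
  have hbb := tvSet_mul_self hb
  obtain ⟨v, φ, h, hv, hφ, rfl⟩ := ha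
  obtain ⟨w, ψ, h', hw, hψ, rfl⟩ := hb
  have hAA : vecMulVec v φ * vecMulVec v φ = 0 := by rw [vmv_mul_vmv, h, zero_smul]
  have hBB : vecMulVec w ψ * vecMulVec w ψ = 0 := by rw [vmv_mul_vmv, h', zero_smul]
  have hAB : vecMulVec v φ * vecMulVec w ψ = (φ ⬝ᵥ w) • vecMulVec v ψ := vmv_mul_vmv _ _ _ _
  have hBA : vecMulVec w ψ * vecMulVec v φ = (ψ ⬝ᵥ v) • vecMulVec w φ := vmv_mul_vmv _ _ _ _
  have hABA : vecMulVec v φ * vecMulVec w ψ * vecMulVec v φ =
      ((φ ⬝ᵥ w) * (ψ ⬝ᵥ v)) • vecMulVec v φ := by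
    rw [hAB, smul_mul_assoc, vmv_mul_vmv, smul_smul]
  have hBAB : vecMulVec w ψ * vecMulVec v φ * vecMulVec w ψ =
      ((φ ⬝ᵥ w) * (ψ ⬝ᵥ v)) • vecMulVec w ψ := by
    rw [hBA, smul_mul_assoc, vmv_mul_vmv, smul_smul, mul_comm]
  have hcoe : ∀ k : ℕ, (((tvS v φ h * tvS w ψ h') ^ k : Matrix.SpecialLinearGroup ι F) : Matrix ι ι F) =
      ((1 + vecMulVec v φ) * (1 + vecMulVec w ψ)) ^ k := by
    intro k
    rw [Matrix.SpecialLinearGroup.coe_pow, Matrix.SpecialLinearGroup.coe_mul, tvS_coe, tvS_coe]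
  by_cases hc : (φ ⬝ᵥ w) * (ψ ⬝ᵥ v) = 0
  · -- degenerate case
    rw [hc, zero_smul] at hABA hBAB
    obtain ⟨h2, h4⟩ := tv_pair_sq F _ _ hAA hBB hABA hBAB
    have h4' : (tvS v φ h * tvS w ψ h') ^ 4 = 1 := by
      apply Subtype.ext
      rw [hcoe, h4, Matrix.SpecialLinearGroup.coe_one]
    haveI : Fact (Nat.Prime 2) := ⟨Nat.prime_two⟩
    have hord : ∀ (hne : (tvS v φ h * tvS w ψ h') ^ 2 ≠ 1), orderOf (tvS v φ h * tvS w ψ h') = 4 := by
      intro hne
      have h5 : ¬ (tvS v φ h * tvS w ψ h') ^ 2 ^ 1 = 1 := by rw [pow_one]; exact hne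
      have h6 : (tvS v φ h * tvS w ψ h') ^ 2 ^ (1 + 1) = 1 := by norm_num; exact h4'
      have := orderOf_eq_prime_pow h5 h6
      rw [this]; norm_num
    rcases mul_eq_zero.mp hc with hα | hβ
    · by_cases hβ : ψ ⬝ᵥ v = 0
      · -- commute
        left
        have h1 : (tvS v φ h * tvS w ψ h') ^ 2 = 1 := by
          apply Subtype.ext
          rw [hcoe, h2, hAB, hBA, hα, hβ, zero_smul, zero_smul, add_zero, add_zero,
            Matrix.SpecialLinearGroup.coe_one]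
        rw [pow_two] at h1
        exact comm_of_invol haa hbb h1
      · right; left
        have hmat : ((1 + vecMulVec v φ) * (1 + vecMulVec w ψ)) ^ 2 =
            1 + vecMulVec ((ψ ⬝ᵥ v) • w) φ := by
          rw [h2, hAB, hBA, hα, zero_smul, zero_add, smul_vecMulVec]
        have hmem : (tvS v φ h * tvS w ψ h') ^ 2 = tvS ((ψ ⬝ᵥ v) • w) φ (by
            rw [dotProduct_smul, hα, smul_zero]) := by
          apply Subtype.ext
          rw [hcoe, hmat, tvS_coe]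
        have hin : (tvS v φ h * tvS w ψ h') ^ 2 ∈ tvSet ι F := by
          rw [hmem]
          exact tvS_mem_tvSet _ _ _ (smul_ne_zero hβ hw) hφ
        exact ⟨hord (tvSet_ne_one hin), hin⟩
    · have hα : φ ⬝ᵥ w ≠ 0 ∨ φ ⬝ᵥ w = 0 := (em _).symm
      rcases hα with hα | hα
      · right; left
        have hmat : ((1 + vecMulVec v φ) * (1 + vecMulVec w ψ)) ^ 2 =
            1 + vecMulVec ((φ ⬝ᵥ w) • v) ψ := by
          rw [h2, hAB, hBA, hβ, zero_smul, add_zero, smul_vecMulVec]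
        have hmem : (tvS v φ h * tvS w ψ h') ^ 2 = tvS ((φ ⬝ᵥ w) • v) ψ (by
            rw [dotProduct_smul, hβ, smul_zero]) := by
          apply Subtype.ext
          rw [hcoe, hmat, tvS_coe]
        have hin : (tvS v φ h * tvS w ψ h') ^ 2 ∈ tvSet ι F := by
          rw [hmem]
          exact tvS_mem_tvSet _ _ _ (smul_ne_zero hα hv) hψ
        exact ⟨hord (tvSet_ne_one hin), hin⟩
      · left
        have h1 : (tvS v φ h * tvS w ψ h') ^ 2 = 1 := by
          apply Subtype.ext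
          rw [hcoe, h2, hAB, hBA, hα, hβ, zero_smul, zero_smul, add_zero, add_zero,
            Matrix.SpecialLinearGroup.coe_one]
        rw [pow_two] at h1
        exact comm_of_invol haa hbb h1
  · right; right
    obtain ⟨r1, r2, r3, r4⟩ := tv_pair_rel (vecMulVec v φ) (vecMulVec w ψ) _ hAA hBB hABA hBAB
    have hp := tv_pair_pow_card _ _ _ hc r1 r2 r3 r4
    have hM : (1 + vecMulVec v φ) * (1 + vecMulVec w ψ) =
        1 + (vecMulVec v φ + vecMulVec w ψ + vecMulVec v φ * vecMulVec w ψ) := by noncomm_ring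
    have hq : (tvS v φ h * tvS w ψ h') ^ (Fintype.card F ^ 2) = tvS v φ h * tvS w ψ h' := by
      apply Subtype.ext
      rw [hcoe, hM, hp, ← hM, Matrix.SpecialLinearGroup.coe_mul, tvS_coe, tvS_coe]
    have hpos : 0 < Fintype.card F ^ 2 := pow_pos Fintype.card_pos 2
    have h1 : Fintype.card F ^ 2 = (Fintype.card F ^ 2 - 1) + 1 := (Nat.sub_add_cancel hpos).symm
    rw [h1, pow_succ] at hq
    exact mul_right_cancel (b := tvS v φ h * tvS w ψ h') (by rw [hq, one_mul])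

end Main

end Cfsg.Agent.Lib.Helper86
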