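/-
K-SLU-4 (keystone 598204, architect helper49, S5982): in odd characteristic, with `|F| = q₀²` and
`v₂(n) ≤ v₂(q - 1)`, an element `x ∈ SL_n(F)` whose square is the scalar `z` has `z` a square.
-/
import Mathlib
import Cfsg.Prelude.Def_Classical
import Cfsg.Prelude.Def_GeometricClasses

set_option autoImplicit false

namespace Cfsg.Agent.Lib.Helper86.SLU

open Polynomial Matrix

variable {F : Type*} [Field F] [Fintype F]

omit [Fintype F] in
/-- if `A ^ 2 = z • 1` with `z` a nonsquare then `n = 2 k` and `det A = (-z) ^ k` -/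
theorem det_of_sq_eq_nonsquare {n : ℕ} (A : Matrix (Fin n) (Fin n) F) (z : F)
    (hz : A ^ 2 = z • (1 : Matrix (Fin n) (Fin n) F)) (hns : ¬ IsSquare z) :
    ∃ k : ℕ, n = 2 * k ∧ A.det = (-z) ^ k := by
  classical
  have hirr : Irreducible (X ^ 2 - C z : F[X]) := by
    apply X_pow_sub_C_irreducible_of_prime Nat.prime_two
    intro b hb
    exact hns ⟨b, by rw [← hb, sq]⟩
  have hmon : (X ^ 2 - C z : F[X]).Monic := monic_X_pow_sub_C z (by norm_num)
  have hdeg : (X ^ 2 - C z : F[X]).natDegree = 2 := natDegree_X_pow_sub_C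
  have hae : aeval A (X ^ 2 - C z : F[X]) = 0 := by
    rw [map_sub, map_pow, aeval_X, aeval_C, hz, Algebra.algebraMap_eq_smul_one, sub_self]
  have hdvd : A.charpoly ∣ (X ^ 2 - C z : F[X]) ^ n := by
    -- `charpoly ∣ s ^ n` (division of `s(X) - s(A)` by `X - A` in the matrix ring over `F[X]`)
    set a : Matrix (Fin n) (Fin n) F[X] := Matrix.scalar (Fin n) (X : F[X]) with ha
    set b : Matrix (Fin n) (Fin n) F[X] := (C : F →+* F[X]).mapMatrix A with hb
    have hab : Commute a b := Matrix.scalar_commute _ (fun r => Commute.all _ _) _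
    have hb2 : b ^ 2 = Matrix.scalar (Fin n) (C z) := by
      rw [hb, ← map_pow, hz]
      ext i j
      simp [Matrix.one_apply, Matrix.smul_apply, Matrix.scalar_apply, Matrix.diagonal_apply]
      split_ifs <;> simp
    have ha2 : a ^ 2 = Matrix.scalar (Fin n) ((X : F[X]) ^ 2) := by
      rw [ha, ← map_pow]
    have hfac : (a - b) * (a + b) = Matrix.scalar (Fin n) ((X : F[X]) ^ 2 - C z) := by
      have h1 : (a - b) * (a + b) = a ^ 2 - b ^ 2 := by
        rw [sub_mul, mul_add, mul_add, sq, sq, hab.eq]; abel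
      rw [h1, ha2, hb2, ← map_sub]
    have h3 := congrArg Matrix.det hfac
    rw [Matrix.det_mul, Matrix.scalar_apply, Matrix.det_diagonal, Finset.prod_const,
      Finset.card_univ, Fintype.card_fin] at h3
    refine ⟨(a + b).det, ?_⟩
    rw [← h3]
    rfl
  obtain ⟨k, _, hk⟩ := (dvd_prime_pow hirr.prime n).mp hdvd
  have hcp : A.charpoly = (X ^ 2 - C z : F[X]) ^ k :=
    eq_of_monic_of_associated (Matrix.charpoly_monic A) (hmon.pow k) hk
  have hnk : n = 2 * k := by
    have h1 := Matrix.charpoly_natDegree_eq_dim A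
    rw [hcp, natDegree_pow, hdeg, Fintype.card_fin] at h1
    omega
  refine ⟨k, hnk, ?_⟩
  rw [Matrix.det_eq_sign_charpoly_coeff, hcp, Fintype.card_fin, hnk, pow_mul, neg_one_sq, one_pow,
    one_mul, coeff_zero_eq_eval_zero, eval_pow, eval_sub, eval_pow, eval_X, eval_C]
  norm_num

/-- **K-SLU-4.** -/
theorem isSquare_of_sl (h2 : (2 : F) ≠ 0) {q₀ : ℕ} (hF : Fintype.card F = q₀ ^ 2) (n : ℕ)
    (hn : 1 ≤ n) (hv : padicValNat 2 n ≤ padicValNat 2 (Fintype.card F - 1))
    (x : GL (Fin n) F) (hx : x ∈ Cfsg.Geo.specialLinear (Fin n) F) (z : F)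
    (hz : ((x ^ 2 : GL (Fin n) F) : Matrix (Fin n) (Fin n) F) =
      z • (1 : Matrix (Fin n) (Fin n) F)) : IsSquare z := by
  classical
  by_contra hns
  have hA : (x : Matrix (Fin n) (Fin n) F) ^ 2 = z • (1 : Matrix (Fin n) (Fin n) F) := by
    rw [← Units.val_pow_eq_pow_val]; exact hz
  obtain ⟨k, hnk, hdet⟩ := det_of_sq_eq_nonsquare _ z hA hns
  have hdet1 : (x : Matrix (Fin n) (Fin n) F).det = 1 := by
    have h1 : Matrix.GeneralLinearGroup.det x = 1 := hx
    rw [← Matrix.GeneralLinearGroup.val_det_apply, h1, Units.val_one]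
  have hwk : (-z) ^ k = 1 := by rw [← hdet, hdet1]
  have hk0 : k ≠ 0 := by omega
  -- `-1` is a square
  have hchar : ringChar F ≠ 2 := by
    intro h
    have : CharP F 2 := by rw [← h]; exact ringChar.charP F
    exact h2 (CharP.cast_eq_zero F 2)
  have hneg1 : IsSquare (-1 : F) := by
    rw [FiniteField.isSquare_neg_one_iff, hF]
    have : q₀ % 4 = 0 ∨ q₀ % 4 = 1 ∨ q₀ % 4 = 2 ∨ q₀ % 4 = 3 := by omega
    rcases this with h | h | h | h <;> simp [Nat.pow_mod, h]
  have hw : ¬ IsSquare (-z) := by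
    intro h
    apply hns
    have := hneg1.mul h
    rwa [neg_one_mul, neg_neg] at this
  have hw0 : (-z) ≠ 0 := by
    intro h
    apply hw
    rw [h]
    exact ⟨0, by simp⟩
  -- a generator of the multiplicative group
  obtain ⟨γ, hγ⟩ := IsCyclic.exists_generator (α := Fˣ)
  have hord : orderOf γ = Fintype.card F - 1 := by
    rw [orderOf_eq_card_of_forall_mem_zpowers hγ, Nat.card_eq_fintype_card, Fintype.card_units]
  obtain ⟨e, he⟩ : ∃ e : ℕ, γ ^ e = Units.mk0 (-z) hw0 := by
    have := hγ (Units.mk0 (-z) hw0)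
    rw [← mem_powers_iff_mem_zpowers] at this
    exact this
  have heodd : Odd e := by
    by_contra hev
    rw [Nat.not_odd_iff_even] at hev
    obtain ⟨e', he'⟩ := hev
    apply hw
    refine ⟨((γ ^ e' : Fˣ) : F), ?_⟩
    have := congrArg (fun u : Fˣ => (u : F)) he
    simp only [Units.val_mk0] at this
    rw [← this, he', pow_add, Units.val_mul]
  have hdvd : (Fintype.card F - 1) ∣ e * k := by
    rw [← hord]
    apply orderOf_dvd_of_pow_eq_one
    rw [pow_mul, he]
    apply Units.ext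
    rw [Units.val_pow_eq_pow_val, Units.val_mk0, hwk, Units.val_one]
  have hq1 : Fintype.card F - 1 ≠ 0 := by
    have := Fintype.one_lt_card (α := F)
    omega
  have h2v : 2 ^ padicValNat 2 (Fintype.card F - 1) ∣ e * k :=
    (pow_padicValNat_dvd).trans hdvd
  have hcop : Nat.Coprime (2 ^ padicValNat 2 (Fintype.card F - 1)) e :=
    Nat.Coprime.pow_left _ (Nat.coprime_two_left.mpr heodd)
  have h2k : 2 ^ padicValNat 2 (Fintype.card F - 1) ∣ k := hcop.dvd_of_dvd_mul_left h2v
  have hle : padicValNat 2 (Fintype.card F - 1) ≤ padicValNat 2 k :=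
    (padicValNat_dvd_iff_le hk0).mp h2k
  have hvn : padicValNat 2 n = 1 + padicValNat 2 k := by
    rw [hnk, padicValNat.mul (by norm_num) hk0, padicValNat_self]
  omega

end Cfsg.Agent.Lib.Helper86.SLU
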