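import Mathlib
import Cfsg.Agent.Lib.Helper48.PSL2Basic
import Cfsg.Agent.Lib.Helper48.FinFieldQuad

/-!
# K-PG2 pack (S3452), leaf PGLb3: an element of order `q + 1` in `PGL₂(F)`
-/

set_option autoImplicit false
set_option linter.unusedSectionVars false
set_option linter.unusedVariables false

namespace Cfsg.Agent.Lib.Helper86.PG2

open Matrix Cfsg.Agent.Lib.Helper48

/-- `PGL₂(F)` as in the statement S3452 -/
abbrev PGL2 (F : Type*) [Field F] : Type _ :=
  Matrix.GeneralLinearGroup (Fin 2) F ⧸ Subgroup.center (Matrix.GeneralLinearGroup (Fin 2) F)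

theorem pgl2_mk_pow_eq_one_iff {F : Type*} [Field F] (A : Matrix.GeneralLinearGroup (Fin 2) F) (k : ℕ) :
    ((QuotientGroup.mk A : PGL2 F)) ^ k = 1 ↔
      ∃ r : F, (A : Matrix (Fin 2) (Fin 2) F) ^ k = r • (1 : Matrix (Fin 2) (Fin 2) F) := by
  rw [← QuotientGroup.mk_pow, QuotientGroup.eq_one_iff,
    Matrix.GeneralLinearGroup.mem_center_iff_val_mem_range_scalar]
  constructor
  · rintro ⟨r, hr⟩
    refine ⟨r, ?_⟩
    rw [← scalar_fin_two_eq_smul_one, hr]
    rfl
  · rintro ⟨r, hr⟩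
    refine ⟨r, ?_⟩
    rw [scalar_fin_two_eq_smul_one, ← hr]
    rfl

theorem pgl2_exists_orderOf_eq_nonsplit {F : Type*} [Field F] [Fintype F] (p : ℕ) [Fact p.Prime] [CharP F p]
    (hp : p ≠ 2) : ∃ x : PGL2 F, orderOf x = Fintype.card F + 1 := by
  classical
  let K := FiniteField.Extension F p 2
  let φ : F →+* K := algebraMap F K
  have hq2 : 2 ≤ Fintype.card F := Fintype.one_lt_card
  set q := Fintype.card F with hq
  obtain ⟨z, hz⟩ := IsCyclic.exists_ofOrder_eq_natCard (α := Kˣ)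
  have hcard : Nat.card Kˣ = (q - 1) * (q + 1) := by
    rw [Nat.card_units, FiniteField.natCard_extension, Nat.card_eq_fintype_card, ← hq]
    have : q ^ 2 = (q - 1) * (q + 1) + 1 := by
      obtain ⟨c, hc⟩ : ∃ c, q = c + 1 := ⟨q - 1, by omega⟩
      rw [hc]; simp; ring
    omega
  rw [hcard] at hz
  have hzne : (z : K) ≠ 0 := z.ne_zero
  have hpow_iff : ∀ k : ℕ, (z : K) ^ k = 1 ↔ (q - 1) * (q + 1) ∣ k := by
    intro k
    rw [← hz, orderOf_dvd_iff_pow_eq_one, ← Units.val_pow_eq_pow_val, Units.val_eq_one]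
  -- Frobenius
  have hfrob : ∀ x : K, (FiniteField.Extension.frob F p 2) x = x ^ q := by
    intro x
    rw [FiniteField.Extension.frob_apply, Nat.card_eq_fintype_card]
  have hfix := exists_algebraMap_eq_of_pow_card_eq (F := F) (K := K)
  rw [← hq] at hfix
  set a : K := (z : K) with ha
  set b : K := a ^ q with hb
  have hbq : b ^ q = a := by
    rw [hb, ← pow_mul]
    have h1 : q * q = (q - 1) * (q + 1) + 1 := by
      obtain ⟨c, hc⟩ : ∃ c, q = c + 1 := ⟨q - 1, by omega⟩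
      rw [hc]; simp; ring
    rw [h1, pow_succ, (hpow_iff _).mpr dvd_rfl, one_mul]
  have hsum : (a + b) ^ q = a + b := by
    rw [← hfrob, map_add, hfrob, hfrob, hbq, add_comm]
  have hprod : (a * b) ^ q = a * b := by
    rw [mul_pow, hbq, mul_comm]
  obtain ⟨t₀, ht₀⟩ := hfix (a + b) hsum
  obtain ⟨n₀, hn₀⟩ := hfix (a * b) hprod
  have hbne : b ≠ 0 := pow_ne_zero _ hzne
  have hn₀ne : n₀ ≠ 0 := by
    rintro rfl
    rw [map_zero] at hn₀
    exact mul_ne_zero hzne hbne hn₀.symm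
  let M : Matrix (Fin 2) (Fin 2) F := !![0, -n₀; 1, t₀]
  have hMdet : M.det = n₀ := by simp [M, Matrix.det_fin_two]
  let C : Matrix.GeneralLinearGroup (Fin 2) F :=
    Matrix.GeneralLinearGroup.mkOfDetNeZero M (by rw [hMdet]; exact hn₀ne)
  have hCM : (C : Matrix (Fin 2) (Fin 2) F) = M := rfl
  have hCtr : (φ.mapMatrix M).trace = a + b := by
    rw [trace_mapMatrix, ← ht₀]
    have : M.trace = t₀ := by simp [M, Matrix.trace_fin_two]
    rw [this]
  have hCdet : (φ.mapMatrix M).det = a * b := by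
    rw [det_mapMatrix, hMdet, ← hn₀]
  have hne : a ≠ b := by
    intro h
    have h1 : a ^ (q - 1) = 1 := by
      have h2 : a ^ (q - 1) * a = a := by
        rw [← pow_succ, Nat.sub_add_cancel (by omega)]
        exact h.symm
      exact mul_right_cancel₀ hzne (h2.trans (one_mul a).symm)
    have h3 := (hpow_iff _).mp h1
    have h4 := Nat.le_of_dvd (by omega) h3
    have h5 : (q - 1) * (q + 1) ≥ (q - 1) * 2 := Nat.mul_le_mul_left _ (by omega)
    omega
  have hCns : ∀ c : K, φ.mapMatrix M ≠ c • (1 : Matrix (Fin 2) (Fin 2) K) := by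
    apply mapMatrix_ne_smul_one
    intro r hr
    have := congrFun (congrFun hr 1) 0
    simp [M] at this
  refine ⟨QuotientGroup.mk C, orderOf_eq_of_forall_pow_eq_one_iff _ _ ?_⟩
  intro k
  rw [pgl2_mk_pow_eq_one_iff, hCM, pow_scalar_iff_map φ]
  have key : (∃ c : K, (φ.mapMatrix M) ^ k = c • (1 : Matrix (Fin 2) (Fin 2) K)) ↔ a ^ k = b ^ k := by
    constructor
    · rintro ⟨c, hc⟩
      obtain ⟨h1, h2⟩ := (pow_eq_smul_one_iff hne hCtr hCdet hCns k c).mp hc
      exact h1.trans h2.symm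
    · intro h
      exact ⟨a ^ k, (pow_eq_smul_one_iff hne hCtr hCdet hCns k _).mpr ⟨rfl, h.symm⟩⟩
  rw [key]
  -- a^k = b^k ↔ a^((q-1) k) = 1 ↔ (q+1) ∣ k
  have hak : a ^ k ≠ 0 := pow_ne_zero _ hzne
  have hbk : b ^ k = a ^ k * a ^ ((q - 1) * k) := by
    rw [hb, ← pow_mul, ← pow_add]
    congr 1
    have : q = (q - 1) + 1 := by omega
    calc q * k = ((q - 1) + 1) * k := by rw [← this]
      _ = k + (q - 1) * k := by ring
  rw [hbk]
  constructor
  · intro h
    have h1 : a ^ ((q - 1) * k) = 1 := by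
      have h2 : a ^ k * a ^ ((q - 1) * k) = a ^ k * 1 := by rw [mul_one]; exact h.symm
      exact mul_left_cancel₀ hak h2
    have h3 := (hpow_iff _).mp h1
    exact (Nat.mul_dvd_mul_iff_left (by omega : 0 < q - 1)).mp h3
  · intro h
    have h1 : a ^ ((q - 1) * k) = 1 := (hpow_iff _).mpr (Nat.mul_dvd_mul_left _ h)
    rw [h1, mul_one]

end Cfsg.Agent.Lib.Helper86.PG2
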