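import Mathlib
import Cfsg.Agent.Lib.Helper73.RUDefs
import Cfsg.Agent.Lib.Helper65.RU5Defs

set_option autoImplicit false

/-!
# K-RU5 leaf L2 (S2279): the rows `ρ_r = e_0ᵀ a^(-r)`
-/

namespace Cfsg.Agent.Lib.Helper86.RU5x

open Matrix Cfsg.Agent.Lib.Helper73.RU Cfsg.Agent.Lib.Helper65.RU5

theorem rho_zero (m : ℕ) (F : Type*) [Field F] : rho m F 0 = Pi.single 0 1 := by
  ext i
  unfold rho
  by_cases hi : i = 0
  · subst hi
    simp
  · have hv : i.val ≠ 0 := fun h => hi (Fin.ext (by simpa using h))
    rw [Pi.single_eq_of_ne hi, Nat.choose_eq_zero_of_lt (by omega)]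
    simp

theorem rho_succ_vecMul (m : ℕ) (F : Type*) [Field F] (r : ℕ) :
    rho m F (r + 1) ᵥ* aMat m F = rho m F r := by
  ext j
  simp only [Matrix.vecMul, dotProduct, aMat, Matrix.of_apply]
  by_cases hj : j.val = 0
  · have hj0 : j = 0 := Fin.ext (by simpa using hj)
    subst hj0
    rw [Finset.sum_eq_single (0 : Fin (m + 3))]
    · simp [rho]
    · intro b _ hb
      have : ¬ (b = 0 ∨ b.val + 1 = (0 : Fin (m + 3)).val) := by
        rintro (h | h)
        · exact hb h
        · simp at h
      rw [if_neg this, mul_zero]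
    · intro h
      exact absurd (Finset.mem_univ _) h
  · obtain ⟨j', hj'⟩ : ∃ j' : Fin (m + 3), j'.val + 1 = j.val :=
      ⟨⟨j.val - 1, by omega⟩, by simp only; omega⟩
    have hne : j ≠ j' := by
      intro h
      rw [h] at hj'
      omega
    rw [Finset.sum_eq_add j j' hne]
    · rw [if_pos (Or.inl rfl), if_pos (Or.inr hj'), mul_one, mul_one]
      unfold rho
      obtain ⟨k, hk⟩ : ∃ k, j'.val = k := ⟨_, rfl⟩
      have hjk : j.val = k + 1 := by omega
      rw [hjk, hk]
      have e1 : r + 1 + (k + 1) - 1 = (r + k) + 1 := by omega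
      have e2 : r + 1 + k - 1 = r + k := by omega
      have e3 : r + (k + 1) - 1 = r + k := by omega
      rw [e1, e2, e3, Nat.choose_succ_succ, Nat.cast_add, pow_succ]
      ring
    · intro c _ hc
      have : ¬ (c = j ∨ c.val + 1 = j.val) := by
        rintro (h | h)
        · exact hc.1 h
        · exact hc.2 (Fin.ext (by omega))
      rw [if_neg this, mul_zero]
    · intro h
      exact absurd (Finset.mem_univ _) h
    · intro h
      exact absurd (Finset.mem_univ _) h

end Cfsg.Agent.Lib.Helper86.RU5x
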