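import Mathlib
import Cfsg.Prelude.Def_GeometricClasses
import Cfsg.Agent.Lib.Helper73.SU6FDefs
import Cfsg.Agent.Lib.Helper99.FieldSub

/-!
K-SU6-K1b (keystone 580207, architect helper73): over `F` with four elements, an isotropic vector `u ≠ 0`
of the `K`-hermitian form (`K` an adjoint-closed field subalgebra of degree 3 of `M_6(F)`) extends to a
hyperbolic pair.
-/

set_option autoImplicit false

namespace Cfsg.Agent.Lib.Helper86.SU6K

open Cfsg Cfsg.Geo Cfsg.Agent.Lib.Helper73.SU6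
open Cfsg.Agent.Lib.Helper84.AschU (adj adj_adj adj_mul adj_apply herm_mulVec_left herm_mulVec_right
  adj_mem_of_isAdjointClosedFor eq_zero_of_herm_left)
open Cfsg.Agent.Lib.Helper19 (hermForm_add_left hermForm_smul_left hermForm_add_right hermForm_conj
  add_pow_q)
open Cfsg.Agent.Lib.Helper99.FieldSub
open scoped Matrix MatrixGroups

variable {F : Type*} [Field F] [Fintype F]

local notation "Mat6" => Matrix (Fin 6) (Fin 6) F
local notation "𝔥" => hermForm 6 F 2

theorem adj_add' (hF : Fintype.card F = 2 ^ 2) (M N : Mat6) :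
    adj hF (M + N) = adj hF M + adj hF N := by
  ext i j
  rw [Matrix.add_apply, adj_apply, adj_apply, adj_apply, Matrix.add_apply, add_pow_q hF]

theorem adj_one' (hF : Fintype.card F = 2 ^ 2) : adj hF (1 : Mat6) = 1 := by
  ext i j
  rw [adj_apply]
  by_cases h : i = j
  · subst h; simp
  · rw [Matrix.one_apply_ne h, Matrix.one_apply_ne (Ne.symm h)]; simp

theorem adj_zero' (hF : Fintype.card F = 2 ^ 2) : adj hF (0 : Mat6) = 0 := by
  ext i j
  rw [adj_apply]; simp

theorem adj_smul' (hF : Fintype.card F = 2 ^ 2) (c : F) (M : Mat6) :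
    adj hF (c • M) = c ^ 2 • adj hF M := by
  ext i j
  rw [adj_apply, Matrix.smul_apply, Matrix.smul_apply, adj_apply, smul_eq_mul, smul_eq_mul, mul_pow]

section withK

variable (hF : Fintype.card F = 2 ^ 2) (K : Subalgebra F (Matrix (Fin 6) (Fin 6) F))
  (hK : IsFieldSubalgebra 3 K) (hadj : IsAdjointClosedFor (hermForm 6 F 2) K)

/-- the adjoint as a ring endomorphism of `K` -/
noncomputable def sig : ↥K →+* ↥K where
  toFun k := ⟨adj hF k.1, adj_mem_of_isAdjointClosedFor hF K hadj k.1 k.2⟩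
  map_one' := Subtype.ext (adj_one' hF)
  map_mul' a b := Subtype.ext (by
    change adj hF (a.1 * b.1) = adj hF a.1 * adj hF b.1
    rw [adj_mul]
    exact hK.comm _ (adj_mem_of_isAdjointClosedFor hF K hadj b.1 b.2) _
      (adj_mem_of_isAdjointClosedFor hF K hadj a.1 a.2))
  map_zero' := Subtype.ext (adj_zero' hF)
  map_add' a b := Subtype.ext (adj_add' hF a.1 b.1)

theorem sig_val (k : ↥K) : ((sig hF K hK hadj k : ↥K) : Mat6) = adj hF k.1 := rfl

theorem sig_sig (k : ↥K) : sig hF K hK hadj (sig hF K hK hadj k) = k :=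
  Subtype.ext (adj_adj hF k.1)

/-- `𝔥 (k x) y = 𝔥 x (σ(k) y)` -/
theorem herm_act (k : ↥K) (x y : Fin 6 → F) :
    𝔥 (k.1 *ᵥ x) y = 𝔥 x ((sig hF K hK hadj k).1 *ᵥ y) := herm_mulVec_left hF k.1 x y

theorem herm_act' (k : ↥K) (x y : Fin 6 → F) :
    𝔥 x (k.1 *ᵥ y) = 𝔥 ((sig hF K hK hadj k).1 *ᵥ x) y := by
  rw [herm_act hF K hK hadj, sig_sig]

end withK

section tr

variable (hF : Fintype.card F = 2 ^ 2) (K : Subalgebra F (Matrix (Fin 6) (Fin 6) F))
  (hK : IsFieldSubalgebra 3 K)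

/-- the field structure on `K` -/
@[instance_reducible]
noncomputable def fieldK : Field ↥K := (isField K hK).toField

/-- the trace `K → F` -/
noncomputable def trK : ↥K →ₗ[F] F :=
  letI : Field ↥K := fieldK K hK
  Algebra.trace F ↥K

/-- trace duality -/
theorem tr_dual (φ : ↥K →ₗ[F] F) : ∃ η : ↥K, ∀ k : ↥K, trK K hK (η * k) = φ k := by
  let _ : Field ↥K := fieldK K hK
  have hnd := traceForm_nondegenerate F ↥K
  refine ⟨((Algebra.traceForm F ↥K).toDual hnd).symm φ, fun k => ?_⟩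
  have := LinearMap.BilinForm.apply_toDual_symm_apply (B := Algebra.traceForm F ↥K) (hB := hnd) φ k
  rw [Algebra.traceForm_apply] at this
  exact this

theorem tr_nondeg (z : ↥K) (h : ∀ k : ↥K, trK K hK (z * k) = 0) : z = 0 := by
  let _ : Field ↥K := fieldK K hK
  have hnd := traceForm_nondegenerate F ↥K
  apply hnd.1 z
  intro k
  rw [Algebra.traceForm_apply]
  exact h k

include hF in
theorem tr_formula (x : ↥K) :
    (trK K hK x) • (1 : Matrix (Fin 6) (Fin 6) F) = x.1 + x.1 ^ 4 + x.1 ^ 16 := by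
  let _ : Field ↥K := fieldK K hK
  have : Fintype ↥K := Fintype.ofFinite _
  have h := FiniteField.algebraMap_trace_eq_sum_pow F ↥K x
  have h3 : Module.finrank F ↥K = 3 := hK.finrank_eq
  have h4 : Nat.card F = 4 := by rw [Nat.card_eq_fintype_card, hF]; norm_num
  rw [h3, h4] at h
  have h' := congrArg (fun y : ↥K => (y : Matrix (Fin 6) (Fin 6) F)) h
  simp only [Finset.sum_range_succ, Finset.sum_range_zero] at h'
  simp at h'
  rw [Algebra.algebraMap_eq_smul_one] at h'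
  exact h'

end tr

section main

variable (hF : Fintype.card F = 2 ^ 2) (K : Subalgebra F (Matrix (Fin 6) (Fin 6) F))
  (hK : IsFieldSubalgebra 3 K) (hadj : IsAdjointClosedFor (hermForm 6 F 2) K)

include hF in
theorem two_eq_zero' : (2 : F) = 0 := by
  have hF4 : Fintype.card F = 4 := by rw [hF]; norm_num
  have e2 := FiniteField.pow_card (2 : F)
  have e3 := FiniteField.pow_card (3 : F)
  rw [hF4] at e2 e3
  linear_combination (-11 : F) * e2 + 2 * e3

include hF in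
theorem add_self' (a : F) : a + a = 0 := by
  have := two_eq_zero' hF
  linear_combination a * this

omit [Fintype F] in
theorem smul_one_inj {a b : F} (h : a • (1 : Matrix (Fin 6) (Fin 6) F) = b • 1) : a = b := by
  have := congrFun (congrFun h 0) 0
  simpa using this

/-- `tr (σ k) = (tr k)^2` -/
theorem tr_sig (x : ↥K) : trK K hK (sig hF K hK hadj x) = (trK K hK x) ^ 2 := by
  apply smul_one_inj
  rw [tr_formula hF K hK, ← adj_one' hF, ← adj_smul', tr_formula hF K hK]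
  have h1 : ((sig hF K hK hadj (x + x ^ 4 + x ^ 16) : ↥K) : Matrix (Fin 6) (Fin 6) F)
      = adj hF (x.1 + x.1 ^ 4 + x.1 ^ 16) := rfl
  rw [← h1, map_add, map_add, map_pow, map_pow]
  rfl

/-- the functional `k ↦ 𝔥 (k x) y` -/
noncomputable def phi (x y : Fin 6 → F) : ↥K →ₗ[F] F where
  toFun k := hermForm 6 F 2 (k.1 *ᵥ x) y
  map_add' a b := by
    change hermForm 6 F 2 ((a.1 + b.1) *ᵥ x) y = _
    rw [Matrix.add_mulVec, hermForm_add_left]
  map_smul' c a := by
    change hermForm 6 F 2 ((c • a.1) *ᵥ x) y = _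
    rw [Matrix.smul_mulVec, hermForm_smul_left]; rfl

omit [Fintype F] in
theorem phi_apply (x y : Fin 6 → F) (k : ↥K) : phi K x y k = hermForm 6 F 2 (k.1 *ᵥ x) y := rfl

include hK in
omit [Fintype F] in
theorem mulK_comm (a b : ↥K) : a * b = b * a := Subtype.ext (hK.comm _ a.2 _ b.2)

include hF in
theorem addK_self (a : ↥K) : a + a = 0 := by
  apply Subtype.ext
  change a.1 + a.1 = 0
  rw [← two_smul F a.1, two_eq_zero' hF, zero_smul]

include hF hK hadj in
/-- `𝔥 (a u) (b u) = 0` for isotropic `u` -/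
theorem herm_uu (u : Fin 6 → F) (hiso : ∀ k ∈ K, hermForm 6 F 2 (k *ᵥ u) u = 0) (a b : ↥K) :
    hermForm 6 F 2 (a.1 *ᵥ u) (b.1 *ᵥ u) = 0 := by
  rw [herm_act' hF K hK hadj, Matrix.mulVec_mulVec]
  exact hiso _ (K.mul_mem (sig hF K hK hadj b).2 a.2)

include hF hadj in
/-- spanning by counting -/
theorem span_of (u v : Fin 6 → F) (hu : u ≠ 0) (hiso : ∀ k ∈ K, hermForm 6 F 2 (k *ᵥ u) u = 0)
    (hpair : ∀ k : ↥K, hermForm 6 F 2 (k.1 *ᵥ u) v = trK K hK k) :
    ∀ x : Fin 6 → F, ∃ a ∈ K, ∃ b ∈ K, x = a *ᵥ u + b *ᵥ v := by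
  let f : ↥K × ↥K → (Fin 6 → F) := fun p => p.1.1 *ᵥ u + p.2.1 *ᵥ v
  have hker : ∀ e d : ↥K, e.1 *ᵥ u + d.1 *ᵥ v = 0 → e = 0 ∧ d = 0 := by
    intro e d h
    have hd : d = 0 := by
      by_contra hd
      obtain ⟨d', hd'K, _, hd'd⟩ := exists_inv K hK d.2 (fun h => hd (Subtype.ext h))
      have hv : v = (-(d' * e.1)) *ᵥ u := by
        have h1 : d.1 *ᵥ v = -(e.1 *ᵥ u) := eq_neg_of_add_eq_zero_right h
        calc v = (d' * d.1) *ᵥ v := by rw [hd'd, Matrix.one_mulVec]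
          _ = d' *ᵥ (d.1 *ᵥ v) := by rw [Matrix.mulVec_mulVec]
          _ = (-(d' * e.1)) *ᵥ u := by
            rw [h1, Matrix.mulVec_neg, Matrix.mulVec_mulVec, Matrix.neg_mulVec]
      have hmem : -(d' * e.1) ∈ K := K.neg_mem (K.mul_mem hd'K e.2)
      have h0 : ∀ k : ↥K, trK K hK ((1 : ↥K) * k) = 0 := by
        intro k
        rw [one_mul, ← hpair k, hv]
        exact herm_uu hF K hK hadj u hiso k ⟨_, hmem⟩
      have h10 := tr_nondeg K hK 1 h0
      apply hu
      have := congrArg (fun y : ↥K => y.1 *ᵥ u) h10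
      simpa using this
    subst hd
    refine ⟨?_, rfl⟩
    by_contra he
    apply hu
    refine eq_zero_of_mulVec_eq_zero K hK e.2 (fun h => he (Subtype.ext h)) ?_
    simpa using h
  have hinj : Function.Injective f := by
    intro p p' hpp
    have h := hker (p.1 - p'.1) (p.2 - p'.2) (by
      change (p.1.1 - p'.1.1) *ᵥ u + (p.2.1 - p'.2.1) *ᵥ v = 0
      rw [Matrix.sub_mulVec, Matrix.sub_mulVec]
      have : p.1.1 *ᵥ u + p.2.1 *ᵥ v = p'.1.1 *ᵥ u + p'.2.1 *ᵥ v := hpp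
      rw [sub_add_sub_comm, this, sub_self])
    exact Prod.ext (sub_eq_zero.mp h.1) (sub_eq_zero.mp h.2)
  have hcard : Nat.card (Fin 6 → F) ≤ Nat.card (↥K × ↥K) := by
    have h4 : Nat.card F = 4 := by rw [Nat.card_eq_fintype_card, hF]; norm_num
    have hKc : Nat.card ↥K = 4 ^ 3 := by
      rw [Module.natCard_eq_pow_finrank (K := F) (V := ↥K), h4, hK.finrank_eq]
    rw [Nat.card_prod, hKc, Nat.card_fun, h4]
    simp
  have hbij := hinj.bijective_of_nat_card_le hcard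
  intro x
  obtain ⟨p, hp⟩ := hbij.2 x
  exact ⟨p.1.1, p.1.2, p.2.1, p.2.2, hp.symm⟩

include hF in
theorem exists_omega : ∃ ω : F, ω ^ 2 + ω = 1 := by
  have hcard : 2 < Fintype.card F := by rw [hF]; norm_num
  obtain ⟨a, ha0, ha1⟩ : ∃ a : F, a ≠ 0 ∧ a ≠ 1 := by
    classical
    by_contra h
    have h : ∀ a : F, a ≠ 0 → a = 1 := fun a ha0 => not_not.mp (fun ha1 => h ⟨a, ha0, ha1⟩)
    have : Fintype.card F ≤ 2 := by
      have hsub : (Finset.univ : Finset F) ⊆ {0, 1} := by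
        intro x _
        by_cases hx : x = 0
        · simp [hx]
        · simp [h x hx]
      calc Fintype.card F = (Finset.univ : Finset F).card := rfl
        _ ≤ ({0, 1} : Finset F).card := Finset.card_le_card hsub
        _ ≤ 2 := Finset.card_le_two
    omega
  have h4 : a ^ 4 = a := by
    have := FiniteField.pow_card a
    rwa [show Fintype.card F = 4 by rw [hF]; norm_num] at this
  have h2 := two_eq_zero' hF
  refine ⟨a, ?_⟩
  have h3 : a * (a - 1) * (a ^ 2 + a + 1) = 0 := by linear_combination h4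
  rcases mul_eq_zero.mp h3 with h | h
  · rcases mul_eq_zero.mp h with h | h
    · exact absurd h ha0
    · exact absurd (sub_eq_zero.mp h) ha1
  · linear_combination h - h2

end main

/-- K-SU6-K1b -/
theorem exists_hypPair_of_isotropic (hF : Fintype.card F = 2 ^ 2) (K : Subalgebra F (Matrix (Fin 6) (Fin 6) F))
    (hK : IsFieldSubalgebra 3 K) (hadj : IsAdjointClosedFor (hermForm 6 F 2) K)
    (u : Fin 6 → F) (hu : u ≠ 0) (hiso : ∀ k ∈ K, hermForm 6 F 2 (k *ᵥ u) u = 0) :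
    ∃ v : Fin 6 → F, IsHypPair K u v := by
  -- S1
  obtain ⟨w, hw⟩ : ∃ w, hermForm 6 F 2 u w ≠ 0 := by
    by_contra h
    exact hu (eq_zero_of_herm_left hF u (fun y => not_not.mp (fun hy => h ⟨y, hy⟩)))
  -- S2
  obtain ⟨η, hη⟩ := tr_dual K hK (phi K u w)
  have hη0 : η ≠ 0 := by
    rintro rfl
    apply hw
    have h0 := hη 1
    rw [zero_mul, map_zero, phi_apply] at h0
    have h1 : ((1 : ↥K) : Matrix (Fin 6) (Fin 6) F) *ᵥ u = u := Matrix.one_mulVec u
    rw [h1] at h0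
    exact h0.symm
  obtain ⟨η', hη'K, hηη', _⟩ := exists_inv K hK η.2 (fun h => hη0 (Subtype.ext h))
  have hηi : η * (⟨η', hη'K⟩ : ↥K) = 1 := Subtype.ext hηη'
  -- S4
  obtain ⟨w', hA⟩ : ∃ w' : Fin 6 → F, ∀ k : ↥K, hermForm 6 F 2 (k.1 *ᵥ u) w' = trK K hK k := by
    refine ⟨(sig hF K hK hadj ⟨η', hη'K⟩).1 *ᵥ w, fun k => ?_⟩
    rw [herm_act' hF K hK hadj, sig_sig, Matrix.mulVec_mulVec]
    have h1 : hermForm 6 F 2 ((η' * k.1) *ᵥ u) w = phi K u w (⟨η', hη'K⟩ * k) := rfl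
    rw [h1, ← hη, ← mul_assoc, hηi, one_mul]
  -- S5
  obtain ⟨ρ, hρ⟩ := tr_dual K hK (phi K w' w')
  have hρσ : sig hF K hK hadj ρ = ρ := by
    have h0 : sig hF K hK hadj ρ - ρ = 0 := by
      apply tr_nondeg K hK
      intro k
      rw [sub_mul, map_sub, sub_eq_zero]
      have e1 : sig hF K hK hadj ρ * k = sig hF K hK hadj (ρ * sig hF K hK hadj k) := by
        rw [map_mul, sig_sig]
      rw [e1, tr_sig, hρ, hρ, phi_apply, phi_apply, hermForm_conj hF, herm_act' hF K hK hadj, sig_sig]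
    exact sub_eq_zero.mp h0
  -- S6
  obtain ⟨ω, hω⟩ := exists_omega hF
  obtain ⟨c, hcc⟩ : ∃ c : ↥K, c + sig hF K hK hadj c = ρ := by
    have he : sig hF K hK hadj (algebraMap F ↥K ω) = algebraMap F ↥K (ω ^ 2) := by
      apply Subtype.ext
      change adj hF (algebraMap F (Matrix (Fin 6) (Fin 6) F) ω) = algebraMap F (Matrix (Fin 6) (Fin 6) F) (ω ^ 2)
      rw [Algebra.algebraMap_eq_smul_one, Algebra.algebraMap_eq_smul_one, adj_smul', adj_one']
    refine ⟨algebraMap F ↥K ω * ρ, ?_⟩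
    rw [map_mul, he, hρσ, ← add_mul, ← map_add, add_comm ω, hω, map_one, one_mul]
  -- S7
  have hpair : ∀ k : ↥K, hermForm 6 F 2 (k.1 *ᵥ u) (w' + c.1 *ᵥ u) = trK K hK k := by
    intro k
    rw [hermForm_add_right hF, hA, herm_uu hF K hK hadj u hiso, add_zero]
  refine ⟨w' + c.1 *ᵥ u, hiso, ?_, ?_, span_of hF K hK hadj u _ hu hiso hpair⟩
  · -- iso_v
    intro k hk
    have e1 : k *ᵥ (w' + c.1 *ᵥ u) = k *ᵥ w' + ((⟨k, hk⟩ * c : ↥K) : Matrix (Fin 6) (Fin 6) F) *ᵥ u := by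
      rw [Matrix.mulVec_add, Matrix.mulVec_mulVec]; rfl
    rw [e1, hermForm_add_left, hpair, hermForm_add_right hF]
    have t1 : hermForm 6 F 2 (k *ᵥ w') w' = trK K hK (ρ * ⟨k, hk⟩) := by
      rw [hρ]; rfl
    have t2 : hermForm 6 F 2 (k *ᵥ w') (c.1 *ᵥ u) = trK K hK (⟨k, hk⟩ * sig hF K hK hadj c) := by
      rw [← hermForm_conj hF]
      have : hermForm 6 F 2 (c.1 *ᵥ u) (k *ᵥ w')
          = trK K hK (sig hF K hK hadj ⟨k, hk⟩ * c) := by
        have := herm_act' hF K hK hadj ⟨k, hk⟩ (c.1 *ᵥ u) w'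
        rw [this, Matrix.mulVec_mulVec]
        exact hA (sig hF K hK hadj ⟨k, hk⟩ * c)
      rw [this, ← tr_sig hF K hK hadj, map_mul, sig_sig]
    rw [t1, t2, ← map_add, ← map_add, mulK_comm K hK ρ, ← mul_add, ← mul_add, add_assoc,
      add_comm (sig hF K hK hadj c), hcc, addK_self hF K, mul_zero, map_zero]
  · -- pair
    intro k hk
    rw [hpair ⟨k, hk⟩, tr_formula hF K hK]

end Cfsg.Agent.Lib.Helper86.SU6K
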