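import Mathlib
import Cfsg.Prelude.Def_Blocks
import Cfsg.Agent.Lib.Helper01.CD3Defs
import Cfsg.Agent.Lib.Helper04.CharScalar

/-!
# K-CD3 leaf Z (S4460): for a faithful irreducible character of a group with trivial centre,
`‖χ g‖ = χ 1` only for `g = 1`.
-/

set_option autoImplicit false

namespace Cfsg.Agent.Lib.Helper86.CD3

open Cfsg Cfsg.Agent.Lib.Helper01.CD3

universe u

theorem eq_one_of_norm_eq_degree {G : Type u} [Group G] [Finite G] {χ : G → ℂ}
    (hχ : IsIrrCharacter G χ) (hfaith : ∀ g : G, χ g = χ 1 → g = 1)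
    (hZ : Subgroup.center G = ⊥) {d : ℕ} (hd : charDegree χ = d) :
    ∀ g : G, ‖χ g‖ = (d : ℝ) → g = 1 := by
  obtain ⟨n, ρ, _, rfl⟩ := hχ
  have h1 : ρ.character 1 = (n : ℂ) := by
    rw [Representation.char_one]
    simp
  have hdn : d = n := by
    rw [← hd]
    unfold charDegree
    rw [h1]
    simp
  intro g hg
  rw [hdn] at hg
  have hfr : (Module.finrank ℂ (Fin n → ℂ) : ℝ) = (n : ℝ) := by simp
  obtain ⟨ω, hω⟩ := (Cfsg.Agent.Lib.Helper04.norm_char_eq_iff ρ g).1 (by rw [hfr]; exact hg)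
  have hcomm : ∀ h : G, g * h = h * g := by
    intro h
    have e1 : ρ (g * h) = ρ (h * g) := by
      rw [map_mul, map_mul, hω]
      ext v
      simp
    have e2 : ρ (g * h * (h * g)⁻¹) = 1 := by
      rw [map_mul, e1, ← map_mul, mul_inv_cancel, map_one]
    have e3 : ρ.character (g * h * (h * g)⁻¹) = ρ.character 1 := by
      simp only [Representation.character, e2, map_one]
    have := hfaith _ e3
    exact mul_inv_eq_one.1 this
  have hc : g ∈ Subgroup.center G := by
    rw [Subgroup.mem_center_iff]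
    intro h
    exact (hcomm h).symm
  rw [hZ] at hc
  exact Subgroup.mem_bot.1 hc

end Cfsg.Agent.Lib.Helper86.CD3
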