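import Mathlib

set_option autoImplicit false

namespace Cfsg.Agent.Lib.Helper86.K69C

open scoped Nat

/-- **K69-C**: the index of the intersection of the normal cores of finitely many subgroups divides
the factorial of the sum of their indices. -/
theorem index_iInf_normalCore_dvd_factorial {P : Type*} [Group P] [Finite P] {ι : Type*} [Fintype ι]
    (H : ι → Subgroup P) : (⨅ i, (H i).normalCore).index ∣ (∑ i, (H i).index) ! := by
  classical
  let f : P →* ((i : ι) → Equiv.Perm (P ⧸ H i)) :=
    MonoidHom.pi (fun i => MulAction.toPermHom P (P ⧸ H i))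
  have hker : f.ker = ⨅ i, (H i).normalCore := by
    ext g
    simp only [MonoidHom.mem_ker, Subgroup.mem_iInf, Subgroup.normalCore_eq_ker]
    constructor
    · intro h i
      have := congrFun h i
      simpa [f] using this
    · intro h
      funext i
      have := h i
      simpa [f] using this
  rw [← hker, Subgroup.index_ker]
  have h1 : Nat.card f.range ∣ Nat.card ((i : ι) → Equiv.Perm (P ⧸ H i)) :=
    Subgroup.card_subgroup_dvd_card _
  refine h1.trans ?_
  rw [Nat.card_pi]
  have h2 : ∀ i, Nat.card (Equiv.Perm (P ⧸ H i)) = ((H i).index)! := by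
    intro i
    rw [Nat.card_perm, Subgroup.index_eq_card]
  simp_rw [h2]
  exact Nat.prod_factorial_dvd_factorial_sum _ _

end Cfsg.Agent.Lib.Helper86.K69C
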