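/-
K-OhP-W1 (keystone 597407, architect helper38, pack S5974): a nondegenerate `C` of even dimension contains
nondegenerate subspaces of every even dimension `2 ≤ e ≤ dim C - 2` of BOTH types.
Core: `Helper86.OhPW1a` (anisotropic plane + plus type complement); LEAF A: `Helper28.OhPA`.
-/
import Cfsg.Agent.Lib.Helper86.OhPW1a
import Cfsg.Agent.Lib.Helper28.OhPA

set_option autoImplicit false
set_option linter.unusedSectionVars false
set_option linter.unusedVariables false

namespace Cfsg.Agent.Lib.Helper86.OhP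

open Module Cfsg.Agent.Lib.Helper98.Elus Cfsg.Agent.Lib.Helper98.Sy Cfsg.Agent.Lib.Helper38.OhP

universe u
variable {F : Type u} [Field F] {V : Type u} [AddCommGroup V] [Module F V]

/-- **K-OhP-W1.** -/
theorem exists_sub_of_type [Fintype F] [FiniteDimensional F V] (Q : QuadraticForm F V)
    (C : Submodule F V) (hC : NonDeg (pB Q) C) (hCe : Even (finrank F C))
    (e : ℕ) (he : Even e) (he2 : 2 ≤ e) (hlt : e + 2 ≤ finrank F C) (t : Prop) :
    ∃ W : Submodule F V, W ≤ C ∧ NonDeg (pB Q) W ∧ finrank F W = e ∧ (PlusQ Q W ↔ t) :=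
  exists_sub_of_type_of Q
    (fun W1 W2 h1 h2 hort he1 he2 =>
      Cfsg.Agent.Lib.Helper28.OhP.plusQ_sup_iff Q W1 W2 h1 h2 hort he1 he2)
    C hC hCe e he he2 hlt t

end Cfsg.Agent.Lib.Helper86.OhP
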