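import Mathlib
import Cfsg.Agent.Lib.Helper72.A4ODefs

/-!
# K-A4O L1b `epo_of_four_orbits` (S4068)

Four automorphism orbits and at least three prime divisors of `|G|`: every nonidentity element has
prime order.
-/

set_option autoImplicit false

namespace Cfsg.Agent.Lib.Helper86.A4O

open Cfsg.Agent.Lib.Helper72.A4O

universe u

/-- 406802 A4O-L1b (MEDIUM, GATING): four automorphism orbits + at least three primes => EPO. -/
theorem epo_of_four_orbits {G : Type u} [Group G] [Finite G]
    (h3 : 3 ≤ (Nat.card G).primeFactors.card)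
    (h4 : Nat.card (MulAction.orbitRel.Quotient (MulAut G) G) = 4) : EPO G := by
  classical
  obtain ⟨P, hPs, hPc⟩ := Finset.exists_subset_card_eq h3
  haveI : Fintype (MulAction.orbitRel.Quotient (MulAut G) G) := Fintype.ofFinite _
  let ord : MulAction.orbitRel.Quotient (MulAut G) G → ℕ :=
    Quotient.lift (fun g : G => orderOf g) (by
      intro a b hab
      have hab' : a ∈ MulAction.orbit (MulAut G) b := hab
      obtain ⟨φ, rfl⟩ := hab'
      show orderOf (φ • b) = orderOf b
      rw [MulAut.smul_def]
      exact MulEquiv.orderOf_eq φ b)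
  have hord : ∀ g : G, ord (Quotient.mk'' g) = orderOf g := fun g => rfl
  set T : Finset ℕ := insert 1 P with hT
  have h1P : 1 ∉ P := fun h => Nat.not_prime_one (Nat.prime_of_mem_primeFactors (hPs h))
  have hTc : T.card = 4 := by rw [hT, Finset.card_insert_of_notMem h1P, hPc]
  have hsub : T ⊆ Finset.univ.image ord := by
    intro n hn
    rw [hT, Finset.mem_insert] at hn
    rw [Finset.mem_image]
    rcases hn with rfl | hn
    · exact ⟨Quotient.mk'' 1, Finset.mem_univ _, by rw [hord, orderOf_one]⟩
    · have hp : n.Prime := Nat.prime_of_mem_primeFactors (hPs hn)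
      have hd : n ∣ Nat.card G := Nat.dvd_of_mem_primeFactors (hPs hn)
      haveI : Fact n.Prime := ⟨hp⟩
      obtain ⟨x, hx⟩ := exists_prime_orderOf_dvd_card' n hd
      exact ⟨Quotient.mk'' x, Finset.mem_univ _, by rw [hord, hx]⟩
  have hcard : (Finset.univ.image ord).card ≤ T.card := by
    rw [hTc]
    calc (Finset.univ.image ord).card
        ≤ (Finset.univ : Finset (MulAction.orbitRel.Quotient (MulAut G) G)).card :=
          Finset.card_image_le
      _ = 4 := by rw [Finset.card_univ, ← Nat.card_eq_fintype_card, h4]
  have heq : T = Finset.univ.image ord := Finset.eq_of_subset_of_card_le hsub hcard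
  intro g hg
  have hmem : orderOf g ∈ T := by
    rw [heq, Finset.mem_image]
    exact ⟨Quotient.mk'' g, Finset.mem_univ _, hord g⟩
  rw [hT, Finset.mem_insert] at hmem
  rcases hmem with h | h
  · exact absurd (orderOf_eq_one_iff.mp h) hg
  · exact Nat.prime_of_mem_primeFactors (hPs h)

end Cfsg.Agent.Lib.Helper86.A4O
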