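import Mathlib
import Cfsg.Agent.S0023
import Cfsg.Agent.S1394
import Cfsg.Agent.S1395
import Cfsg.Agent.Lib.Helper71.BG11b

set_option autoImplicit false
set_option linter.unusedSectionVars false
set_option linter.style.haveILetI false

/-!
# K-S1417-L2 (architect helper71): Lemma Z of the BG 11.7 proof

`M` maximal, `r ∉ σ(M)`, `B ≤ M` elementary abelian of order `r ^ 2`, `C_G(B) ≤ M`.
Then `C_{M_σ}(B) = 1`.
-/

namespace Cfsg.Agent.Lib.Helper86.BG117

open Cfsg Cfsg.Agent.Lib.Helper55 Cfsg.Agent.Lib.Helper31 Cfsg.Agent.Lib.Helper71.BG10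
  Cfsg.Agent.Lib.Helper71.BG11

variable {G : Type*} [Group G] [Finite G]

/-- every subgroup of a finite nilpotent group is subnormal -/
theorem isSubnormal_of_nilp {X : Type*} [Group X] [Finite X] [hX : Group.IsNilpotent X]
    (K : Subgroup X) : K.IsSubnormal := by
  induction K using WellFoundedGT.induction with
  | _ K ih =>
    by_cases hK : K = ⊤
    · rw [hK]; exact Subgroup.IsSubnormal.top
    · have hlt : K < Subgroup.normalizer (K : Set X) :=
        Group.normalizerCondition_of_isNilpotent K (lt_top_iff_ne_top.2 hK)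
      exact Subgroup.IsSubnormal.step K _ hlt.le (ih _ hlt)
        ((Subgroup.normal_subgroupOf_iff_le_normalizer hlt.le).2 le_rfl)

/-- K-S1417-L2 (Lemma Z). -/
theorem sigmaCore_inf_centralizer_eq_bot (hG : IsMinSimpleOddOrder G) {M : Subgroup G}
    (hM : IsCoatom M) {r : ℕ} [Fact r.Prime] (hr : r ∉ sigma M) {B : Subgroup G} (hBM : B ≤ M)
    (hB : IsElementaryAbelian r B) (hB2 : Nat.card B = r ^ 2)
    (hC : Subgroup.centralizer (B : Set G) ≤ M) :
    sigmaCore M ⊓ Subgroup.centralizer (B : Set G) = ⊥ := by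
  by_contra hne
  have hrp : r.Prime := Fact.out
  have hBcomm : ∀ a ∈ B, ∀ b ∈ B, a * b = b * a := by
    intro a ha b hb
    exact congrArg Subtype.val (hB.1.is_comm.comm ⟨a, ha⟩ ⟨b, hb⟩)
  have hBp : IsPGroup r B := IsPGroup.of_card hB2
  have hrlt : r < Nat.card B := by
    rw [hB2, pow_two]
    nlinarith [hrp.one_lt]
  -- ranks
  have hr2 : PRankLE r 2 M := by
    by_contra h
    exact hr (alpha_subset_sigma hG hM ⟨hrp, h⟩)
  have hr1 : ¬ PRankLE r 1 M := by
    apply not_pRankLE_sub_iff.mpr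
    exact ⟨B, hBM, hBcomm, hB.2, by rw [pow_one]; exact hrlt⟩
  have hmax := (Cfsg.Agent.S1408.result hG M hM r hr hr2 hr1).2 B hBM hB hB2
  -- `B = Ω₁(C_G(B))`
  have hmem : ∀ x ∈ Subgroup.centralizer (B : Set G), x ^ r = 1 → x ∈ B := by
    intro x hx hxp
    have hZ : IsElementaryAbelian r (Subgroup.zpowers x) := by
      refine ⟨inferInstance, ?_⟩
      intro y hy
      obtain ⟨k, rfl⟩ := Subgroup.mem_zpowers_iff.mp hy
      rw [← zpow_natCast, ← zpow_mul, mul_comm, zpow_mul, zpow_natCast, hxp, one_zpow]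
    have hc : ∀ a ∈ B, ∀ b ∈ Subgroup.zpowers x, a * b = b * a := by
      intro a ha b hb
      obtain ⟨k, rfl⟩ := Subgroup.mem_zpowers_iff.mp hb
      have h1 : Commute a x := (Subgroup.mem_centralizer_iff.mp hx a ha)
      exact (h1.zpow_right k).eq
    have h2 := hmax _ (Cfsg.Agent.Lib.Helper99.isEA_sup hB hZ hc) le_sup_left
    rw [← h2]
    exact (le_sup_right : Subgroup.zpowers x ≤ B ⊔ Subgroup.zpowers x) (Subgroup.mem_zpowers x)
  -- transitivity hypothesis
  have hrG : r ∣ Nat.card G :=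
    dvd_trans (by rw [hB2]; exact dvd_pow_self r two_ne_zero) (Subgroup.card_subgroup_dvd_card B)
  have hTH : TransitivityHypothesis B :=
    Cfsg.Agent.S1396.result hG r hrG B hBp hB.1
      (Or.inl ⟨fun x hx => ⟨fun hxp => hmem x hx hxp, fun hxB => hB.2 x hxB⟩,
        fun H hH => Cfsg.Agent.S1410.result hG r H hH⟩)
  -- a prime `s` dividing `|C_{M_σ}(B)|`
  set C : Subgroup G := sigmaCore M ⊓ Subgroup.centralizer (B : Set G) with hCdef
  have hCcard : Nat.card C ≠ 1 := by
    intro h1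
    exact hne (Subgroup.card_eq_one.mp h1)
  obtain ⟨s, hs, hsC⟩ := Nat.exists_prime_and_dvd hCcard
  haveI : Fact s.Prime := ⟨hs⟩
  have hsS : s ∣ Nat.card (sigmaCore M) :=
    hsC.trans (Subgroup.card_dvd_of_le inf_le_left)
  have hsσ : s ∈ sigma M := sigmaCore_pi hG hM hs hsS
  have hsCB : s ∣ Nat.card (Subgroup.centralizer (B : Set G)) :=
    hsC.trans (Subgroup.card_dvd_of_le inf_le_right)
  have hsr : s ≠ r := by
    rintro rfl
    exact hr hsσ
  have hsB : ¬ s ∣ Nat.card B := by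
    intro h
    rw [hB2] at h
    exact hsr ((Nat.prime_dvd_prime_iff_eq hs hrp).mp (hs.dvd_of_dvd_pow h))
  -- S1394
  have hBle : B ≤ Subgroup.centralizer (B : Set G) := by
    intro a ha
    rw [Subgroup.mem_centralizer_iff]
    intro b hb
    exact hBcomm b hb a ha
  have hZ : ¬ RankLE 1 ↥(B ⊓ Subgroup.centralizer (B : Set G)) := by
    rw [inf_eq_left.mpr hBle]
    exact not_rankLE_one_of_elemAb hrp hBcomm hB.2 hrlt
  have htr := Cfsg.Agent.S1394.result hG B hTH hZ s hs hsB hsCB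
  -- Sylow `r`-subgroup `T` of `M` over `B`
  obtain ⟨T, hT, hBT⟩ := exists_isSylowIn_ge (p := r) (K := M) (Z := B) hBM hBp
  have hTM : T ≤ M := hT.1
  have hTp : IsPGroup r T := hT.2.1
  have hTtop : T ≠ ⊤ := by
    rintro rfl
    exact hM.1 (top_le_iff.mp hTM)
  have hTπ : ∀ q : ℕ, q.Prime → q ∣ Nat.card T → q ∣ Nat.card B := by
    intro q hq hqT
    obtain ⟨k, hk⟩ := IsPGroup.iff_card.mp hTp
    rw [hk] at hqT
    have : q = r := (Nat.prime_dvd_prime_iff_eq hq hrp).mp (hq.dvd_of_dvd_pow hqT)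
    rw [this, hB2]
    exact dvd_pow_self r two_ne_zero
  have hsn : (B.subgroupOf T).IsSubnormal := by
    haveI : Group.IsNilpotent T := hTp.isNilpotent
    exact isSubnormal_of_nilp _
  obtain ⟨_, _, _, hd⟩ := Cfsg.Agent.S1395.result hG B hTH s hs hsB T hTtop hTπ hBT hsn htr
  -- a `T`-invariant Sylow `s`-subgroup `Q` of `M_σ`
  have hTS : T ≤ Subgroup.normalizer (sigmaCore M : Set G) :=
    hTM.trans (le_normalizer_sigmaCore M)
  have hcop : (Nat.card T).Coprime (Nat.card (sigmaCore M)) := by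
    obtain ⟨k, hk⟩ := IsPGroup.iff_card.mp hTp
    rw [hk]
    apply Nat.Coprime.pow_left
    rw [Nat.Prime.coprime_iff_not_dvd hrp]
    intro hd'
    exact hr (sigmaCore_pi hG hM hrp hd')
  have hTsolv : Group.IsSolvable T := by
    haveI : Group.IsNilpotent T := hTp.isNilpotent
    infer_instance
  obtain ⟨P, hP⟩ := Cfsg.Agent.S0023.result T (sigmaCore M) hTS hcop (Or.inl hTsolv) s
  set Q : Subgroup G := (P : Subgroup (sigmaCore M)).map (sigmaCore M).subtype with hQdef
  have hQS : IsSylowIn s (sigmaCore M) Q := isSylowIn_of_sylow P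
  have hQidx : ¬ s ∣ Q.index := not_dvd_index_of_isSylowIn hQS (sigmaCore_index hG hM hsσ)
  have hQtop : IsSylowIn s ⊤ Q := isSylowIn_top_of_not_dvd_index hQS.2.1 hQidx
  have hQmax : Q ∈ maxInvSubgroups ⊤ T {s} := mem_maxInv_of_sylow T hQtop hP
  have hQM : IsSylowIn s M Q := by
    refine ⟨hQS.1.trans (sigmaCore_le M), hQS.2.1, ?_⟩
    intro T' _ hT'p hle
    exact hQtop.2.2 T' le_top hT'p hle
  have hNQ : Subgroup.normalizer (Q : Set G) ≤ M := sigma_normalizer_le hsσ hQM
  -- `N_G(T) ≤ M`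
  have hNT : Subgroup.normalizer (T : Set G) ≤ M := by
    rw [(hd Q hQmax).2]
    apply sup_le
    · intro x hx
      have h1 : x ∈ Subgroup.centralizer (T : Set G) := piCoreOf_le _ _ hx
      exact hC (Subgroup.centralizer_le (SetLike.coe_subset_coe.mpr hBT) h1)
    · exact inf_le_right.trans hNQ
  -- so `r ∈ σ(M)`
  apply hr
  refine ⟨hrp, ?_, hT.toSylow, ?_⟩
  · exact dvd_trans (by rw [hB2]; exact dvd_pow_self r two_ne_zero) (Subgroup.card_dvd_of_le hBM)
  · rw [hT.map_toSylow]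
    exact hNT

end Cfsg.Agent.Lib.Helper86.BG117
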