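import Mathlib
import Cfsg.Agent.S1350
import Cfsg.Agent.S1409
import Cfsg.Agent.S1415
import Cfsg.Agent.S1417
import Cfsg.Agent.Lib.Helper71.BG1310Defs
import Cfsg.Agent.Lib.Helper13.BG12B
import Cfsg.Agent.Lib.Helper54.BG134A3a
import Cfsg.Agent.Lib.Helper41.BG134Z

/-!
# BG 13.10/13.11, keystone 131003 (K-BG1310-C): `regular_of_tau2` = (R1)

If `τ₂(M) ≠ ∅` then every subgroup `Y ≤ E` of prime order `s ∈ τ₃(M)` acts regularly on `M_σ`.
-/

set_option autoImplicit false

namespace Cfsg.Agent.Lib.Helper86.BG1310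

open Cfsg Cfsg.Agent.Lib.Helper55 Cfsg.Agent.Lib.Helper31.BG134 Cfsg.Agent.Lib.Helper71.BG1310

variable {G : Type*} [Group G] [Finite G]

theorem regular_of_tau2 (hG : IsMinSimpleOddOrder G) {M E : Subgroup G} (hM : IsCoatom M)
    (hE : IsComplIn E (sigmaCore M) M) {q : ℕ} (hq : q ∈ tau2 M) {Y : Subgroup G} (hYE : Y ≤ E)
    {s : ℕ} (hs : s ∈ tau3 M) (hYc : Nat.card Y = s) : CP M Y = ⊥ := by
  have hsp : s.Prime := hs.1
  haveI : Fact s.Prime := ⟨hsp⟩
  haveI : Fact q.Prime := ⟨hq.1⟩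
  have hEM : E ≤ M := hE.1
  have hEtop : E ≠ ⊤ := by
    intro h
    apply hM.1
    rw [eq_top_iff, ← h]
    exact hEM
  have hEsolv : Group.IsSolvable ↥E := hG.2.2.2 E hEtop
  -- a Hall `τ₃`-subgroup of `E` containing `Y`
  obtain ⟨E₃, hE₃, hYE₃⟩ := Cfsg.Agent.Lib.Helper54.BG134.exists_isPiHallOf_ge hEsolv (tau3 M) hYE
    (by
      intro p hp hpd
      rw [hYc] at hpd
      rw [(Nat.prime_dvd_prime_iff_eq hp hsp).mp hpd]
      exact hs)
  obtain ⟨hE₃cyc, -, hE₃n⟩ := (Cfsg.Agent.S1415.result hG M hM E hE).2.2 E₃ hE₃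
  -- `E` normalizes `Y`
  have hEN : E ≤ Subgroup.normalizer (Y : Set G) := by
    intro g hg
    have hgn : g ∈ Subgroup.normalizer (E₃ : Set G) := hE₃n hg
    set Y' : Subgroup G := Y.map (MulAut.conj g).toMonoidHom with hY'
    have hY'E₃ : Y' ≤ E₃ := by
      rintro _ ⟨y, hy, rfl⟩
      have h1 := (Subgroup.mem_normalizer_iff.mp hgn y).mp (hYE₃ hy)
      simpa [MulAut.conj_apply] using h1
    have hcard : Nat.card Y' = Nat.card Y := by
      rw [hY']
      exact Nat.card_congr (Subgroup.equivMapOfInjective Y _ (MulAut.conj g).injective).symm.toEquiv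
    have hYY' : Y' = Y := Cfsg.Agent.Lib.Helper41.BG134.z_eq_of_le_cyclic hE₃cyc hY'E₃ hYE₃ hcard
    rw [Subgroup.mem_normalizer_iff]
    intro h
    constructor
    · intro hh
      have : g * h * g⁻¹ ∈ Y' := ⟨h, hh, by simp [MulAut.conj_apply]⟩
      rw [hYY'] at this
      exact this
    · intro hh
      have h1 : g * h * g⁻¹ ∈ Y' := by rw [hYY']; exact hh
      obtain ⟨y, hy, hyeq⟩ := h1
      have h2 : g * y * g⁻¹ = g * h * g⁻¹ := by simpa [MulAut.conj_apply] using hyeq
      have h3 : y = h := by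
        have := congrArg (fun t => g⁻¹ * t * g) h2
        simpa [mul_assoc] using this
      rw [← h3]
      exact hy
  -- a maximal subgroup over `N_G(Y)`
  have hNtop : Subgroup.normalizer (Y : Set G) ≠ ⊤ := by
    intro htop
    have hn : Y.Normal := Subgroup.normalizer_eq_top_iff.mp htop
    haveI := hG.2.1
    rcases hn.eq_bot_or_eq_top with h | h
    · rw [h, Subgroup.card_bot] at hYc
      exact hsp.one_lt.ne hYc
    · apply hG.2.2.1
      have hcard : Nat.card G = s := by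
        rw [← hYc, h, Subgroup.card_top]
      have : IsCyclic G := isCyclic_of_prime_card hcard
      exact ⟨⟨fun a b => IsCyclic.commGroup.mul_comm a b⟩⟩
  obtain ⟨H, hH, hNH⟩ := (eq_top_or_exists_le_coatom (Subgroup.normalizer (Y : Set G))).resolve_left hNtop
  have hHM : H ≠ M := by
    rintro rfl
    exact (Cfsg.Agent.S1409.result hG H hM s hs.2.1 Y hYc hNH).1.2 hs.2.2.2
  -- an elementary abelian `q`-subgroup of order `q²` of `E`
  have hHall := (Cfsg.Agent.S1350.result hG M hM).1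
  obtain ⟨A, hAE, hAel, hAcard⟩ :=
    Cfsg.Agent.Lib.Helper13.BG12.exists_elemAb_sq_le_compl hG hM hHall hq hE
  have h17 := (Cfsg.Agent.S1417.result hG M hM q hq A ⟨hAE.trans hEM, hAel, hAcard⟩).2.2.2.2.1
  have hbot : sigmaCore M ⊓ H = ⊥ := h17 H hH hHM (hAE.trans (hEN.trans hNH))
  -- conclusion
  rw [eq_bot_iff, ← hbot]
  unfold CP
  apply inf_le_inf_left
  intro x hx
  apply hNH
  rw [Subgroup.mem_normalizer_iff]
  intro h
  have hcomm : ∀ y ∈ Y, y * x = x * y := fun y hy => Subgroup.mem_centralizer_iff.mp hx y hy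
  constructor
  · intro hh
    have : x * h * x⁻¹ = h := by rw [← hcomm h hh, mul_inv_cancel_right]
    rw [this]; exact hh
  · intro hh
    have h1 := hcomm _ hh
    have : h = x * h * x⁻¹ := by
      have h2 : x * h * x⁻¹ * x = x * (x * h * x⁻¹) := h1
      have h3 : x * h = x * (x * h * x⁻¹) := by simpa [mul_assoc] using h2
      exact mul_left_cancel h3
    rw [this]; exact hh

end Cfsg.Agent.Lib.Helper86.BG1310
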