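import Mathlib

/-!
# K-1369-Z (keystone 136904, S1369 pack of helper31): `ncard_zhat` (pure counting, Mathlib only)
`|KY − (K ∪ Y)| = (|K| − 1)(|Y| − 1)` for commuting `K`, `Y` with `K ⊓ Y = ⊥`.
-/

set_option autoImplicit false

namespace Cfsg.Agent.Lib.Helper86.BG147

open Subgroup

variable {G : Type*} [Group G] [Finite G]

theorem zhat_exists_mul {K Y : Subgroup G} (hc : Y ≤ centralizer (K : Set G)) {g : G}
    (hg : g ∈ K ⊔ Y) : ∃ a ∈ K, ∃ b ∈ Y, g = a * b := by
  have hcomm : ∀ a ∈ K, ∀ b ∈ Y, a * b = b * a := by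
    intro a ha b hb
    exact Subgroup.mem_centralizer_iff.mp (hc hb) a ha
  let W : Subgroup G :=
    { carrier := {g | ∃ a ∈ K, ∃ b ∈ Y, g = a * b}
      mul_mem' := by
        rintro x y ⟨a, ha, b, hb, rfl⟩ ⟨a', ha', b', hb', rfl⟩
        refine ⟨a * a', K.mul_mem ha ha', b * b', Y.mul_mem hb hb', ?_⟩
        have := hcomm a' ha' b hb
        calc a * b * (a' * b') = a * (b * a') * b' := by group
          _ = a * (a' * b) * b' := by rw [this]
          _ = a * a' * (b * b') := by group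
      one_mem' := ⟨1, K.one_mem, 1, Y.one_mem, (mul_one 1).symm⟩
      inv_mem' := by
        rintro x ⟨a, ha, b, hb, rfl⟩
        refine ⟨a⁻¹, K.inv_mem ha, b⁻¹, Y.inv_mem hb, ?_⟩
        have := hcomm a ha b hb
        rw [mul_inv_rev]
        have h2 : b⁻¹ * a⁻¹ = (a * b)⁻¹ := by rw [mul_inv_rev]
        have h3 : a⁻¹ * b⁻¹ = (b * a)⁻¹ := by rw [mul_inv_rev]
        rw [h3, ← this, mul_inv_rev] }
  have hle : K ⊔ Y ≤ W := by
    apply sup_le
    · intro a ha
      exact ⟨a, ha, 1, Y.one_mem, (mul_one a).symm⟩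
    · intro b hb
      exact ⟨1, K.one_mem, b, hb, (one_mul b).symm⟩
  exact hle hg

/-- **K-1369-Z.** -/
theorem ncard_zhat {K Y : Subgroup G} (hc : Y ≤ centralizer (K : Set G)) (hinf : K ⊓ Y = ⊥) :
    Set.ncard ((↑(K ⊔ Y) : Set G) \ ((K : Set G) ∪ ↑Y)) = (Nat.card K - 1) * (Nat.card Y - 1) := by
  classical
  have hKY : ∀ g : G, g ∈ K → g ∈ Y → g = 1 := by
    intro g hK hY
    have : g ∈ K ⊓ Y := ⟨hK, hY⟩
    rw [hinf] at this
    exact Subgroup.mem_bot.mp this
  -- the map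
  let f : {x : K // x ≠ 1} × {y : Y // y ≠ 1} → G := fun p => (p.1.1 : G) * (p.2.1 : G)
  have hf : Function.Injective f := by
    rintro ⟨⟨x, hx⟩, ⟨y, hy⟩⟩ ⟨⟨x', hx'⟩, ⟨y', hy'⟩⟩ h
    have h' : (x : G) * (y : G) = (x' : G) * (y' : G) := h
    have h1 : (x' : G)⁻¹ * (x : G) = (y' : G) * (y : G)⁻¹ := by
      calc (x' : G)⁻¹ * (x : G) = (x' : G)⁻¹ * ((x : G) * (y : G)) * (y : G)⁻¹ := by group
        _ = (x' : G)⁻¹ * ((x' : G) * (y' : G)) * (y : G)⁻¹ := by rw [h']
        _ = (y' : G) * (y : G)⁻¹ := by group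
    have h2 : (x' : G)⁻¹ * (x : G) = 1 :=
      hKY _ (K.mul_mem (K.inv_mem x'.2) x.2) (h1 ▸ Y.mul_mem y'.2 (Y.inv_mem y.2))
    have hxx : (x : G) = (x' : G) := by
      have := inv_mul_eq_one.mp h2
      exact this.symm
    have hyy : (y : G) = (y' : G) := by
      rw [hxx] at h'
      exact mul_left_cancel h'
    have e1 : x = x' := Subtype.ext hxx
    have e2 : y = y' := Subtype.ext hyy
    subst e1; subst e2
    rfl
  have hrange : Set.range f = (↑(K ⊔ Y) : Set G) \ ((K : Set G) ∪ ↑Y) := by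
    ext z
    constructor
    · rintro ⟨⟨⟨x, hx⟩, ⟨y, hy⟩⟩, rfl⟩
      refine ⟨?_, ?_⟩
      · exact (K ⊔ Y).mul_mem (le_sup_left (a := K) (b := Y) x.2) (le_sup_right (a := K) (b := Y) y.2)
      · rintro (hzK | hzY)
        · have hyK : (y : G) ∈ K := by
            have : (y : G) = (x : G)⁻¹ * ((x : G) * (y : G)) := by group
            rw [this]
            exact K.mul_mem (K.inv_mem x.2) hzK
          exact hy (Subtype.ext (hKY _ hyK y.2))
        · have hxY : (x : G) ∈ Y := by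
            have : (x : G) = ((x : G) * (y : G)) * (y : G)⁻¹ := by group
            rw [this]
            exact Y.mul_mem hzY (Y.inv_mem y.2)
          exact hx (Subtype.ext (hKY _ x.2 hxY))
    · rintro ⟨hz, hzn⟩
      obtain ⟨a, ha, b, hb, rfl⟩ := zhat_exists_mul hc hz
      have ha1 : (⟨a, ha⟩ : K) ≠ 1 := by
        intro h
        have : a = 1 := congrArg Subtype.val h
        apply hzn
        right
        rw [this, one_mul]
        exact hb
      have hb1 : (⟨b, hb⟩ : Y) ≠ 1 := by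
        intro h
        have : b = 1 := congrArg Subtype.val h
        apply hzn
        left
        rw [this, mul_one]
        exact ha
      exact ⟨⟨⟨⟨a, ha⟩, ha1⟩, ⟨⟨b, hb⟩, hb1⟩⟩, rfl⟩
  rw [← hrange, ← Nat.card_coe_set_eq, Nat.card_range_of_injective hf, Nat.card_prod]
  have hcard : ∀ (H : Subgroup G), Nat.card {x : H // x ≠ 1} = Nat.card H - 1 := by
    intro H
    haveI : Fintype H := Fintype.ofFinite H
    rw [Nat.card_eq_fintype_card, Nat.card_eq_fintype_card, Fintype.card_subtype_compl,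
      Fintype.card_subtype_eq]
  rw [hcard K, hcard Y]

end Cfsg.Agent.Lib.Helper86.BG147
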