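import Mathlib
import Cfsg.Prelude.Def_OddOrderChar
import Cfsg.Prelude.Def_OddOrderLocal

/-!
# K-1537 pack (S1537), leaf H: `R(a)` is normalized by `C_G(a)`
-/

set_option autoImplicit false
set_option linter.unusedSectionVars false

namespace Cfsg.Agent.Lib.Helper86.BG1537

open Cfsg Subgroup

variable {G : Type*} [Group G] [Finite G]

theorem conj_mem_fittingHallOf (L : Subgroup G) {c u : G} (hc : c ∈ L)
    (hu : u ∈ fittingHallOf L) : c * u * c⁻¹ ∈ fittingHallOf L := by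
  obtain ⟨v, hv, rfl⟩ := hu
  refine ⟨⟨c, hc⟩ * v * ⟨c, hc⟩⁻¹, ?_, ?_⟩
  · exact (fittingHall_normal ↥L).conj_mem v hv ⟨c, hc⟩
  · simp

/-- **L-H** `R(a)` is normalized by `C_G(a)` (no hypothesis on `G`). -/
theorem conj_mem_supportR (M : Subgroup G) {a c u : G} (hc : c ∈ centralizer ({a} : Set G))
    (hu : u ∈ supportR M a) : c * u * c⁻¹ ∈ supportR M a := by
  unfold supportR at hu ⊢
  split_ifs at hu ⊢ with h
  · obtain ⟨hu1, hu2⟩ := hu
    have hspec := Classical.choose_spec h.2.exists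
    refine ⟨conj_mem_fittingHallOf _ (hspec.2 hc) hu1, ?_⟩
    exact Subgroup.mul_mem _ (Subgroup.mul_mem _ hc hu2) (Subgroup.inv_mem _ hc)
  · rw [Subgroup.mem_bot] at hu ⊢
    rw [hu]
    simp

end Cfsg.Agent.Lib.Helper86.BG1537
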