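import Mathlib
import Cfsg.Agent.Lib.Helper38.CD3.Defs
import Cfsg.Agent.Lib.Helper83.OneNonlinear
import Cfsg.Agent.Lib.Helper83.CharMisc

/-!
# K-CD3 leaf N2 (S4460): characters of `G / H'` have `p`-power degree (Ito)
-/

set_option autoImplicit false

namespace Cfsg.Agent.Lib.Helper86.CD3

open Cfsg Cfsg.Agent.Lib.Helper97 Cfsg.Agent.Lib.Helper38.CD3
open scoped commutatorElement

universe u

variable {G : Type u} [Group G] [Finite G]

theorem ppow_degree_quot (p : ℕ) (hp : p.Prime) (H : Subgroup G) [H.Normal]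
    (hidx : ∃ k : ℕ, H.index = p ^ k) (χ : IrrCharacter (G ⧸ ⁅H, H⁆)) :
    ∃ j : ℕ, charDegree (χ : G ⧸ ⁅H, H⁆ → ℂ) = p ^ j := by
  obtain ⟨k, hk⟩ := hidx
  set A : Subgroup (G ⧸ ⁅H, H⁆) := H.map (QuotientGroup.mk' ⁅H, H⁆) with hA
  haveI : A.Normal :=
    Subgroup.Normal.map inferInstance _ (QuotientGroup.mk'_surjective _)
  have hAab : ∀ a ∈ A, ∀ b ∈ A, a * b = b * a := by
    rintro _ ⟨a, ha, rfl⟩ _ ⟨b, hb, rfl⟩
    have hc : ⁅a, b⁆ ∈ ⁅H, H⁆ := Subgroup.commutator_mem_commutator ha hb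
    have h1 : (QuotientGroup.mk' ⁅H, H⁆) ⁅a, b⁆ = 1 := by
      rw [← MonoidHom.mem_ker, QuotientGroup.ker_mk']
      exact hc
    rw [commutatorElement_def, map_mul, map_mul, map_mul, map_inv, map_inv] at h1
    have h2 := mul_inv_eq_one.1 h1
    have h3 := mul_inv_eq_iff_eq_mul.1 h2
    exact h3
  have hidxA : A.index = H.index := by
    rw [hA]
    apply Subgroup.index_map_eq _ (QuotientGroup.mk'_surjective _)
    rw [QuotientGroup.ker_mk']
    exact Subgroup.commutator_le_left H H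
  have hdvd := Cfsg.Agent.Lib.Helper83.ito_charDegree χ A hAab
  rw [hidxA, hk] at hdvd
  obtain ⟨j, _, hj⟩ := (Nat.dvd_prime_pow hp).1 hdvd
  exact ⟨j, hj⟩

end Cfsg.Agent.Lib.Helper86.CD3
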