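import Mathlib
import Cfsg.Agent.Lib.Helper38.CD3.Defs
import Cfsg.Agent.Lib.Helper83.OneNonlinear
import Cfsg.Agent.Lib.Helper83.CharMisc
import Cfsg.Agent.Lib.Helper86.CD3N5

/-!
# K-CD3 leaf N6 (S4460): `H'` commutative and `G / H'` has two degrees => `G''' = 1`
-/

set_option autoImplicit false

namespace Cfsg.Agent.Lib.Helper86.CD3

open Cfsg Cfsg.Agent.Lib.Helper97 Cfsg.Agent.Lib.Helper38.CD3

universe u

variable {G : Type u} [Group G] [Finite G]

theorem d3_of_twoDeg_quot (H : Subgroup G) [H.Normal]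
    (hH : ∀ a ∈ commutator H, ∀ b ∈ commutator H, a * b = b * a) {f : ℕ}
    (hq : TwoDeg (G ⧸ ⁅H, H⁆) f) : derivedSeries G 3 = ⊥ := by
  -- `K = ⁅H, H⁆` is commutative
  have hKmap : ⁅H, H⁆ = (commutator H).map H.subtype := by
    rw [commutator_def, Subgroup.map_commutator, ← MonoidHom.range_eq_map, Subgroup.range_subtype]
  have hKcomm : ∀ a ∈ ⁅H, H⁆, ∀ b ∈ ⁅H, H⁆, a * b = b * a := by
    intro a ha b hb
    rw [hKmap] at ha hb
    obtain ⟨a', ha', rfl⟩ := ha
    obtain ⟨b', hb', rfl⟩ := hb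
    have := hH a' ha' b' hb'
    have := congrArg H.subtype this
    simpa using this
  have hKK : ⁅(⁅H, H⁆ : Subgroup G), ⁅H, H⁆⁆ = ⊥ := by
    rw [Subgroup.commutator_eq_bot_iff_le_centralizer]
    intro a ha
    rw [Subgroup.mem_centralizer_iff]
    intro b hb
    exact hKcomm b hb a ha
  -- the quotient has commutative derived subgroup
  have hQ := comm_commutator_of_twoDeg hq
  have hQ2 : derivedSeries (G ⧸ ⁅H, H⁆) 2 = ⊥ := by
    rw [derivedSeries_succ, derivedSeries_one, Subgroup.commutator_eq_bot_iff_le_centralizer]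
    intro a ha
    rw [Subgroup.mem_centralizer_iff]
    intro b hb
    exact hQ b hb a ha
  have hD2 : derivedSeries G 2 ≤ ⁅H, H⁆ := by
    have h1 := map_derivedSeries_le_derivedSeries (QuotientGroup.mk' ⁅H, H⁆) 2
    rw [hQ2, le_bot_iff, Subgroup.map_eq_bot_iff, QuotientGroup.ker_mk'] at h1
    exact h1
  rw [derivedSeries_succ, eq_bot_iff, ← hKK]
  exact Subgroup.commutator_mono hD2 hD2

end Cfsg.Agent.Lib.Helper86.CD3
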