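import Mathlib
import Cfsg.Prelude.Def_RootSubgroups
import Cfsg.Agent.Lib.Helper86.RootSets2

set_option autoImplicit false

namespace Cfsg.Agent.Lib.Helper86

open Cfsg
open scoped commutatorElement

variable {G : Type*} [Group G] {S : Set (Subgroup G)}

/-- commutators `a y a⁻¹ y⁻¹` of a fixed `a` with a join. -/
theorem comm_mem_sup {a : G} {K P Q : Subgroup G}
    (hPn : P ≤ Subgroup.normalizer (K : Set G)) (hQn : Q ≤ Subgroup.normalizer (K : Set G))
    (hP : ∀ p ∈ P, a * p * a⁻¹ * p⁻¹ ∈ K) (hQ : ∀ q ∈ Q, a * q * a⁻¹ * q⁻¹ ∈ K) :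
    ∀ y ∈ P ⊔ Q, a * y * a⁻¹ * y⁻¹ ∈ K := by
  let T : Subgroup G :=
    { carrier := {y | y ∈ Subgroup.normalizer (K : Set G) ∧ a * y * a⁻¹ * y⁻¹ ∈ K}
      one_mem' := ⟨Subgroup.one_mem _, by simp⟩
      mul_mem' := by
        rintro y1 y2 ⟨h1, h1'⟩ ⟨h2, h2'⟩
        refine ⟨Subgroup.mul_mem _ h1 h2, ?_⟩
        have e : a * (y1 * y2) * a⁻¹ * (y1 * y2)⁻¹ =
            (a * y1 * a⁻¹ * y1⁻¹) * (y1 * (a * y2 * a⁻¹ * y2⁻¹) * y1⁻¹) := by group
        rw [e]
        exact K.mul_mem h1' ((Subgroup.mem_normalizer_iff.mp h1 _).mp h2')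
      inv_mem' := by
        rintro y ⟨h1, h1'⟩
        refine ⟨Subgroup.inv_mem _ h1, ?_⟩
        have e : a * y⁻¹ * a⁻¹ * y⁻¹⁻¹ = y⁻¹ * (a * y * a⁻¹ * y⁻¹)⁻¹ * y⁻¹⁻¹ := by group
        rw [e]
        exact (Subgroup.mem_normalizer_iff.mp (Subgroup.inv_mem _ h1) _).mp (K.inv_mem h1') }
  have hPT : P ≤ T := fun p hp => ⟨hPn hp, hP p hp⟩
  have hQT : Q ≤ T := fun q hq => ⟨hQn hq, hQ q hq⟩
  intro y hy
  exact ((sup_le hPT hQT) hy).2

/-- `⁅A, B⁆` is normalized by `A` and `B`. -/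
theorem commutator_normalized (A B : Subgroup G) :
    A ⊔ B ≤ Subgroup.normalizer ((⁅A, B⁆ : Subgroup G) : Set G) := by
  apply sup_le
  · rw [Subgroup.commutator_def, Subgroup.le_normalizer_closure_iff]
    rintro x hx _ ⟨a, ha, b, hb, rfl⟩
    have e : x * ⁅a, b⁆ * x⁻¹ = ⁅x * a, b⁆ * ⁅x, b⁆⁻¹ := by
      simp only [commutatorElement_def]; group
    rw [e, ← Subgroup.commutator_def]
    exact Subgroup.mul_mem _ (Subgroup.commutator_mem_commutator (A.mul_mem hx ha) hb)
      (Subgroup.inv_mem _ (Subgroup.commutator_mem_commutator hx hb))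
  · rw [Subgroup.commutator_def, Subgroup.le_normalizer_closure_iff]
    rintro y hy _ ⟨a, ha, b, hb, rfl⟩
    have e : y * ⁅a, b⁆ * y⁻¹ = ⁅a, y⁆⁻¹ * ⁅a, y * b⁆ := by
      simp only [commutatorElement_def]; group
    rw [e, ← Subgroup.commutator_def]
    exact Subgroup.mul_mem _ (Subgroup.inv_mem _ (Subgroup.commutator_mem_commutator ha hy))
      (Subgroup.commutator_mem_commutator ha (B.mul_mem hy hb))

theorem mem_sup_of_commute {A C : Subgroup G} (hcomm : ∀ a ∈ A, ∀ c ∈ C, a * c = c * a) {x : G} :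
    x ∈ A ⊔ C ↔ ∃ a ∈ A, ∃ c ∈ C, x = a * c := by
  constructor
  · intro hx
    let P : Subgroup G :=
      { carrier := {x | ∃ a ∈ A, ∃ c ∈ C, x = a * c}
        one_mem' := ⟨1, A.one_mem, 1, C.one_mem, by simp⟩
        mul_mem' := by
          rintro _ _ ⟨a, ha, c, hc, rfl⟩ ⟨a', ha', c', hc', rfl⟩
          refine ⟨a * a', A.mul_mem ha ha', c * c', C.mul_mem hc hc', ?_⟩
          calc a * c * (a' * c') = a * (c * a') * c' := by group
            _ = a * (a' * c) * c' := by rw [hcomm a' ha' c hc]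
            _ = a * a' * (c * c') := by group
        inv_mem' := by
          rintro _ ⟨a, ha, c, hc, rfl⟩
          refine ⟨a⁻¹, A.inv_mem ha, c⁻¹, C.inv_mem hc, ?_⟩
          rw [mul_inv_rev, hcomm a⁻¹ (A.inv_mem ha) c⁻¹ (C.inv_mem hc)] }
    have hA : A ≤ P := fun a ha => ⟨a, ha, 1, C.one_mem, by simp⟩
    have hC : C ≤ P := fun c hc => ⟨1, A.one_mem, c, hc, by simp⟩
    exact (sup_le hA hC) hx
  · rintro ⟨a, ha, c, hc, rfl⟩
    exact Subgroup.mul_mem _ (Subgroup.mem_sup_left ha) (Subgroup.mem_sup_right hc)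

/-- symmetry of the commutator case -/
theorem commcase_symm {A B : Subgroup G} (h : RootCommutatorCase S A B) : RootCommutatorCase S B A := by
  obtain ⟨h1, h2, h3, h4⟩ := h
  refine ⟨?_, ?_, ?_, ?_⟩
  · rw [Subgroup.commutator_comm]; exact h1
  · intro c hc x hx
    rw [Subgroup.commutator_comm] at hc
    rw [sup_comm] at hx
    exact h2 c hc x hx
  · intro b hb hb1
    have e : (fun a => b * a * b⁻¹ * a⁻¹) '' (A : Set G) =
        ((fun a => a * b * a⁻¹ * b⁻¹) '' (A : Set G))⁻¹ := by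
      ext x
      simp only [Set.mem_image, Set.mem_inv, SetLike.mem_coe]
      constructor
      · rintro ⟨a, ha, rfl⟩
        exact ⟨a, ha, by group⟩
      · rintro ⟨a, ha, hax⟩
        refine ⟨a, ha, ?_⟩
        have : x = (a * b * a⁻¹ * b⁻¹)⁻¹ := by rw [hax, inv_inv]
        rw [this]; group
    rw [e, Subgroup.closure_inv, h4 b hb hb1, Subgroup.commutator_comm]
  · intro a ha ha1
    have e : (fun b => b * a * b⁻¹ * a⁻¹) '' (B : Set G) =
        ((fun b => a * b * a⁻¹ * b⁻¹) '' (B : Set G))⁻¹ := by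
      ext x
      simp only [Set.mem_image, Set.mem_inv, SetLike.mem_coe]
      constructor
      · rintro ⟨b, hb, rfl⟩
        exact ⟨b, hb, by group⟩
      · rintro ⟨b, hb, hbx⟩
        refine ⟨b, hb, ?_⟩
        have : x = (a * b * a⁻¹ * b⁻¹)⁻¹ := by rw [hbx, inv_inv]
        rw [this]; group
    rw [e, Subgroup.closure_inv, h3 a ha ha1, Subgroup.commutator_comm]


/-- a rank one pair has no element of `A` all of whose commutators lie in a central subgroup -/
theorem rk1_no_central_comm {A B : Subgroup G} (h : IsRankOnePair A B) {K : Subgroup G}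
    (hK : K ≤ Subgroup.centralizer ((A ⊔ B : Subgroup G) : Set G))
    (hc : ∀ a ∈ A, ∀ y ∈ A ⊔ B, a * y * a⁻¹ * y⁻¹ ∈ K) : False := by
  apply rk1_left_ne_bot h
  rw [eq_bot_iff]
  intro a ha
  have h1 : a ∈ Subgroup.centralizer ((A ⊔ B : Subgroup G) : Set G) :=
    rk1_second_center h (Subgroup.mem_sup_left ha) (fun y hy => hK (hc a ha y hy))
  have h2 : a ∈ A ⊓ Subgroup.normalizer (B : Set G) :=
    ⟨ha, Subgroup.centralizer_le_normalizer _
      (Subgroup.centralizer_le (SetLike.coe_subset_coe.mpr le_sup_right) h1)⟩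
  rw [rk1_inf_normalizer h] at h2
  exact h2

/-- If `⁅A, B⁆ ∈ S` then the pair is in the commutator case. -/
theorem commcase_of_comm_mem (hS : IsRootSubgroupSet S) {A B : Subgroup G} (hA : A ∈ S) (hB : B ∈ S)
    (hC : ⁅A, B⁆ ∈ S) : RootCommutatorCase S A B := by
  rcases hS.pair A hA B hB with h | h | h
  · exact absurd h (hS.ne_bot _ hC)
  · exfalso
    have hAc := hS.commutative A hA
    have hn := commutator_normalized A B
    have hle : ⁅A, B⁆ ≤ A ⊔ B := Subgroup.commutator_le.mpr fun a ha b hb =>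
      Subgroup.mul_mem _ (Subgroup.mul_mem _ (Subgroup.mul_mem _ (Subgroup.mem_sup_left ha)
        (Subgroup.mem_sup_right hb)) (Subgroup.inv_mem _ (Subgroup.mem_sup_left ha)))
        (Subgroup.inv_mem _ (Subgroup.mem_sup_right hb))
    have hAn : A ≤ Subgroup.normalizer ((⁅A, B⁆ : Subgroup G) : Set G) := le_sup_left.trans hn
    have hBn : B ≤ Subgroup.normalizer ((⁅A, B⁆ : Subgroup G) : Set G) := le_sup_right.trans hn
    rcases rk1_normal_dichotomy h hn hle with h1 | h1
    · -- B ≤ C ⊔ A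
      have hAB : A ⊔ B ≤ A ⊔ ⁅A, B⁆ := sup_le le_sup_left (by rw [sup_comm]; exact h1)
      rcases hS.pair A hA _ hC with h2 | h2 | h2
      · -- A centralizes C: A ⊔ C is abelian
        rw [commutator_eq_bot_iff_comm] at h2
        apply rk1_not_commute h
        intro a ha b hb
        obtain ⟨a', ha', c, hc, rfl⟩ := (mem_sup_of_commute h2).mp (hAB (Subgroup.mem_sup_right hb))
        rw [← mul_assoc, comm_of_isMulCommutative hAc ha ha', mul_assoc, h2 a ha c hc, mul_assoc]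
      · apply rk1_left_ne_bot h2
        rw [← rk1_inf_normalizer h2]
        symm
        exact inf_of_le_left hAn
      · obtain ⟨hF, hFc, -, -⟩ := h2
        apply rk1_no_central_comm h (K := ⁅A, ⁅A, B⁆⁆)
        · intro f hf
          rw [Subgroup.mem_centralizer_iff]
          intro x hx
          exact (hFc f hf x (hAB hx)).symm
        · intro a ha y hy
          have hFcen : ∀ P : Subgroup G, P ≤ A ⊔ ⁅A, B⁆ →
              P ≤ Subgroup.normalizer ((⁅A, ⁅A, B⁆⁆ : Subgroup G) : Set G) := by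
            intro P hP x hx
            apply Subgroup.centralizer_le_normalizer
            rw [Subgroup.mem_centralizer_iff]
            intro f hf
            exact hFc f hf x (hP hx)
          refine comm_mem_sup (hFcen A le_sup_left) (hFcen _ le_sup_right) ?_ ?_ y (hAB hy)
          · intro p hp
            have : a * p * a⁻¹ * p⁻¹ = 1 := by
              rw [comm_of_isMulCommutative hAc ha hp]; group
            rw [this]; exact Subgroup.one_mem _
          · intro q hq
            exact Subgroup.commutator_mem_commutator ha hq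
    · -- C central
      apply rk1_no_central_comm h h1
      intro a ha y hy
      refine comm_mem_sup hAn hBn ?_ ?_ y hy
      · intro p hp
        have : a * p * a⁻¹ * p⁻¹ = 1 := by
          rw [comm_of_isMulCommutative hAc ha hp]; group
        rw [this]; exact Subgroup.one_mem _
      · intro q hq
        exact Subgroup.commutator_mem_commutator ha hq
  · exact h


section CommCase

variable {A B D : Subgroup G}

/-- the map `b ↦ a⁻¹ b⁻¹ a b` is multiplicative in the commutator case -/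
theorem commcase_map_mul (hc : RootCommutatorCase S A B) {a b b' : G} (ha : a ∈ A) (hb : b ∈ B)
    (hb' : b' ∈ B) :
    a⁻¹ * (b * b')⁻¹ * a * (b * b') = (a⁻¹ * b⁻¹ * a * b) * (a⁻¹ * b'⁻¹ * a * b') := by
  have hmem : a⁻¹ * b⁻¹ * a * b ∈ ⁅A, B⁆ := by
    have := Subgroup.commutator_mem_commutator (A.inv_mem ha) (B.inv_mem hb)
    simpa [commutatorElement_def] using this
  have h1 := hc.2.1 _ hmem b' (Subgroup.mem_sup_right hb')
  have h2 := hc.2.1 _ hmem (a⁻¹ * b'⁻¹ * a * b')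
    (Subgroup.mul_mem _ (Subgroup.mul_mem _ (Subgroup.mul_mem _ (Subgroup.mem_sup_left (A.inv_mem ha))
      (Subgroup.mem_sup_right (B.inv_mem hb'))) (Subgroup.mem_sup_left ha)) (Subgroup.mem_sup_right hb'))
  have e : a⁻¹ * (b * b')⁻¹ * a * (b * b') = a⁻¹ * b'⁻¹ * a * (a⁻¹ * b⁻¹ * a * b) * b' := by group
  rw [e]
  generalize a⁻¹ * b⁻¹ * a * b = c at hmem h1 h2 ⊢
  calc a⁻¹ * b'⁻¹ * a * c * b' = a⁻¹ * b'⁻¹ * a * (c * b') := by group
    _ = a⁻¹ * b'⁻¹ * a * (b' * c) := by rw [h1]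
    _ = (a⁻¹ * b'⁻¹ * a * b') * c := by group
    _ = c * (a⁻¹ * b'⁻¹ * a * b') := h2.symm

/-- the map `b ↦ a⁻¹ b⁻¹ a b` as a homomorphism `B →* ⁅A, B⁆` -/
def commcaseHom (hc : RootCommutatorCase S A B) {a : G} (ha : a ∈ A) : ↥B →* ↥(⁅A, B⁆ : Subgroup G) where
  toFun b := ⟨a⁻¹ * (b : G)⁻¹ * a * b, by
    have := Subgroup.commutator_mem_commutator (A.inv_mem ha) (B.inv_mem b.2)
    simpa [commutatorElement_def] using this⟩
  map_one' := by
    apply Subtype.ext
    simp
  map_mul' := by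
    intro b b'
    apply Subtype.ext
    simp only [Subgroup.coe_mul]
    exact commcase_map_mul hc ha b.2 b'.2

theorem commcaseHom_apply (hc : RootCommutatorCase S A B) {a : G} (ha : a ∈ A) (b : ↥B) :
    ((commcaseHom hc ha b : ↥(⁅A, B⁆ : Subgroup G)) : G) = a⁻¹ * (b : G)⁻¹ * a * b := rfl

theorem commcaseHom_surjective (hc : RootCommutatorCase S A B) {a : G} (ha : a ∈ A) (ha1 : a ≠ 1) :
    Function.Surjective (commcaseHom hc ha) := by
  have h3 := hc.2.2.1 a⁻¹ (A.inv_mem ha) (by simpa using ha1)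
  have hle : (⁅A, B⁆ : Subgroup G) ≤ ((commcaseHom hc ha).range).map (Subgroup.subtype _) := by
    refine le_trans (le_of_eq h3.symm) ?_
    rw [Subgroup.closure_le]
    rintro _ ⟨b, hb, rfl⟩
    refine ⟨commcaseHom hc ha ⟨b⁻¹, B.inv_mem hb⟩, ⟨_, rfl⟩, ?_⟩
    simp [commcaseHom_apply]
  intro c
  obtain ⟨c', ⟨b, rfl⟩, hc'⟩ := hle c.2
  exact ⟨b, Subtype.ext hc'⟩



theorem commcase_ne (hS : IsRootSubgroupSet S) (hc : RootCommutatorCase S A B) : A ≠ ⁅A, B⁆ := by
  intro h
  apply hS.ne_bot _ hc.1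
  rw [commutator_eq_bot_iff_comm]
  intro a ha b hb
  have : a ∈ ⁅A, B⁆ := h ▸ ha
  exact hc.2.1 a this b (Subgroup.mem_sup_right hb)

theorem commcase_comm_left (hc : RootCommutatorCase S A B) :
    ∀ a ∈ A, ∀ c ∈ ⁅A, B⁆, a * c = c * a :=
  fun a ha c hcm => (hc.2.1 c hcm a (Subgroup.mem_sup_left ha)).symm

theorem commcase_comm_right (hc : RootCommutatorCase S A B) :
    ∀ b ∈ B, ∀ c ∈ ⁅A, B⁆, b * c = c * b :=
  fun b hb c hcm => (hc.2.1 c hcm b (Subgroup.mem_sup_right hb)).symm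

theorem commcase_inf (hS : IsRootSubgroupSet S) (hA : A ∈ S) (hD : D ∈ S) (hAD : IsRankOnePair A D)
    (hc : RootCommutatorCase S A B) : A ⊓ ⁅A, B⁆ = ⊥ := by
  rcases root_inter hS hA hD hAD hc.1 with h | h
  · exact h
  · exact absurd h (commcase_ne hS hc)

/-- In the commutator case with `A` having a rank one partner, nontrivial elements of `A` and `B`
never commute. -/
theorem commcase_no_commute (hS : IsRootSubgroupSet S) (hA : A ∈ S) (hD : D ∈ S)
    (hAD : IsRankOnePair A D) (hc : RootCommutatorCase S A B)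
    {a b : G} (ha : a ∈ A) (ha1 : a ≠ 1) (hb : b ∈ B) (hb1 : b ≠ 1) : a * b ≠ b * a := by
  intro hab
  have hmem : a ∈ A ⊓ conjBy A b := by
    rw [Subgroup.mem_inf]
    refine ⟨ha, ?_⟩
    rw [mem_conjBy]
    have : b⁻¹ * a * b = a := by rw [mul_assoc, hab, ← mul_assoc]; simp
    rw [this]; exact ha
  rcases root_inter hS hA hD hAD (hS.conj_mem A hA b) with h | h
  · rw [h, Subgroup.mem_bot] at hmem
    exact ha1 hmem
  · -- b normalizes A, so all commutators [a', b] lie in A ∩ C = 1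
    apply hS.ne_bot _ hc.1
    rw [← hc.2.2.2 b hb hb1, Subgroup.closure_eq_bot_iff]
    rintro _ ⟨a', ha', rfl⟩
    have h1 : a' * b * a'⁻¹ * b⁻¹ ∈ A ⊓ ⁅A, B⁆ := by
      rw [Subgroup.mem_inf]
      refine ⟨?_, Subgroup.commutator_mem_commutator ha' hb⟩
      have h2 : b * a'⁻¹ * b⁻¹ ∈ conjBy A b := conj_mem_conjBy (A.inv_mem ha')
      rw [← h] at h2
      have := A.mul_mem ha' h2
      simpa [mul_assoc] using this
    rw [commcase_inf hS hA hD hAD hc, Subgroup.mem_bot] at h1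
    exact h1

theorem commcaseHom_injective (hS : IsRootSubgroupSet S) (hA : A ∈ S) (hD : D ∈ S)
    (hAD : IsRankOnePair A D) (hc : RootCommutatorCase S A B) {a : G} (ha : a ∈ A) (ha1 : a ≠ 1) :
    Function.Injective (commcaseHom hc ha) := by
  rw [injective_iff_map_eq_one]
  intro b hb
  by_contra hb1
  have hb1' : (b : G) ≠ 1 := fun h => hb1 (Subtype.ext h)
  have h1 := congrArg Subtype.val hb
  rw [commcaseHom_apply] at h1
  apply commcase_no_commute hS hA hD hAD hc ha ha1 b.2 hb1'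
  have h2 : a⁻¹ * (b : G)⁻¹ * a * b = 1 := h1
  have := congrArg (fun x => (b : G) * a * x) h2
  simpa [mul_assoc] using this

/-- every `a c` with `a ∈ A#`, `c ∈ ⁅A, B⁆` is a conjugate of `a` under `B` -/
theorem commcase_conj (hc : RootCommutatorCase S A B) {a : G} (ha : a ∈ A) (ha1 : a ≠ 1)
    {c : G} (hcm : c ∈ ⁅A, B⁆) : ∃ b ∈ B, b * a * b⁻¹ = a * c := by
  obtain ⟨b, hb⟩ := commcaseHom_surjective hc ha ha1 ⟨c, hcm⟩
  have h1 := congrArg Subtype.val hb
  rw [commcaseHom_apply] at h1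
  refine ⟨(b : G)⁻¹, B.inv_mem b.2, ?_⟩
  have h2 : a⁻¹ * (b : G)⁻¹ * a * b = c := h1
  rw [← h2]; group

/-- conjugates of `A` under `B` lie in `A ⊔ ⁅A, B⁆` -/
theorem commcase_conj_le (A B : Subgroup G) {b : G} (hb : b ∈ B) : conjBy A b ≤ A ⊔ ⁅A, B⁆ := by
  intro x hx
  rw [mem_conjBy] at hx
  have h1 : x = (b * (b⁻¹ * x * b) * b⁻¹ * (b⁻¹ * x * b)⁻¹) * (b⁻¹ * x * b) := by group
  rw [h1]
  apply Subgroup.mul_mem _ (Subgroup.mem_sup_right _) (Subgroup.mem_sup_left hx)
  rw [Subgroup.commutator_comm]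
  exact Subgroup.commutator_mem_commutator hb hx



theorem exists_ne_one_of_ne_bot {H : Subgroup G} (h : H ≠ ⊥) : ∃ x ∈ H, x ≠ 1 := by
  by_contra hc
  push Not at hc
  apply h
  rw [eq_bot_iff]
  intro x hx
  rw [Subgroup.mem_bot]
  exact hc x hx

/-- a member of `S` inside `⁅A, B⁆` equals `⁅A, B⁆` -/
theorem commcase_le_comm_eq (hS : IsRootSubgroupSet S) (hA : A ∈ S) (hD : D ∈ S)
    (hAD : IsRankOnePair A D) (hc : RootCommutatorCase S A B) {E : Subgroup G} (hE : E ∈ S)
    (hle : E ≤ ⁅A, B⁆) : E = ⁅A, B⁆ := by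
  have hC := hc.1
  have hEne := hS.ne_bot E hE
  have hinf : ⁅A, B⁆ ⊓ E = E := inf_of_le_right hle
  rcases hS.pair _ hC D hD with h | h | h
  · exfalso
    rw [commutator_eq_bot_iff_comm] at h
    obtain ⟨c, hcm, hc1⟩ := exists_ne_one_of_ne_bot (hS.ne_bot _ hC)
    obtain ⟨a, ha, ha1⟩ := rk1_exists_ne_one hAD
    have hz : c ∈ Subgroup.centralizer ((A ⊔ D : Subgroup G) : Set G) := by
      rw [mem_centralizer_sup_iff]
      exact ⟨fun a' ha' => commcase_comm_left hc a' ha' c hcm, fun d hd => (h c hcm d hd).symm⟩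
    apply root_central_translate hS hA hD hAD hz hc1 ha ha1
    obtain ⟨b, hb, hb2⟩ := commcase_conj hc ha ha1 hcm
    rw [← commcase_comm_left hc a ha c hcm, ← hb2]
    refine ⟨?_, conjBy A b, hS.conj_mem A hA b, conj_mem_conjBy ha⟩
    intro h1
    apply ha1
    have := congrArg (fun x => b⁻¹ * x * b) h1
    simpa [mul_assoc] using this
  · rcases root_inter hS hC hD h hE with h1 | h1
    · rw [hinf] at h1; exact absurd h1 hEne
    · exact h1.symm
  · have hDC := commcase_symm h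
    have hDA := RankOnePair_symm hAD
    obtain ⟨e, he, he1⟩ := exists_ne_one_of_ne_bot hEne
    obtain ⟨d, hd, hd1⟩ := rk1_exists_ne_one hDA
    rcases hS.pair D hD E hE with h' | h' | h'
    · exfalso
      rw [commutator_eq_bot_iff_comm] at h'
      exact commcase_no_commute hS hD hA hDA hDC hd hd1 (hle he) he1 (h' d hd e he)
    · rcases root_inter hS hE hD (RankOnePair_symm h') hC with h1 | h1
      · rw [inf_comm, hinf] at h1; exact absurd h1 hEne
      · exact h1
    · have heq : ⁅D, E⁆ = ⁅D, ⁅A, B⁆⁆ := by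
        rw [← h'.2.2.2 e he he1, ← hDC.2.2.2 e (hle he) he1]
      apply le_antisymm hle
      intro c hcm
      have hmem : d⁻¹ * c⁻¹ * d * c ∈ ⁅D, E⁆ := by
        rw [heq]
        have := Subgroup.commutator_mem_commutator (D.inv_mem hd) (Subgroup.inv_mem _ hcm)
        simpa [commutatorElement_def] using this
      obtain ⟨e', he'⟩ := commcaseHom_surjective h' hd hd1 ⟨_, hmem⟩
      have h1 := congrArg Subtype.val he'
      rw [commcaseHom_apply] at h1
      have h2 : (⟨e', hle e'.2⟩ : ↥(⁅A, B⁆ : Subgroup G)) = ⟨c, hcm⟩ := by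
        apply commcaseHom_injective hS hD hA hDA hDC hd hd1
        apply Subtype.ext
        rw [commcaseHom_apply, commcaseHom_apply]
        exact h1
      have h3 := congrArg Subtype.val h2
      simp only at h3
      rw [← h3]
      exact e'.2

end CommCase

end Cfsg.Agent.Lib.Helper86
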