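import Mathlib
import Cfsg.Prelude.Def_RootSubgroups
import Cfsg.Agent.Lib.Helper86.CommCase
import Cfsg.Agent.S5029

set_option autoImplicit false

namespace Cfsg.Agent.Lib.Helper86

open Cfsg
open scoped commutatorElement

variable {G : Type*} [Group G] {S : Set (Subgroup G)}

/-- a rank one partner is a conjugate -/
theorem rk1_exists_conj {A A' : Subgroup G} (h : IsRankOnePair A A') :
    ∃ a ∈ A, ∃ a' ∈ A', a ≠ 1 ∧ a' ≠ 1 ∧ A' = conjBy A (a⁻¹ * a') := by
  obtain ⟨a, ha, ha1⟩ := rk1_exists_ne_one h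
  obtain ⟨a', ha', ha1', h2⟩ := rk1_cond h ha ha1
  refine ⟨a, ha, a', ha', ha1, ha1', ?_⟩
  rw [← conjBy_conjBy, ← h2, conjBy_conjBy]
  simp [conjBy_one]

/-- conjugation by an element centralizing `A` fixes `A` -/
theorem conjBy_eq_of_commute {A : Subgroup G} {c : G} (h : ∀ x ∈ A, x * c = c * x) :
    conjBy A c = A := by
  apply mem_normalizer_iff_conjBy.mp
  apply Subgroup.centralizer_le_normalizer
  exact Subgroup.mem_centralizer_iff.mpr h

/-- Key lemma on lines: `A ~ A'` a rank one pair, `B` commuting with `A` such that the products `a b`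
are root elements, `B` having some rank one partner and `(A', B)` not a rank one pair.  Then
`(A', B)` is in the commutator case, so is `(A, ⁅A', B⁆)`, and `⁅A, ⁅A', B⁆⁆ = B`. -/
theorem line_key (hS : IsRootSubgroupSet S) {A A' B B' : Subgroup G} (hA : A ∈ S) (hA' : A' ∈ S)
    (hB : B ∈ S) (hB' : B' ∈ S) (hAA' : IsRankOnePair A A') (hBB' : IsRankOnePair B B')
    (hcomm : ∀ a ∈ A, ∀ b ∈ B, a * b = b * a) (hne : A ≠ B)
    (hroot : ∀ a ∈ A, a ≠ 1 → ∀ b ∈ B, b ≠ 1 → ∃ E ∈ S, a * b ∈ E)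
    (hnr : ¬ IsRankOnePair A' B) :
    RootCommutatorCase S A' B ∧ RootCommutatorCase S A ⁅A', B⁆ ∧ ⁅A, ⁅A', B⁆⁆ = B := by
  have hinf : A ⊓ B = ⊥ := (root_inter hS hA hA' hAA' hB).resolve_right hne
  obtain ⟨a, ha, a', ha', ha1, ha1', hg⟩ := rk1_exists_conj hAA'
  obtain ⟨b, hb, hb1⟩ := rk1_exists_ne_one hBB'
  have hab1 : a * b ≠ 1 := by
    intro h
    have h1 : b = a⁻¹ := eq_inv_of_mul_eq_one_right h
    have : b ∈ A ⊓ B := ⟨by rw [h1]; exact A.inv_mem ha, hb⟩
    rw [hinf, Subgroup.mem_bot] at this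
    exact hb1 this
  obtain ⟨E, hE, habE⟩ := hroot a ha ha1 b hb hb1
  -- step (i): `A'` and `B` do not commute
  have hAB' : RootCommutatorCase S A' B := by
    rcases hS.pair A' hA' B hB with h | h | h
    · exfalso
      rw [commutator_eq_bot_iff_comm] at h
      have hz : b ∈ Subgroup.centralizer ((A ⊔ A' : Subgroup G) : Set G) := by
        rw [mem_centralizer_sup_iff]
        exact ⟨fun x hx => hcomm x hx b hb, fun x hx => h x hx b hb⟩
      apply root_central_translate hS hA hA' hAA' hz hb1 ha ha1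
      rw [← hcomm a ha b hb]
      exact ⟨hab1, E, hE, habE⟩
    · exact absurd h hnr
    · exact h
  have hC : ⁅A', B⁆ ∈ S := hAB'.1
  refine ⟨hAB', ?_⟩
  -- elements of `A'` written as conjugates
  have hA'mem : ∀ x ∈ A', (a⁻¹ * a')⁻¹ * x * (a⁻¹ * a') ∈ A := by
    intro x hx
    rw [hg, mem_conjBy] at hx
    exact hx
  -- the conjugate of `b` by `g⁻¹`
  have hconj : ∀ y ∈ B, (a⁻¹ * a')⁻¹ * y * (a⁻¹ * a') = y * (y⁻¹ * a'⁻¹ * y * a') := by
    intro y hy
    have h1 := hcomm a ha y hy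
    calc (a⁻¹ * a')⁻¹ * y * (a⁻¹ * a') = a'⁻¹ * (a * y) * a⁻¹ * a' := by group
      _ = a'⁻¹ * (y * a) * a⁻¹ * a' := by rw [h1]
      _ = y * (y⁻¹ * a'⁻¹ * y * a') := by group
  have hcmem : ∀ y ∈ B, y⁻¹ * a'⁻¹ * y * a' ∈ ⁅A', B⁆ := by
    intro y hy
    rw [Subgroup.commutator_comm]
    have := Subgroup.commutator_mem_commutator (B.inv_mem hy) (A'.inv_mem ha')
    simpa [commutatorElement_def] using this
  rcases hS.pair A hA _ hC with h | h | h
  · -- `A` centralizes `C`: then `A'` centralizes `B`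
    exfalso
    apply hS.ne_bot _ hC
    rw [commutator_eq_bot_iff_comm] at h ⊢
    intro x hx y hy
    have hx0 := hA'mem x hx
    have h1 : ((a⁻¹ * a')⁻¹ * x * (a⁻¹ * a')) * ((a⁻¹ * a')⁻¹ * y * (a⁻¹ * a')) =
        ((a⁻¹ * a')⁻¹ * y * (a⁻¹ * a')) * ((a⁻¹ * a')⁻¹ * x * (a⁻¹ * a')) := by
      rw [hconj y hy]
      generalize (a⁻¹ * a')⁻¹ * x * (a⁻¹ * a') = x0 at hx0
      have e1 := hcomm x0 hx0 y hy
      have e2 := h x0 hx0 _ (hcmem y hy)
      generalize y⁻¹ * a'⁻¹ * y * a' = c at e2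
      calc x0 * (y * c) = (x0 * y) * c := by group
        _ = (y * x0) * c := by rw [e1]
        _ = y * (x0 * c) := by group
        _ = y * (c * x0) := by rw [e2]
        _ = y * c * x0 := by group
    have h2 := congrArg (fun t => (a⁻¹ * a') * t * (a⁻¹ * a')⁻¹) h1
    have e3 : (a⁻¹ * a') * (((a⁻¹ * a')⁻¹ * x * (a⁻¹ * a')) * ((a⁻¹ * a')⁻¹ * y * (a⁻¹ * a'))) *
        (a⁻¹ * a')⁻¹ = x * y := by group
    have e4 : (a⁻¹ * a') * (((a⁻¹ * a')⁻¹ * y * (a⁻¹ * a')) * ((a⁻¹ * a')⁻¹ * x * (a⁻¹ * a'))) *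
        (a⁻¹ * a')⁻¹ = y * x := by group
    rw [e3, e4] at h2
    exact h2
  · -- `(A, C)` rank one: `b` centralizes `A ⊔ C`
    exfalso
    have hz : b ∈ Subgroup.centralizer ((A ⊔ ⁅A', B⁆ : Subgroup G) : Set G) := by
      rw [mem_centralizer_sup_iff]
      exact ⟨fun x hx => hcomm x hx b hb, fun c hc => (commcase_comm_right hAB' b hb c hc).symm⟩
    apply root_central_translate hS hA hC h hz hb1 ha ha1
    rw [← hcomm a ha b hb]
    exact ⟨hab1, E, hE, habE⟩
  · refine ⟨h, ?_⟩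
    have hF : ⁅A, ⁅A', B⁆⁆ ∈ S := h.1
    -- c = b⁻¹ a'⁻¹ b a'
    set c := b⁻¹ * a'⁻¹ * b * a' with hcdef
    have hc : c ∈ ⁅A', B⁆ := hcmem b hb
    -- f = a c a⁻¹ c⁻¹
    set f := a * c * a⁻¹ * c⁻¹ with hfdef
    have hf : f ∈ ⁅A, ⁅A', B⁆⁆ := by
      have := Subgroup.commutator_mem_commutator ha hc
      simpa [commutatorElement_def] using this
    -- g⁻¹ b g = b c ;   d = b * f⁻¹ ... we use conjugation the other way round
    -- elements of A' commute with g b' g⁻¹ for b' ∈ B; here we use x ∈ A' ↦ g⁻¹ x g ∈ A instead: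
    -- g⁻¹ x g commutes with b, hence x commutes with g b g⁻¹.
    have hgb : (a⁻¹ * a') * b * (a⁻¹ * a')⁻¹ = a⁻¹ * (a' * b * a'⁻¹ * b⁻¹) * a * b := by
      have h1 := hcomm a ha b hb
      calc (a⁻¹ * a') * b * (a⁻¹ * a')⁻¹ = a⁻¹ * (a' * b * a'⁻¹ * b⁻¹) * (b * a) := by group
        _ = a⁻¹ * (a' * b * a'⁻¹ * b⁻¹) * (a * b) := by rw [h1]
        _ = _ := by group
    -- c' = a' b a'⁻¹ b⁻¹ ∈ C
    set c' := a' * b * a'⁻¹ * b⁻¹ with hc'def
    have hc' : c' ∈ ⁅A', B⁆ := by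
      have := Subgroup.commutator_mem_commutator ha' hb
      simpa [commutatorElement_def] using this
    -- f' = a⁻¹ c' a c'⁻¹ ∈ F
    set f' := a⁻¹ * c' * a * c'⁻¹ with hf'def
    have hf' : f' ∈ ⁅A, ⁅A', B⁆⁆ := by
      have := Subgroup.commutator_mem_commutator (A.inv_mem ha) hc'
      simpa [commutatorElement_def] using this
    have hgb' : (a⁻¹ * a') * b * (a⁻¹ * a')⁻¹ = f' * c' * b := by
      rw [hgb, hf'def]; group
    -- d = f' * b centralizes A ⊔ A'
    have hdA : ∀ x ∈ A, x * (f' * b) = (f' * b) * x := by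
      intro x hx
      have e1 := commcase_comm_left h x hx f' hf'
      have e2 := hcomm x hx b hb
      calc x * (f' * b) = (x * f') * b := by group
        _ = (f' * x) * b := by rw [e1]
        _ = f' * (x * b) := by group
        _ = f' * (b * x) := by rw [e2]
        _ = f' * b * x := by group
    have hdA' : ∀ x ∈ A', x * (f' * b) = (f' * b) * x := by
      intro x hx
      have hx0 := hA'mem x hx
      have e1 : x * ((a⁻¹ * a') * b * (a⁻¹ * a')⁻¹) = ((a⁻¹ * a') * b * (a⁻¹ * a')⁻¹) * x := by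
        have e2 := hcomm _ hx0 b hb
        calc x * ((a⁻¹ * a') * b * (a⁻¹ * a')⁻¹)
            = (a⁻¹ * a') * (((a⁻¹ * a')⁻¹ * x * (a⁻¹ * a')) * b) * (a⁻¹ * a')⁻¹ := by group
          _ = (a⁻¹ * a') * (b * ((a⁻¹ * a')⁻¹ * x * (a⁻¹ * a'))) * (a⁻¹ * a')⁻¹ := by rw [e2]
          _ = _ := by group
      rw [hgb'] at e1
      have e3 := commcase_comm_left hAB' x hx c' hc'
      have e4 := commcase_comm_right hAB' b hb c' hc'
      -- f' c' b = f' b c'
      have e5 : f' * c' * b = f' * b * c' := by rw [mul_assoc, ← e4, ← mul_assoc]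
      rw [e5] at e1
      have e6 : x * (f' * b) * c' = (f' * b) * x * c' := by
        calc x * (f' * b) * c' = x * (f' * b * c') := by group
          _ = f' * b * c' * x := e1
          _ = f' * b * (c' * x) := by group
          _ = f' * b * (x * c') := by rw [e3]
          _ = _ := by group
      exact mul_right_cancel e6
    have hz : f' * b ∈ Subgroup.centralizer ((A ⊔ A' : Subgroup G) : Set G) := by
      rw [mem_centralizer_sup_iff]
      exact ⟨hdA, hdA'⟩
    by_cases hd1 : f' * b = 1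
    · have h1 : b = f'⁻¹ := eq_inv_of_mul_eq_one_right hd1
      have hbF : b ∈ ⁅A, ⁅A', B⁆⁆ := by rw [h1]; exact Subgroup.inv_mem _ hf'
      rcases root_inter hS hB hB' hBB' hF with h2 | h2
      · exfalso
        have : b ∈ B ⊓ ⁅A, ⁅A', B⁆⁆ := ⟨hb, hbF⟩
        rw [h2, Subgroup.mem_bot] at this
        exact hb1 this
      · exact h2.symm
    · exfalso
      apply root_central_translate hS hA hA' hAA' hz hd1 ha ha1
      obtain ⟨c₂, hc₂, hc₂e⟩ := commcase_conj h ha ha1 hf'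
      have e1 := commcase_comm_right hAB' b hb c₂ hc₂
      have e2 := commcase_comm_left h a ha f' hf'
      have e3 := hcomm a ha b hb
      have key : c₂ * (a * b) * c₂⁻¹ = f' * b * a := by
        calc c₂ * (a * b) * c₂⁻¹ = (c₂ * a * c₂⁻¹) * (c₂ * b) * c₂⁻¹ := by group
          _ = (a * f') * (b * c₂) * c₂⁻¹ := by rw [hc₂e, e1]
          _ = (f' * a) * (b * c₂) * c₂⁻¹ := by rw [e2]
          _ = f' * (a * b) := by group
          _ = f' * (b * a) := by rw [e3]
          _ = _ := by group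
      refine ⟨?_, conjBy E c₂, hS.conj_mem E hE c₂, ?_⟩
      · rw [← key]
        intro h1
        apply hab1
        have := congrArg (fun t => c₂⁻¹ * t * c₂) h1
        simpa [mul_assoc] using this
      · rw [← key]
        exact conj_mem_conjBy habE

/-- With the hypotheses of `line_key`, every member of `S` inside `A ⊔ B` other than `B` forms a
rank one pair with `A'`. -/
theorem line_members (hS : IsRootSubgroupSet S) {A A' B B' : Subgroup G} (hA : A ∈ S) (hA' : A' ∈ S)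
    (hB : B ∈ S) (hB' : B' ∈ S) (hAA' : IsRankOnePair A A') (hBB' : IsRankOnePair B B')
    (hcomm : ∀ a ∈ A, ∀ b ∈ B, a * b = b * a) (hne : A ≠ B)
    (hroot : ∀ a ∈ A, a ≠ 1 → ∀ b ∈ B, b ≠ 1 → ∃ E ∈ S, a * b ∈ E)
    (hnr : ¬ IsRankOnePair A' B) {E : Subgroup G} (hE : E ∈ membersIn S (A ⊔ B)) (hEB : E ≠ B) :
    IsRankOnePair A' E := by
  obtain ⟨h1, h2, h3⟩ := line_key hS hA hA' hB hB' hAA' hBB' hcomm hne hroot hnr
  have hm := Cfsg.Agent.S5029.members_eq hS hA hA' hAA' h2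
  rw [h3] at hm
  rw [hm] at hE
  rcases hE with ⟨c, hc, rfl⟩ | hE
  · have h4 := rk1_conj hAA' c
    have h5 : conjBy A' c = A' :=
      conjBy_eq_of_commute fun x hx => commcase_comm_left h1 x hx c hc
    rw [h5] at h4
    exact RankOnePair_symm h4
  · rw [Set.mem_singleton_iff] at hE
    exact absurd hE hEB

end Cfsg.Agent.Lib.Helper86
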