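import Mathlib
import Cfsg.Prelude.Def_RootSubgroups
import Cfsg.Agent.Lib.Helper86.Lines

set_option autoImplicit false

namespace Cfsg.Agent.Lib.Helper86

open Cfsg

variable {G : Type*} [Group G] {S : Set (Subgroup G)}

theorem FAdj_symm {A B : Subgroup G} (h : FAdj S A B) : FAdj S B A :=
  ⟨h.2.1, h.1, RankOnePair_symm h.2.2⟩

theorem FReach_symm {A B : Subgroup G} (h : Relation.ReflTransGen (FAdj S) A B) :
    Relation.ReflTransGen (FAdj S) B A := by
  induction h with
  | refl => exact Relation.ReflTransGen.refl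
  | tail _ hbc ih => exact Relation.ReflTransGen.head (FAdj_symm hbc) ih

theorem component_eq_of_reach {A B : Subgroup G} (h : Relation.ReflTransGen (FAdj S) A B) :
    componentOf (FAdj S) S A = componentOf (FAdj S) S B := by
  ext E
  constructor
  · rintro ⟨hE, hAE⟩
    exact ⟨hE, (FReach_symm h).trans hAE⟩
  · rintro ⟨hE, hBE⟩
    exact ⟨hE, h.trans hBE⟩

/-- a member whose component has another member has a rank one partner -/
theorem exists_partner_of_component {A : Subgroup G}
    (h : ∃ A' ∈ componentOf (FAdj S) S A, A' ≠ A) : ∃ A' ∈ S, IsRankOnePair A A' := by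
  obtain ⟨A', ⟨-, hreach⟩, hne⟩ := h
  rcases Relation.ReflTransGen.cases_head hreach with h1 | ⟨C, hC, -⟩
  · exact absurd h1.symm hne
  · exact ⟨C, hC.2.1, hC.2.2⟩

theorem FAdj_conj (hS : IsRootSubgroupSet S) {A B : Subgroup G} (h : FAdj S A B) (g : G) :
    FAdj S (conjBy A g) (conjBy B g) :=
  ⟨hS.conj_mem A h.1 g, hS.conj_mem B h.2.1 g, rk1_conj h.2.2 g⟩

theorem FReach_conj (hS : IsRootSubgroupSet S) {A B : Subgroup G}
    (h : Relation.ReflTransGen (FAdj S) A B) (g : G) :
    Relation.ReflTransGen (FAdj S) (conjBy A g) (conjBy B g) := by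
  induction h with
  | refl => exact Relation.ReflTransGen.refl
  | tail _ hbc ih => exact ih.tail (FAdj_conj hS hbc g)

end Cfsg.Agent.Lib.Helper86
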