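import Mathlib
import Cfsg.Prelude.Def_RootSubgroups
import Cfsg.Agent.Lib.Helper86.Components

set_option autoImplicit false

namespace Cfsg.Agent.Lib.Helper86

open Cfsg
open scoped commutatorElement

variable {G : Type*} [Group G] {S : Set (Subgroup G)}

/-- `A` centralizes `A ⊔ B` when `A` is abelian and commutes with `B`. -/
theorem comm_sup_of_comm {A B : Subgroup G} (hAc : IsMulCommutative A)
    (hcomm : ∀ a ∈ A, ∀ b ∈ B, a * b = b * a) :
    ∀ a ∈ A, ∀ x ∈ A ⊔ B, a * x = x * a := by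
  intro a ha x hx
  have : a ∈ Subgroup.centralizer ((A ⊔ B : Subgroup G) : Set G) := by
    rw [mem_centralizer_sup_iff]
    exact ⟨fun a' ha' => comm_of_isMulCommutative hAc ha' ha, fun b hb => (hcomm a ha b hb).symm⟩
  exact (Subgroup.mem_centralizer_iff.mp this x hx).symm

/-- the commutator case and the rank one case exclude each other -/
theorem commcase_not_rk1 {A B : Subgroup G} (hAc : IsMulCommutative A)
    (hc : RootCommutatorCase S A B) : ¬ IsRankOnePair A B := by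
  intro h
  apply rk1_no_central_comm h (K := ⁅A, B⁆)
  · intro c hcm
    rw [Subgroup.mem_centralizer_iff]
    intro x hx
    exact (hc.2.1 c hcm x hx).symm
  · intro a ha y hy
    have hn := commutator_normalized A B
    refine comm_mem_sup (le_sup_left.trans hn) (le_sup_right.trans hn) ?_ ?_ y hy
    · intro p hp
      have : a * p * a⁻¹ * p⁻¹ = 1 := by
        rw [comm_of_isMulCommutative hAc ha hp]; group
      rw [this]; exact Subgroup.one_mem _
    · intro q hq
      exact Subgroup.commutator_mem_commutator ha hq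

/-- On a line `A ⊔ B` through `A`, for a rank one partner `A'` of both `A` and `B`, some point of
the line is not in rank one relation with `A'`; it contains `a⁻¹ c` for suitable `a ∈ A#`, `c ∈ B#`. -/
theorem line_point (hS : IsRootSubgroupSet S) {A A' B : Subgroup G} (hA : A ∈ S) (hA' : A' ∈ S)
    (hAA' : IsRankOnePair A A') (hB : B ∈ linePartners S A) (hBA' : IsRankOnePair B A') :
    ∃ E ∈ membersIn S (A ⊔ B), ¬ IsRankOnePair A' E ∧
      ∃ a ∈ A, a ≠ 1 ∧ ∃ c ∈ B, c ≠ 1 ∧ a⁻¹ * c ∈ E := by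
  obtain ⟨⟨hBS, hBA, hcomm⟩, hpart⟩ := hB
  rw [commutator_eq_bot_iff_comm] at hcomm
  have hinf : A ⊓ B = ⊥ := (root_inter hS hA hA' hAA' hBS).resolve_right hBA.symm
  obtain ⟨b', hb', hb1'⟩ := rk1_exists_ne_one (RankOnePair_symm hAA')
  obtain ⟨a, ha, ha1, h1⟩ := rk1_cond' hAA' hb' hb1'
  obtain ⟨c, hc, hc1, h2⟩ := rk1_cond' hBA' hb' hb1'
  -- conjBy A' a and conjBy A' c commute
  have hcm1 : ∀ x ∈ conjBy A' a, ∀ y ∈ conjBy A' c, x * y = y * x := by
    intro x hx y hy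
    rw [← h1, mem_conjBy] at hx
    rw [← h2, mem_conjBy] at hy
    have h3 := hcomm _ hx _ hy
    have h4 := congrArg (fun t => b' * t * b'⁻¹) h3
    have e1 : b' * (b'⁻¹ * x * b' * (b'⁻¹ * y * b')) * b'⁻¹ = x * y := by group
    have e2 : b' * (b'⁻¹ * y * b' * (b'⁻¹ * x * b')) * b'⁻¹ = y * x := by group
    rw [e1, e2] at h4
    exact h4
  have he1 : a⁻¹ * c ≠ 1 := by
    intro h
    have h3 : c = a := by
      have := congrArg (fun t => a * t) h
      simpa using this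
    have : a ∈ A ⊓ B := ⟨ha, h3 ▸ hc⟩
    rw [hinf, Subgroup.mem_bot] at this
    exact ha1 this
  have hemem : a⁻¹ * c ∈ A ⊔ B :=
    Subgroup.mul_mem _ (Subgroup.mem_sup_left (A.inv_mem ha)) (Subgroup.mem_sup_right hc)
  obtain ⟨E, hE, heE⟩ := hpart.2.1 _ hemem he1
  refine ⟨E, hE, ?_, a, ha, ha1, c, hc, hc1, heE⟩
  intro hr
  -- A' and conjBy A' e commute
  have hcm2 : ∀ x ∈ A', ∀ y ∈ conjBy A' (a⁻¹ * c), x * y = y * x := by
    intro x hx y hy
    have hx' : a * x * a⁻¹ ∈ conjBy A' a := conj_mem_conjBy hx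
    have hy' : a * y * a⁻¹ ∈ conjBy A' c := by
      have := conj_mem_conjBy (g := a) hy
      rw [conjBy_conjBy] at this
      simpa using this
    have h3 := hcm1 _ hx' _ hy'
    have h4 := congrArg (fun t => a⁻¹ * t * a) h3
    have e1 : a⁻¹ * (a * x * a⁻¹ * (a * y * a⁻¹)) * a = x * y := by group
    have e2 : a⁻¹ * (a * y * a⁻¹ * (a * x * a⁻¹)) * a = y * x := by group
    rw [e1, e2] at h4
    exact h4
  obtain ⟨a'', ha'', -, h5⟩ := rk1_cond' hr heE he1
  rw [h5] at hcm2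
  exact rk1_not_commute_conj (RankOnePair_symm hr) ha'' hcm2

/-- Structure of a line `A ⊔ B` relative to a rank one partner `A'` of `A`: there is a point `E`
in the commutator case with `A'` such that `⁅A, ⁅A', E⁆⁆ = E` and `A ⊔ E` is the whole line. -/
theorem line_structure (hS : IsRootSubgroupSet S) (hall : ∀ A ∈ S, ∃ D ∈ S, IsRankOnePair A D)
    {A A' B : Subgroup G} (hA : A ∈ S) (hA' : A' ∈ S) (hAA' : IsRankOnePair A A')
    (hB : B ∈ linePartners S A) :
    ∃ E ∈ membersIn S (A ⊔ B), E ≠ A ∧ RootCommutatorCase S A' E ∧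
      RootCommutatorCase S A ⁅A', E⁆ ∧ ⁅A, ⁅A', E⁆⁆ = E ∧ A ⊔ E = A ⊔ B := by
  have hB0 := hB
  obtain ⟨⟨hBS, hBA, hcomm⟩, hpart⟩ := hB
  rw [commutator_eq_bot_iff_comm] at hcomm
  have hAc := hS.commutative A hA
  have hrootgen : ∀ E ∈ membersIn S (A ⊔ B), E ≠ A →
      ∀ a ∈ A, a ≠ 1 → ∀ e ∈ E, e ≠ 1 → ∃ E' ∈ S, a * e ∈ E' := by
    intro E hE hEA a ha ha1 e he he1
    have hinf : A ⊓ E = ⊥ := (root_inter hS hA hA' hAA' hE.1).resolve_right hEA.symm
    have h1 : a * e ∈ A ⊔ B := Subgroup.mul_mem _ (Subgroup.mem_sup_left ha) (hE.2 he)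
    have h2 : a * e ≠ 1 := by
      intro h
      have h3 : e = a⁻¹ := eq_inv_of_mul_eq_one_right h
      have : e ∈ A ⊓ E := ⟨by rw [h3]; exact A.inv_mem ha, he⟩
      rw [hinf, Subgroup.mem_bot] at this
      exact he1 this
    obtain ⟨E', hE', h3⟩ := hpart.2.1 _ h1 h2
    exact ⟨E', hE'.1, h3⟩
  have hBmem : B ∈ membersIn S (A ⊔ B) := ⟨hBS, le_sup_right⟩
  by_cases hr : IsRankOnePair A' B
  · obtain ⟨E, hE, hnr, a, ha, ha1, c, hc, hc1, heE⟩ :=
      line_point hS hA hA' hAA' hB0 (RankOnePair_symm hr)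
    have hEA : E ≠ A := by
      rintro rfl
      exact hnr (RankOnePair_symm hAA')
    obtain ⟨E', hE', hEE'⟩ := hall E hE.1
    have hcommE : ∀ a ∈ A, ∀ e ∈ E, a * e = e * a :=
      fun a ha e he => comm_sup_of_comm hAc hcomm a ha e (hE.2 he)
    obtain ⟨h1, h2, h3⟩ := line_key hS hA hA' hE.1 hE' hAA' hEE' hcommE hEA.symm
      (hrootgen E hE hEA) hnr
    refine ⟨E, hE, hEA, h1, h2, h3, ?_⟩
    apply le_antisymm (sup_le le_sup_left hE.2)
    apply sup_le le_sup_left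
    -- B ≤ A ⊔ E
    have hp := Cfsg.Agent.S5029.partition hS hA hA' hAA' h2
    rw [h3] at hp
    have hcmem : c ∈ A ⊔ E := by
      have : c = a * (a⁻¹ * c) := by group
      rw [this]
      exact Subgroup.mul_mem _ (Subgroup.mem_sup_left ha) (Subgroup.mem_sup_right heE)
    obtain ⟨T, hT, hcT⟩ := hp.2.1 c hcmem hc1
    have hTL : T ∈ membersIn S (A ⊔ B) := ⟨hT.1, hT.2.trans (sup_le le_sup_left hE.2)⟩
    have hTB : T = B := by
      by_contra hne
      have := hpart.2.2 T hTL B hBmem hne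
      have h4 : c ∈ T ⊓ B := ⟨hcT, hc⟩
      rw [this, Subgroup.mem_bot] at h4
      exact hc1 h4
    rw [← hTB]
    exact hT.2
  · obtain ⟨B', hB', hBB'⟩ := hall B hBS
    obtain ⟨h1, h2, h3⟩ := line_key hS hA hA' hBS hB' hAA' hBB' hcomm hBA.symm
      (hrootgen B hBmem hBA) hr
    exact ⟨B, hBmem, hBA, h1, h2, h3, rfl⟩

/-- the members of the line in terms of the structure -/
theorem line_structure_members (hS : IsRootSubgroupSet S) {A A' B E : Subgroup G} (hA : A ∈ S)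
    (hA' : A' ∈ S) (hAA' : IsRankOnePair A A') (h2 : RootCommutatorCase S A ⁅A', E⁆)
    (h3 : ⁅A, ⁅A', E⁆⁆ = E) (h4 : A ⊔ E = A ⊔ B) :
    membersIn S (A ⊔ B) = (fun f : G => conjBy A f) '' ((⁅A', E⁆ : Subgroup G) : Set G) ∪ {E} := by
  have hm := Cfsg.Agent.S5029.members_eq hS hA hA' hAA' h2
  rw [h3, h4] at hm
  exact hm

end Cfsg.Agent.Lib.Helper86
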