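import Mathlib
import Cfsg.Prelude.Def_RootSubgroups
import Cfsg.Agent.Lib.Helper86.RootSets2

set_option autoImplicit false
open Cfsg

namespace Cfsg.Agent.Lib.Helper86

section Quad

variable {X : Type*} [Group X] {A B : Subgroup X} {V : Type*} [AddCommGroup V] [DistribMulAction X V]

/-- conjugates of a quadratically acting subgroup act quadratically -/
theorem quad_conj (hq : ∀ a ∈ A, ∀ a' ∈ A, ∀ v : V, a' • (a • v - v) = a • v - v) (x : X) :
    ∀ b ∈ conjBy A x, ∀ b' ∈ conjBy A x, ∀ v : V, b' • (b • v - v) = b • v - v := by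
  intro b hb b' hb' v
  rw [mem_conjBy] at hb hb'
  have h1 := hq _ hb _ hb' (x⁻¹ • v)
  have h2 := congrArg (fun w => x • w) h1
  simp only [smul_sub, mul_smul, smul_inv_smul] at h2
  rw [smul_sub]
  exact h2

theorem quad_right (h : IsRankOnePair A B)
    (hq : ∀ a ∈ A, ∀ a' ∈ A, ∀ v : V, a' • (a • v - v) = a • v - v) :
    ∀ b ∈ B, ∀ b' ∈ B, ∀ v : V, b' • (b • v - v) = b • v - v := by
  obtain ⟨x, -, hx⟩ := rk1_B_mem_unipotent h
  rw [hx]
  exact quad_conj hq x

/-- quadratic + faithful implies commutative -/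
theorem quad_comm (hf : ∀ x : X, (∀ v : V, x • v = v) → x = 1)
    (hq : ∀ a ∈ A, ∀ a' ∈ A, ∀ v : V, a' • (a • v - v) = a • v - v) :
    ∀ a ∈ A, ∀ a' ∈ A, a * a' = a' * a := by
  intro a ha a' ha'
  have key : ∀ v : V, (a * a') • v = (a' * a) • v := by
    intro v
    have h1 := hq a ha a' ha' v
    have h2 := hq a' ha' a ha v
    rw [smul_sub] at h1 h2
    rw [mul_smul, mul_smul]
    have e1 : a' • a • v = a • v - v + a' • v := by rw [← h1]; abel
    have e2 : a • a' • v = a' • v - v + a • v := by rw [← h2]; abel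
    rw [e1, e2]; abel
  have h3 : (a' * a)⁻¹ * (a * a') = 1 := by
    apply hf
    intro v
    rw [mul_smul, key v, inv_smul_smul]
  have := congrArg (fun y => (a' * a) * y) h3
  simpa [mul_assoc] using this

/-- powers of a quadratically acting element -/
theorem quad_pow {a : X} (hq : ∀ v : V, a • (a • v - v) = a • v - v) (n : ℕ) (v : V) :
    (a ^ n) • v = v + n • (a • v - v) := by
  induction n with
  | zero => simp
  | succ n ih =>
    rw [pow_succ', mul_smul, ih, smul_add, smul_comm a n, hq v, succ_nsmul]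
    abel

theorem eq_of_smul_eq (hf : ∀ x : X, (∀ v : V, x • v = v) → x = 1) {x y : X}
    (h : ∀ v : V, x • v = y • v) : x = y := by
  have h3 : y⁻¹ * x = 1 := by
    apply hf
    intro v
    rw [mul_smul, h v, inv_smul_smul]
  have := congrArg (fun z => y * z) h3
  simpa [mul_assoc] using this

/-- if a non-identity element of `A` has "exponent `p`" on `V` then so does every element of `A` -/
theorem quad_exponent (h : IsRankOneGroup X A B) (hf : ∀ x : X, (∀ v : V, x • v = v) → x = 1)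
    (hq : ∀ a ∈ A, ∀ a' ∈ A, ∀ v : V, a' • (a • v - v) = a • v - v)
    {p : ℕ} {a : X} (ha : a ∈ A) (ha1 : a ≠ 1) (hap : ∀ v : V, p • (a • v - v) = 0) :
    ∀ a' ∈ A, a' ^ p = 1 := by
  obtain ⟨htop, hp⟩ := h
  have hqB := quad_right hp hq
  have hAc := quad_comm hf hq
  have hBc := quad_comm hf hqB
  have hcen : Subgroup.centralizer ((A ⊔ B : Subgroup X) : Set X) = Subgroup.center X := by
    rw [htop, Subgroup.coe_top, Subgroup.centralizer_univ]
  have hcen' : Subgroup.centralizer ((B ⊔ A : Subgroup X) : Set X) = Subgroup.center X := by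
    rw [sup_comm]; exact hcen
  -- the kernel on pV
  let N : Subgroup X :=
    { carrier := {x | ∀ v : V, x • (p • v) = p • v}
      one_mem' := fun v => one_smul _ _
      mul_mem' := by
        intro x y hx hy v
        rw [mul_smul, hy v, hx v]
      inv_mem' := by
        intro x hx v
        have := congrArg (fun w => x⁻¹ • w) (hx v)
        simp only [inv_smul_smul] at this
        exact this.symm }
  have hNmem : ∀ x : X, x ∈ N ↔ ∀ v : V, x • (p • v) = p • v := fun x => Iff.rfl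
  have hNnormal : N.Normal := by
    refine ⟨fun x hx g => ?_⟩
    rw [hNmem] at hx ⊢
    intro v
    rw [mul_smul, mul_smul, smul_comm g⁻¹ p v, hx, ← smul_comm g⁻¹ p v, smul_inv_smul]
  have haN : a ∈ N := by
    intro v
    rw [smul_comm a p v]
    have : a • v = v + (a • v - v) := by abel
    rw [this, nsmul_add, hap v, add_zero]
  have hanc : a ∉ Subgroup.center X := by
    intro hc
    have : a ∈ A ⊓ Subgroup.normalizer (B : Set X) :=
      ⟨ha, Subgroup.centralizer_le_normalizer _ (Subgroup.center_le_centralizer _ hc)⟩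
    rw [rk1_inf_normalizer hp, Subgroup.mem_bot] at this
    exact ha1 this
  have hNn : A ⊔ B ≤ Subgroup.normalizer (N : Set X) := by
    rw [Subgroup.normalizer_eq_top_iff.mpr hNnormal]; exact le_top
  have hNn' : B ⊔ A ≤ Subgroup.normalizer (N : Set X) := by
    rw [Subgroup.normalizer_eq_top_iff.mpr hNnormal]; exact le_top
  have hBle : B ≤ N ⊔ A := by
    rcases rk1_normal_dichotomy hp hNn (by rw [htop]; exact le_top) with h1 | h1
    · exact h1
    · exact absurd (hcen ▸ h1 haN) hanc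
  have hAle : A ≤ N ⊔ B := by
    rcases rk1_normal_dichotomy (RankOnePair_symm hp) hNn' (by rw [sup_comm, htop]; exact le_top)
      with h1 | h1
    · exact h1
    · exact absurd (hcen' ▸ h1 haN) hanc
  have hBA : ∀ b ∈ B, ∃ a2 ∈ A, ∀ v : V, b • (p • v) = a2 • (p • v) := by
    intro b hb
    have hb' := hBle hb
    have := hNnormal
    rw [← SetLike.mem_coe, Subgroup.normal_mul] at hb'
    obtain ⟨n, hn, a2, ha2, rfl⟩ := Set.mem_mul.mp hb'
    refine ⟨a2, ha2, fun v => ?_⟩
    rw [mul_smul, smul_comm a2 p v, (hNmem n).mp hn]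
  have hAB : ∀ a2 ∈ A, ∃ b ∈ B, ∀ v : V, a2 • (p • v) = b • (p • v) := by
    intro a2 ha2
    have ha3 := hAle ha2
    have := hNnormal
    rw [← SetLike.mem_coe, Subgroup.normal_mul] at ha3
    obtain ⟨n, hn, b, hb, rfl⟩ := Set.mem_mul.mp ha3
    refine ⟨b, hb, fun v => ?_⟩
    rw [mul_smul, smul_comm b p v, (hNmem n).mp hn]
  have F1 : ∀ b ∈ B, ∀ a' ∈ A, ∀ v : V, b • (p • (a' • v - v)) = p • (a' • v - v) := by
    intro b hb a' ha' v
    obtain ⟨a2, ha2, h1⟩ := hBA b hb
    rw [h1, smul_comm a2 p, hq a' ha' a2 ha2]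
  have F1' : ∀ a2 ∈ A, ∀ b' ∈ B, ∀ v : V, a2 • (p • (b' • v - v)) = p • (b' • v - v) := by
    intro a2 ha2 b' hb' v
    obtain ⟨b, hb, h1⟩ := hAB a2 ha2
    rw [h1, smul_comm b p, hqB b' hb' b hb]
  intro a' ha'
  by_contra hc1
  have hcA : a' ^ p ∈ A := A.pow_mem ha' p
  -- γ
  have hcv : ∀ w : V, (a' ^ p) • w = w + p • (a' • w - w) := quad_pow (hq a' ha' a' ha') p
  have P1 : ∀ x : X, ∀ w : V, x • (p • (a' • w - w)) = p • (a' • w - w) := by
    intro x w
    have h1 : A ⊔ B ≤ MulAction.stabilizer X (p • (a' • w - w)) := by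
      apply sup_le
      · intro y hy
        rw [MulAction.mem_stabilizer_iff, smul_comm y p, hq a' ha' y hy]
      · intro y hy
        rw [MulAction.mem_stabilizer_iff]
        exact F1 y hy a' ha' w
    have : x ∈ A ⊔ B := by rw [htop]; exact Subgroup.mem_top x
    exact MulAction.mem_stabilizer_iff.mp (h1 this)
  have hcinv : ∀ w : V, (a' ^ p)⁻¹ • w = w - p • (a' • w - w) := by
    intro w
    have h1 : (a' ^ p) • (w - p • (a' • w - w)) = w := by
      rw [smul_sub, P1, hcv]; abel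
    have := congrArg (fun u => (a' ^ p)⁻¹ • u) h1
    simp only [inv_smul_smul] at this
    exact this.symm
  -- the commutators are central
  have hz : ∀ b' ∈ B, (a' ^ p)⁻¹ * b' * (a' ^ p) * b'⁻¹ ∈ Subgroup.center X := by
    intro b' hb'
    have hform : ∀ v : V, ((a' ^ p)⁻¹ * b' * (a' ^ p) * b'⁻¹) • v =
        v - (p • (a' • v - v) - p • (a' • (b'⁻¹ • v) - b'⁻¹ • v)) := by
      intro v
      rw [mul_smul, mul_smul, mul_smul, hcv, smul_add, smul_inv_smul, P1, smul_add, hcinv, hcinv, P1]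
      rw [sub_self, smul_zero, sub_zero]
      abel
    -- γ-term vanishes on the relevant elements
    obtain ⟨z, hzdef⟩ : ∃ z, z = (a' ^ p)⁻¹ * b' * (a' ^ p) * b'⁻¹ := ⟨_, rfl⟩
    rw [← hzdef] at hform ⊢
    have hb'inv : b'⁻¹ ∈ B := B.inv_mem hb'
    have hcomm : ∀ y : X, (y ∈ A ∨ y ∈ B) → ∀ v : V, (y * z) • v = (z * y) • v := by
      intro y hy v
      rw [mul_smul, mul_smul, hform, hform, smul_sub, smul_sub, P1, P1]
      have key : p • (a' • ((y • v - v) - b'⁻¹ • (y • v - v)) - ((y • v - v) - b'⁻¹ • (y • v - v))) = 0 := by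
        rcases hy with hy | hy
        · -- y ∈ A: use F1'
          have h1 := F1' a' ha' b'⁻¹ hb'inv (y • v - v)
          have h2 : (y • v - v) - b'⁻¹ • (y • v - v) = -(b'⁻¹ • (y • v - v) - (y • v - v)) := by abel
          rw [h2]
          generalize b'⁻¹ • (y • v - v) - (y • v - v) = w at h1 ⊢
          have h3 : p • (a' • w) = p • w := (smul_comm a' p w).symm.trans h1
          calc p • (a' • -w - -w) = -(p • (a' • w)) + p • w := by
                rw [smul_neg, sub_neg_eq_add, smul_add, smul_neg]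
            _ = 0 := by rw [h3]; abel
        · -- y ∈ B: quadratic
          rw [hqB y hy b'⁻¹ hb'inv v, sub_self, smul_zero, sub_self, smul_zero]
      simp only [smul_sub] at key ⊢
      rw [← sub_eq_zero, ← key]
      abel
    rw [← hcen, mem_centralizer_sup_iff]
    exact ⟨fun y hy => eq_of_smul_eq hf (hcomm y (Or.inl hy)),
      fun y hy => eq_of_smul_eq hf (hcomm y (Or.inr hy))⟩
  -- final contradiction
  obtain ⟨b', hb', hb1'⟩ := rk1_exists_ne_one (RankOnePair_symm hp)
  have hcinvA : (a' ^ p)⁻¹ ∈ A := A.inv_mem hcA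
  have hcinv1 : (a' ^ p)⁻¹ ≠ 1 := by simpa using hc1
  obtain ⟨b0, hb0, -, hb02⟩ := rk1_cond hp hcinvA hcinv1
  -- y = c⁻¹ b' c commutes with B
  have hy : ∀ b2 ∈ B, b2 * ((a' ^ p)⁻¹ * b' * (a' ^ p)) = ((a' ^ p)⁻¹ * b' * (a' ^ p)) * b2 := by
    intro b2 hb2
    have h1 := hz b' hb'
    rw [Subgroup.mem_center_iff] at h1
    have h2 : (a' ^ p)⁻¹ * b' * (a' ^ p) = ((a' ^ p)⁻¹ * b' * (a' ^ p) * b'⁻¹) * b' := by group
    rw [h2]
    generalize (a' ^ p)⁻¹ * b' * (a' ^ p) * b'⁻¹ = z at h1 ⊢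
    rw [← mul_assoc, h1 b2, mul_assoc, hBc b2 hb2 b' hb', mul_assoc]
  have hymem : (a' ^ p)⁻¹ * b' * (a' ^ p) ∈ conjBy A b0 := by
    rw [← hb02]
    have := conj_mem_conjBy (g := (a' ^ p)⁻¹) hb'
    simpa using this
  rw [mem_conjBy] at hymem
  have ha1mem : b0⁻¹ * ((a' ^ p)⁻¹ * b' * (a' ^ p)) * b0 ∈ A ⊓ Subgroup.normalizer (B : Set X) := by
    refine ⟨hymem, ?_⟩
    apply Subgroup.centralizer_le_normalizer
    rw [Subgroup.mem_centralizer_iff]
    intro b2 hb2
    have h1 := hy (b0 * b2 * b0⁻¹) (B.mul_mem (B.mul_mem hb0 hb2) (B.inv_mem hb0))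
    generalize (a' ^ p)⁻¹ * b' * (a' ^ p) = y at h1 ⊢
    calc b2 * (b0⁻¹ * y * b0) = b0⁻¹ * ((b0 * b2 * b0⁻¹) * y) * b0 := by group
      _ = b0⁻¹ * (y * (b0 * b2 * b0⁻¹)) * b0 := by rw [h1]
      _ = b0⁻¹ * y * b0 * b2 := by group
  rw [rk1_inf_normalizer hp, Subgroup.mem_bot] at ha1mem
  apply hb1'
  have h3 : (a' ^ p)⁻¹ * b' * (a' ^ p) = 1 := by
    have := congrArg (fun t => b0 * t * b0⁻¹) ha1mem
    simpa [mul_assoc] using this
  have := congrArg (fun t => (a' ^ p) * t * (a' ^ p)⁻¹) h3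
  simpa [mul_assoc] using this

end Quad

end Cfsg.Agent.Lib.Helper86
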