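import Mathlib
import Cfsg.Prelude.Def_RootSubgroups
import Cfsg.Agent.Lib.Helper86.RankOne
import Cfsg.Agent.S5019

set_option autoImplicit false

namespace Cfsg.Agent.Lib.Helper86

open Cfsg

variable {G : Type*} [Group G]

theorem conjBy_subgroupOf (A K : Subgroup G) (k : K) :
    conjBy (A.subgroupOf K) k = (conjBy A (k : G)).subgroupOf K := by
  ext x
  rw [mem_conjBy, Subgroup.mem_subgroupOf, Subgroup.mem_subgroupOf, mem_conjBy]
  simp

theorem subgroupOf_eq_iff {A B K : Subgroup G} (hA : A ≤ K) (hB : B ≤ K) :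
    A.subgroupOf K = B.subgroupOf K ↔ A = B := by
  rw [Subgroup.subgroupOf_inj, inf_of_le_left hA, inf_of_le_left hB]

theorem rk1_subgroupOf {A B K : Subgroup G} (h : IsRankOnePair A B) (hA : A ≤ K) (hB : B ≤ K) :
    IsRankOnePair (A.subgroupOf K) (B.subgroupOf K) := by
  have key : ∀ {A B : Subgroup G}, IsRankOnePair A B → A ≤ K → B ≤ K →
      RankOneCondition (A.subgroupOf K) (B.subgroupOf K) := by
    intro A B h hA hB a ha ha1
    rw [Subgroup.mem_subgroupOf] at ha
    have ha1' : (a : G) ≠ 1 := fun hh => ha1 (Subtype.ext hh)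
    obtain ⟨b, hb, hb1, hb2⟩ := h.cond_left (a : G) ha ha1'
    refine ⟨⟨b, hB hb⟩, by rw [Subgroup.mem_subgroupOf]; exact hb, ?_, ?_⟩
    · intro hh
      exact hb1 (congrArg Subtype.val hh)
    · rw [conjBy_subgroupOf, conjBy_subgroupOf]
      simp only [Subgroup.coe_inv]
      rw [hb2]
  refine ⟨?_, ?_, ?_, key h hA hB, key (RankOnePair_symm h) hB hA⟩
  · intro hh
    exact h.ne ((subgroupOf_eq_iff hA hB).mp hh)
  · have := h.nilpotent_left
    exact Group.nilpotent_of_mulEquiv (Subgroup.subgroupOfEquivOfLe hA).symm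
  · have := h.nilpotent_right
    exact Group.nilpotent_of_mulEquiv (Subgroup.subgroupOfEquivOfLe hB).symm

theorem special_of_subgroupOf {A B K : Subgroup G} (h : IsRankOnePair A B) (hA : A ≤ K) (hB : B ≤ K)
    (hs : IsSpecialRankOnePair (A.subgroupOf K) (B.subgroupOf K)) : IsSpecialRankOnePair A B := by
  refine ⟨h, ?_⟩
  intro a ha ha1 b hb hb1 hc
  have h1 := hs.2 ⟨a, hA ha⟩ (by rw [Subgroup.mem_subgroupOf]; exact ha)
    (fun hh => ha1 (congrArg Subtype.val hh)) ⟨b, hB hb⟩ (by rw [Subgroup.mem_subgroupOf]; exact hb)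
    (fun hh => hb1 (congrArg Subtype.val hh))
    (by
      rw [conjBy_subgroupOf, conjBy_subgroupOf]
      simp only [Subgroup.coe_inv]
      rw [hc])
  have h2 := congrArg Subtype.val h1
  simpa using h2

/-- the conjugation action of `K` on a subgroup `V` it normalizes -/
def conjAct' {K V : Subgroup G} (hn : K ≤ Subgroup.normalizer (V : Set G)) (k : K) (v : V) : V :=
  ⟨(k : G) * v * (k : G)⁻¹, (Subgroup.mem_normalizer_iff.mp (hn k.2) v).mp v.2⟩

theorem conjAct'_coe {K V : Subgroup G} (hn : K ≤ Subgroup.normalizer (V : Set G)) (k : K) (v : V) :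
    ((conjAct' hn k v : V) : G) = (k : G) * v * (k : G)⁻¹ := rfl

/-- A rank one pair with abelian unipotent subgroups acting by conjugation on an abelian subgroup
`V`, with `A` quadratic and `A ⊔ B` not quadratic, is special. -/
theorem special_of_conj_action {A B V : Subgroup G} (h : IsRankOnePair A B)
    (hab : HasAbelianUnipotents A B)
    (hVc : ∀ v ∈ V, ∀ w ∈ V, v * w = w * v)
    (hVn : A ⊔ B ≤ Subgroup.normalizer (V : Set G))
    (hq : ∀ a ∈ A, ∀ a' ∈ A, ∀ v ∈ V, a' * (a * v * a⁻¹ * v⁻¹) * a'⁻¹ = a * v * a⁻¹ * v⁻¹)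
    (hX : ∃ x ∈ A ⊔ B, ∃ y ∈ A ⊔ B, ∃ v ∈ V,
      y * (x * v * x⁻¹ * v⁻¹) * y⁻¹ ≠ x * v * x⁻¹ * v⁻¹) :
    IsSpecialRankOnePair A B := by
  let _ : CommGroup V :=
    { (inferInstance : Group V) with
      mul_comm := fun v w => Subtype.ext (hVc v v.2 w w.2) }
  let _ : DistribMulAction ↥(A ⊔ B) (Additive V) :=
    { smul := fun k n => Additive.ofMul (conjAct' hVn k (Additive.toMul n))
      one_smul := by
        intro n
        apply Additive.toMul.injective
        apply Subtype.ext
        change ((1 : ↥(A ⊔ B)) : G) * _ * ((1 : ↥(A ⊔ B)) : G)⁻¹ = _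
        simp
      mul_smul := by
        intro k k' n
        apply Additive.toMul.injective
        apply Subtype.ext
        change ((k * k' : ↥(A ⊔ B)) : G) * _ * ((k * k' : ↥(A ⊔ B)) : G)⁻¹ =
          (k : G) * ((k' : G) * _ * (k' : G)⁻¹) * (k : G)⁻¹
        simp only [Subgroup.coe_mul]
        group
      smul_zero := by
        intro k
        apply Additive.toMul.injective
        apply Subtype.ext
        change (k : G) * ((1 : V) : G) * (k : G)⁻¹ = ((1 : V) : G)
        simp
      smul_add := by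
        intro k n m
        apply Additive.toMul.injective
        apply Subtype.ext
        change (k : G) * ((Additive.toMul n * Additive.toMul m : V) : G) * (k : G)⁻¹ =
          ((k : G) * (Additive.toMul n : V) * (k : G)⁻¹) * ((k : G) * (Additive.toMul m : V) * (k : G)⁻¹)
        simp only [Subgroup.coe_mul]
        group }
  have hsmul : ∀ (k : ↥(A ⊔ B)) (n : Additive V),
      ((Additive.toMul (k • n) : V) : G) = (k : G) * (Additive.toMul n : V) * (k : G)⁻¹ :=
    fun k n => rfl
  have hsub : ∀ (n m : Additive V),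
      ((Additive.toMul (n - m) : V) : G) = ((Additive.toMul n : V) : G) * ((Additive.toMul m : V) : G)⁻¹ := by
    intro n m
    rw [toMul_sub, div_eq_mul_inv]
    simp
  have hs := Cfsg.Agent.S5019.result (X := ↥(A ⊔ B)) (A := A.subgroupOf (A ⊔ B))
    (B := B.subgroupOf (A ⊔ B)) (N := Additive V)
    ⟨by
      rw [← Subgroup.subgroupOf_sup le_sup_left le_sup_right, Subgroup.subgroupOf_self],
      rk1_subgroupOf h le_sup_left le_sup_right⟩
    ⟨by
      have := hab.1
      infer_instance, by
      have := hab.2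
      infer_instance⟩
    (by
      intro a ha a' ha' n
      rw [Subgroup.mem_subgroupOf] at ha ha'
      apply Additive.toMul.injective
      apply Subtype.ext
      rw [hsmul, hsub, hsmul]
      exact hq _ ha _ ha' _ (Additive.toMul n : V).2)
    (by
      obtain ⟨x, hx, y, hy, v, hv, hne⟩ := hX
      refine ⟨⟨x, hx⟩, ⟨y, hy⟩, Additive.ofMul ⟨v, hv⟩, ?_⟩
      intro hh
      apply hne
      have h1 := congrArg (fun t => ((Additive.toMul t : V) : G)) hh
      simp only [hsmul, hsub] at h1
      exact h1)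
  exact special_of_subgroupOf h le_sup_left le_sup_right hs

end Cfsg.Agent.Lib.Helper86
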