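import Mathlib
import Cfsg.Prelude.Def_RootSubgroups
import Cfsg.Agent.Lib.Helper86.Lines2
import Cfsg.Agent.Lib.Helper86.SpecialTransfer

set_option autoImplicit false

namespace Cfsg.Agent.Lib.Helper86

open Cfsg
open scoped commutatorElement

variable {G : Type*} [Group G] {S : Set (Subgroup G)}

theorem conjBy_commutator (P Q : Subgroup G) (g : G) :
    ⁅conjBy P g, conjBy Q g⁆ = conjBy ⁅P, Q⁆ g :=
  (Subgroup.map_commutator P Q _).symm

theorem le_normalizer_of_conjBy_le {A V : Subgroup G} (h : ∀ a ∈ A, conjBy V a ≤ V) :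
    A ≤ Subgroup.normalizer (V : Set G) := by
  intro a ha
  rw [mem_normalizer_iff_conjBy]
  apply le_antisymm (h a ha)
  have := h a⁻¹ (A.inv_mem ha)
  rw [conjBy_le_iff, inv_inv] at this
  exact this

theorem linePartners_symm {A B : Subgroup G} (hA : A ∈ S) (hB : B ∈ linePartners S A) :
    A ∈ linePartners S B := by
  obtain ⟨⟨-, hBA, hcomm⟩, hpart⟩ := hB
  refine ⟨⟨hA, hBA.symm, ?_⟩, ?_⟩
  · rw [Subgroup.commutator_comm]; exact hcomm
  · rw [sup_comm]; exact hpart

/-- in a class, if one member has a partner then all have -/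
theorem all_partners_of_class (hS : IsRootSubgroupSet S) (hconj : IsConjClassOfSubgroups S)
    {A B : Subgroup G} (hA : A ∈ S) (hB : B ∈ S) (hAB : IsRankOnePair A B) :
    ∀ A₁ ∈ S, ∃ D ∈ S, IsRankOnePair A₁ D := by
  intro A₁ hA₁
  obtain ⟨g, rfl⟩ := hconj.2 A hA A₁ hA₁
  exact ⟨conjBy B g, hS.conj_mem B hB g, rk1_conj hAB g⟩

theorem not_isolated_of_partner' {A D : Subgroup G}
    (hA : A ∈ S) (hD : D ∈ S) (h : IsRankOnePair A D) : ¬ IsIsolatedIn (FAdj S) S A :=
  fun hi => (hi.2 D).1 ⟨hA, hD, h⟩

/-- in a non-degenerate class every member with a partner has a line partner -/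
theorem exists_linePartner (hS : IsRootSubgroupSet S) (hconj : IsConjClassOfSubgroups S)
    (hnd : IsNondegenerateRootSet S) {A B : Subgroup G} (hA : A ∈ S) (hB : B ∈ S)
    (hAB : IsRankOnePair A B) : ∃ C, C ∈ linePartners S A := by
  obtain ⟨P, hP, Q, hQ, hPQ⟩ := hnd.2.2
  obtain ⟨g, rfl⟩ := hconj.2 P hP A hA
  have hQ' : conjBy Q g ∈ S := hS.conj_mem Q hQ g
  have hC : ⁅conjBy P g, conjBy Q g⁆ ∈ S := by
    rw [conjBy_commutator]
    exact hS.conj_mem _ hPQ.1 g
  have := (Cfsg.Agent.S5029.result hS (not_isolated_of_partner' hA hB hAB) hA hQ' hC).2.2.1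
  exact ⟨_, linePartners_symm hC this⟩

/-- The point of `line_structure` is a line partner of `A` and the pair `(A, A')` is special. -/
theorem line_structure_special (hS : IsRootSubgroupSet S) {A A' E : Subgroup G} (hA : A ∈ S)
    (hA' : A' ∈ S) (hAA' : IsRankOnePair A A') (hE : E ∈ S) (hEA : E ≠ A)
    (h1 : RootCommutatorCase S A' E) (h2 : RootCommutatorCase S A ⁅A', E⁆)
    (h3 : ⁅A, ⁅A', E⁆⁆ = E) :
    E ∈ linePartners S A ∧ IsSpecialRankOnePair A A' := by
  have hAc := hS.commutative A hA
  have hA'c := hS.commutative A' hA'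
  have hEc := hS.commutative E hE
  have hFc := hS.commutative _ h1.1
  have hAE : ∀ a ∈ A, ∀ e ∈ E, a * e = e * a := by
    intro a ha e he
    rw [← h3] at he
    exact commcase_comm_left h2 a ha e he
  have hA'F : ∀ b ∈ A', ∀ f ∈ ⁅A', E⁆, b * f = f * b := commcase_comm_left h1
  have hEF : ∀ e ∈ E, ∀ f ∈ ⁅A', E⁆, e * f = f * e := commcase_comm_right h1
  constructor
  · refine ⟨⟨hE, hEA, ?_⟩, ?_⟩
    · rw [commutator_eq_bot_iff_comm]; exact hAE
    · have hp := Cfsg.Agent.S5029.partition hS hA hA' hAA' h2
      rw [h3] at hp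
      exact hp
  · apply special_of_conj_action (V := E ⊔ ⁅A', E⁆) hAA' ⟨hAc, hA'c⟩
    · -- abelian
      intro v hv w hw
      obtain ⟨e, he, f, hf, rfl⟩ := (mem_sup_of_commute hEF).mp hv
      obtain ⟨e', he', f', hf', rfl⟩ := (mem_sup_of_commute hEF).mp hw
      have c1 := comm_of_isMulCommutative hEc he he'
      have c2 := comm_of_isMulCommutative hFc hf hf'
      have c3 := hEF e' he' f hf
      have c4 := hEF e he f' hf'
      calc e * f * (e' * f') = e * (f * e') * f' := by group
        _ = e * (e' * f) * f' := by rw [c3]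
        _ = (e * e') * (f * f') := by group
        _ = (e' * e) * (f' * f) := by rw [c1, c2]
        _ = e' * (e * f') * f := by group
        _ = e' * (f' * e) * f := by rw [c4]
        _ = _ := by group
    · -- normalized
      apply sup_le
      · apply le_normalizer_of_conjBy_le
        intro a ha
        rw [conjBy_sup]
        apply sup_le
        · rw [conjBy_eq_of_commute fun x hx => (hAE a ha x hx).symm]
          exact le_sup_left
        · have := commcase_conj_le ⁅A', E⁆ A ha
          rw [Subgroup.commutator_comm ⁅A', E⁆ A, h3, sup_comm] at this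
          exact this
      · apply le_normalizer_of_conjBy_le
        intro b hb
        rw [conjBy_sup]
        apply sup_le
        · have := commcase_conj_le E A' hb
          rw [Subgroup.commutator_comm E A'] at this
          exact this
        · rw [conjBy_eq_of_commute fun x hx => (hA'F b hb x hx).symm]
          exact le_sup_right
    · -- A quadratic
      intro a ha a' ha' v hv
      have hmem : a * v * a⁻¹ * v⁻¹ ∈ E := by
        refine comm_mem_sup (K := E) (P := E) (Q := ⁅A', E⁆) Subgroup.le_normalizer ?_ ?_ ?_ v hv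
        · intro f hf
          apply Subgroup.centralizer_le_normalizer
          rw [Subgroup.mem_centralizer_iff]
          intro e he
          exact hEF e he f hf
        · intro p hp
          have : a * p * a⁻¹ * p⁻¹ = 1 := by rw [hAE a ha p hp]; group
          rw [this]; exact E.one_mem
        · intro q hq
          have := Subgroup.commutator_mem_commutator ha hq
          rw [h3, commutatorElement_def] at this
          exact this
      have := hAE a' ha' _ hmem
      rw [this]; group
    · -- not quadratic
      obtain ⟨a, ha, ha1⟩ := rk1_exists_ne_one hAA'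
      obtain ⟨b, hb, hb1⟩ := rk1_exists_ne_one (RankOnePair_symm hAA')
      obtain ⟨e, he, he1⟩ := exists_ne_one_of_ne_bot (hS.ne_bot E hE)
      refine ⟨b, Subgroup.mem_sup_right hb, a, Subgroup.mem_sup_left ha, e,
        Subgroup.mem_sup_left he, ?_⟩
      have hf : b * e * b⁻¹ * e⁻¹ ∈ ⁅A', E⁆ := by
        have := Subgroup.commutator_mem_commutator hb he
        rwa [commutatorElement_def] at this
      have hf1 : b * e * b⁻¹ * e⁻¹ ≠ 1 := by
        intro hh
        apply commcase_no_commute hS hA' hA (RankOnePair_symm hAA') h1 hb hb1 he he1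
        have := congrArg (fun t => t * e * b) hh
        simpa [mul_assoc] using this
      intro hh
      apply commcase_no_commute hS hA hA' hAA' h2 ha ha1 hf hf1
      have := congrArg (fun t => t * a) hh
      simpa [mul_assoc] using this

end Cfsg.Agent.Lib.Helper86
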