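import Mathlib
import Cfsg.Prelude.Def_RootSubgroups
import Cfsg.Agent.Lib.Helper86.Lines3

set_option autoImplicit false

namespace Cfsg.Agent.Lib.Helper86

open Cfsg
open scoped commutatorElement

variable {G : Type*} [Group G] {S : Set (Subgroup G)}

theorem reach_conj_gen {adj : Subgroup G → Subgroup G → Prop}
    (hca : ∀ A B g, adj A B → adj (conjBy A g) (conjBy B g)) {A B : Subgroup G}
    (h : Relation.ReflTransGen adj A B) (g : G) :
    Relation.ReflTransGen adj (conjBy A g) (conjBy B g) := by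
  induction h with
  | refl => exact Relation.ReflTransGen.refl
  | tail _ hbc ih => exact ih.tail (hca _ _ g hbc)

theorem reach_symm_gen {adj : Subgroup G → Subgroup G → Prop}
    (hsymm : ∀ A B, adj A B → adj B A) {A B : Subgroup G}
    (h : Relation.ReflTransGen adj A B) : Relation.ReflTransGen adj B A := by
  induction h with
  | refl => exact Relation.ReflTransGen.refl
  | tail _ hbc ih => exact Relation.ReflTransGen.head (hsymm _ _ hbc) ih

/-- A symmetric conjugation invariant relation on a class of root subgroups which joins (by paths)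
any two non-commuting members is connected. -/
theorem orbit_connect (hS : IsRootSubgroupSet S) (hconj : IsConjClassOfSubgroups S)
    (adj : Subgroup G → Subgroup G → Prop) (hsymm : ∀ A B, adj A B → adj B A)
    (hca : ∀ A B g, adj A B → adj (conjBy A g) (conjBy B g))
    (hnc : ∀ A ∈ S, ∀ B ∈ S, ⁅A, B⁆ ≠ ⊥ → Relation.ReflTransGen adj A B) :
    ∀ A ∈ S, ∀ B ∈ S, Relation.ReflTransGen adj A B := by
  intro A hA B hB
  have hstep : ∀ E ∈ S, ∀ e ∈ E, ∀ D ∈ S, Relation.ReflTransGen adj A D →
      Relation.ReflTransGen adj A (conjBy D e) := by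
    intro E hE e he D hD hAD
    by_cases hAE : Relation.ReflTransGen adj A E
    · have h1 : Relation.ReflTransGen adj E D := (reach_symm_gen hsymm hAE).trans hAD
      have h2 := reach_conj_gen hca h1 e
      rw [conjBy_self_mem he] at h2
      exact hAE.trans h2
    · have h1 : ⁅E, D⁆ = ⊥ := by
        by_contra hne
        exact hAE (hAD.trans (reach_symm_gen hsymm (hnc E hE D hD hne)))
      rw [commutator_eq_bot_iff_comm] at h1
      rw [conjBy_eq_of_commute fun x hx => (h1 e he x hx).symm]
      exact hAD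
  let T : Subgroup G :=
    { carrier := {g | (∀ D ∈ S, Relation.ReflTransGen adj A D →
          Relation.ReflTransGen adj A (conjBy D g)) ∧
          (∀ D ∈ S, Relation.ReflTransGen adj A D → Relation.ReflTransGen adj A (conjBy D g⁻¹))}
      one_mem' := by
        constructor
        · intro D _ h; rw [conjBy_one]; exact h
        · intro D _ h; rw [inv_one, conjBy_one]; exact h
      mul_mem' := by
        rintro g h ⟨hg1, hg2⟩ ⟨hh1, hh2⟩
        constructor
        · intro D hD hr
          rw [← conjBy_conjBy]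
          exact hg1 _ (hS.conj_mem D hD h) (hh1 D hD hr)
        · intro D hD hr
          rw [mul_inv_rev, ← conjBy_conjBy]
          exact hh2 _ (hS.conj_mem D hD g⁻¹) (hg2 D hD hr)
      inv_mem' := by
        rintro g ⟨hg1, hg2⟩
        refine ⟨hg2, ?_⟩
        intro D hD hr
        rw [inv_inv]
        exact hg1 D hD hr }
  have hT : ∀ E ∈ S, E ≤ T := by
    intro E hE e he
    exact ⟨fun D hD hr => hstep E hE e he D hD hr,
      fun D hD hr => hstep E hE e⁻¹ (E.inv_mem he) D hD hr⟩
  have htop : T = ⊤ := by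
    rw [eq_top_iff, ← hS.generates]
    exact iSup₂_le hT
  obtain ⟨g, rfl⟩ := hconj.2 A hA B hB
  have hg : g ∈ T := by rw [htop]; exact Subgroup.mem_top g
  exact hg.1 A hA Relation.ReflTransGen.refl

theorem partition_conj {N : Subgroup G} {T : Set (Subgroup G)} (h : IsSubgroupPartition N T)
    (g : G) : IsSubgroupPartition (conjBy N g) ((fun C => conjBy C g) '' T) := by
  obtain ⟨h1, h2, h3⟩ := h
  refine ⟨?_, ?_, ?_⟩
  · rintro _ ⟨C, hC, rfl⟩
    exact conjBy_mono (h1 C hC) g
  · intro x hx hx1
    rw [mem_conjBy] at hx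
    have hx1' : g⁻¹ * x * g ≠ 1 := by
      intro hh
      apply hx1
      have := congrArg (fun t => g * t * g⁻¹) hh
      simpa [mul_assoc] using this
    obtain ⟨C, hC, hxC⟩ := h2 _ hx hx1'
    exact ⟨conjBy C g, ⟨C, hC, rfl⟩, mem_conjBy.mpr hxC⟩
  · rintro _ ⟨C, hC, rfl⟩ _ ⟨D, hD, rfl⟩ hne
    have hCD : C ≠ D := by
      rintro rfl
      exact hne rfl
    have h4 := h3 C hC D hD hCD
    rw [eq_bot_iff]
    intro x hx
    rw [Subgroup.mem_inf, mem_conjBy, mem_conjBy] at hx
    have : g⁻¹ * x * g ∈ C ⊓ D := hx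
    rw [h4, Subgroup.mem_bot] at this
    rw [Subgroup.mem_bot]
    have := congrArg (fun t => g * t * g⁻¹) this
    simpa [mul_assoc] using this

theorem membersIn_conj (hS : IsRootSubgroupSet S) (N : Subgroup G) (g : G) :
    membersIn S (conjBy N g) = (fun C => conjBy C g) '' membersIn S N := by
  ext C
  constructor
  · rintro ⟨hC, hCN⟩
    refine ⟨conjBy C g⁻¹, ⟨hS.conj_mem C hC g⁻¹, ?_⟩, ?_⟩
    · rw [conjBy_le_iff, inv_inv]; exact hCN
    · change conjBy (conjBy C g⁻¹) g = C
      rw [conjBy_conjBy]; simp [conjBy_one]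
  · rintro ⟨C, ⟨hC, hCN⟩, rfl⟩
    exact ⟨hS.conj_mem C hC g, conjBy_mono hCN g⟩

theorem linePartners_conj (hS : IsRootSubgroupSet S) {A B : Subgroup G}
    (hB : B ∈ linePartners S A) (g : G) : conjBy B g ∈ linePartners S (conjBy A g) := by
  obtain ⟨⟨hBS, hBA, hcomm⟩, hpart⟩ := hB
  refine ⟨⟨hS.conj_mem B hBS g, ?_, ?_⟩, ?_⟩
  · intro h
    exact hBA (conjBy_inj.mp h)
  · rw [conjBy_commutator, hcomm, conjBy_bot]
  · rw [← conjBy_sup, membersIn_conj hS]
    exact partition_conj hpart g

end Cfsg.Agent.Lib.Helper86
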