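import Mathlib
import Cfsg.Agent.Lib.Helper06.SimpleAux

set_option autoImplicit false

/-!
# K-G42 leaf L8b (S2553): Jordan for a 5-cycle in degree 8:
a primitive `G ≤ A_8` of order divisible by 5 is `A_8`.
-/

namespace Cfsg.Agent.Lib.Helper86.G42

open MulAction Equiv.Perm Equiv

/-- a primitive group of degree 8 of order divisible by 5 is 4-fold transitive (Jordan) -/
theorem g42_four_trans (G : Subgroup (Equiv.Perm (Fin 8)))
    (hprim : MulAction.IsPreprimitive ↥G (Fin 8)) (h5 : 5 ∣ Nat.card ↥G) :
    MulAction.IsMultiplyPretransitive ↥G (Fin 8) 4 := by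
  classical
  have : Fact (Nat.Prime 5) := ⟨by norm_num⟩
  obtain ⟨x, hx⟩ := exists_prime_orderOf_dvd_card' 5 h5
  set g : Equiv.Perm (Fin 8) := (x : Equiv.Perm (Fin 8)) with hg
  have hgo : orderOf g = 5 := by rw [hg, Subgroup.orderOf_coe, hx]
  have hgG : g ∈ G := x.2
  have hgc : g.IsCycle :=
    Equiv.Perm.isCycle_of_prime_order' (by rw [hgo]; norm_num) (by rw [hgo]; simp)
  have hsupp : g.support.card = 5 := by rw [← hgc.orderOf, hgo]
  suffices IsMultiplyPreprimitive G (Fin 8) (2 + 2) from
    IsMultiplyPreprimitive.isMultiplyPretransitive ..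
  apply hprim.isMultiplyPreprimitive (s := (g.supportᶜ : Set (Fin 8)))
  · apply Nat.add_left_cancel
    rw [Set.ncard_add_ncard_compl, Set.ncard_coe_finset, hsupp]
    simp
  · simp
  have := isPretransitive_of_isCycle_mem hgc hgG
  apply IsPreprimitive.of_prime_card
  convert Nat.prime_five
  rw [Nat.card_eq_fintype_card, Fintype.card_subtype, ← hsupp]
  apply congr_arg
  ext x
  simp [SubMulAction.mem_ofFixingSubgroup_iff]

theorem jordan5 (G : Subgroup (Equiv.Perm (Fin 8))) (hGA : G ≤ alternatingGroup (Fin 8))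
    (hprim : MulAction.IsPreprimitive ↥G (Fin 8)) (h5 : 5 ∣ Nat.card ↥G) :
    G = alternatingGroup (Fin 8) := by
  classical
  have hT : MulAction.IsMultiplyPretransitive ↥G (Fin 8) 4 := g42_four_trans G hprim h5
  have hT2 : MulAction.IsMultiplyPretransitive ↥G (Fin 8) 2 :=
    MulAction.isMultiplyPretransitive_of_le (n := 4) (by norm_num) (by simp)
  have e4 : (8 - 4).factorial = 24 := by decide
  have e2 : (8 - 2).factorial = 720 := by decide
  have e8 : (8).factorial = 40320 := by decide
  have e7 : (7).factorial = 5040 := by decide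
  -- index of 4-point and 2-point fixing subgroups
  have hidx4 : ∀ s : Set (Fin 8), s.ncard = 4 → (fixingSubgroup ↥G s).index = 1680 := by
    intro s hs
    have h := hT.index_of_fixingSubgroup_mul hs
    rw [Nat.card_eq_fintype_card, Fintype.card_fin, e4, e8] at h
    omega
  have hidx2 : ∀ s : Set (Fin 8), s.ncard = 2 → (fixingSubgroup ↥G s).index = 56 := by
    intro s hs
    have h := hT2.index_of_fixingSubgroup_mul hs
    rw [Nat.card_eq_fintype_card, Fintype.card_fin, e2, e8] at h
    omega
  have hcardA : Nat.card (alternatingGroup (Fin 8)) = 20160 := by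
    rw [nat_card_alternatingGroup, Nat.card_eq_fintype_card, Fintype.card_fin, e8]
  by_contra hne
  set G' : Subgroup (alternatingGroup (Fin 8)) := G.subgroupOf (alternatingGroup (Fin 8)) with hG'
  have hG'top : G' ≠ ⊤ := by
    intro h
    rw [hG', Subgroup.subgroupOf_eq_top] at h
    exact hne (le_antisymm hGA h)
  have : IsSimpleGroup (alternatingGroup (Fin 8)) := alternatingGroup.isSimpleGroup (by simp)
  have hle := Cfsg.Agent.Lib.Helper06.card_le_factorial_index G' hG'top
  rw [hcardA] at hle
  have hcardG' : Nat.card G' = Nat.card G :=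
    Nat.card_congr (Subgroup.subgroupOfEquivOfLe hGA).toEquiv
  have hmul : G'.index * Nat.card G = 20160 := by
    rw [← hcardG', Subgroup.index_mul_card, hcardA]
  have hidx8 : 8 ≤ G'.index := by
    by_contra hlt
    push Not at hlt
    have h1 : (G'.index).factorial ≤ (7).factorial := Nat.factorial_le (by omega)
    omega
  -- a 4-set
  have hs0 : (((Finset.univ : Finset (Fin 8)).filter (fun i => i.val < 4) : Finset (Fin 8)) :
      Set (Fin 8)).ncard = 4 := by
    rw [Set.ncard_coe_finset]
    decide
  have hG1680 := Subgroup.index_mul_card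
    (fixingSubgroup ↥G (((Finset.univ : Finset (Fin 8)).filter (fun i => i.val < 4) :
      Finset (Fin 8)) : Set (Fin 8)))
  rw [hidx4 _ hs0] at hG1680
  have hG : Nat.card G = 1680 := by
    set c := Nat.card (fixingSubgroup ↥G (((Finset.univ : Finset (Fin 8)).filter
      (fun i => i.val < 4) : Finset (Fin 8)) : Set (Fin 8))) with hc
    rw [← hG1680] at hmul
    have h12 : G'.index * c = 12 := by nlinarith
    have hc1 : c = 1 := by
      rcases Nat.lt_or_ge c 2 with h | h
      · interval_cases c
        · omega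
        · rfl
      · nlinarith
    rw [← hG1680, hc1]
  -- the fixing subgroup of two points has order 30
  have hs2 : (((Finset.univ : Finset (Fin 8)).filter (fun i => i.val < 2) : Finset (Fin 8)) :
      Set (Fin 8)).ncard = 2 := by
    rw [Set.ncard_coe_finset]
    decide
  set K := fixingSubgroup ↥G (((Finset.univ : Finset (Fin 8)).filter (fun i => i.val < 2) :
      Finset (Fin 8)) : Set (Fin 8)) with hKdef
  have hK : Nat.card K = 30 := by
    have h := Subgroup.index_mul_card K
    rw [hidx2 _ hs2, hG] at h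
    omega
  have : Fact (Nat.Prime 2) := ⟨Nat.prime_two⟩
  obtain ⟨t, ht⟩ := exists_prime_orderOf_dvd_card' 2 (by rw [hK]; norm_num : 2 ∣ Nat.card K)
  set τ : Equiv.Perm (Fin 8) := ((t : ↥G) : Equiv.Perm (Fin 8)) with hτ
  have hτo : orderOf τ = 2 := by
    rw [hτ, Subgroup.orderOf_coe, Subgroup.orderOf_coe, ht]
  have htK : ∀ y ∈ (((Finset.univ : Finset (Fin 8)).filter (fun i => i.val < 2) :
      Finset (Fin 8)) : Set (Fin 8)), (t : ↥G) • y = y :=
    (mem_fixingSubgroup_iff _).1 t.2
  have hτ0 : τ 0 = 0 := htK 0 (by simp)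
  have hτ1 : τ 1 = 1 := htK 1 (by simp)
  have hτA : Equiv.Perm.sign τ = 1 := Equiv.Perm.mem_alternatingGroup.1 (hGA (t : ↥G).2)
  obtain ⟨n, hn⟩ := Equiv.Perm.cycleType_prime_order (σ := τ) (by rw [hτo]; exact Nat.prime_two)
  rw [hτo] at hn
  have hsum : τ.support.card = 2 * (n + 1) := by
    rw [← Equiv.Perm.sum_cycleType, hn, Multiset.sum_replicate, smul_eq_mul, mul_comm]
  have hsign := Equiv.Perm.sign_of_cycleType τ
  rw [hn, Multiset.sum_replicate, Multiset.card_replicate, hτA, smul_eq_mul] at hsign
  have heven : Even (n + 1) := by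
    by_contra hodd
    rw [Nat.not_even_iff_odd] at hodd
    have hodd' : Odd ((n + 1) * 2 + (n + 1)) := by
      obtain ⟨k, hk⟩ := hodd
      exact ⟨3 * k + 1, by omega⟩
    rw [hodd'.neg_one_pow] at hsign
    exact absurd hsign (by decide)
  have hle6 : τ.support.card ≤ 6 := by
    have hsub : τ.support ⊆ (Finset.univ : Finset (Fin 8)).filter (fun i => 2 ≤ i.val) := by
      intro x hx
      rw [Equiv.Perm.mem_support] at hx
      rw [Finset.mem_filter]
      refine ⟨Finset.mem_univ _, ?_⟩
      by_contra hlt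
      push Not at hlt
      have hx01 : x = 0 ∨ x = 1 := by
        rcases Nat.lt_or_ge x.val 1 with h | h
        · left; exact Fin.ext (by simp only [Fin.val_zero]; omega)
        · right; exact Fin.ext (by simp only [Fin.val_one]; omega)
      rcases hx01 with rfl | rfl
      · exact hx hτ0
      · exact hx hτ1
    calc τ.support.card ≤ ((Finset.univ : Finset (Fin 8)).filter (fun i => 2 ≤ i.val)).card :=
          Finset.card_le_card hsub
      _ = 6 := by decide
  have hn1 : n + 1 = 2 := by
    obtain ⟨k, hk⟩ := heven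
    omega
  have hsupp4 : τ.support.card = 4 := by omega
  have hs : ((τ.support : Set (Fin 8))ᶜ).ncard = 4 := by
    apply Nat.add_left_cancel
    rw [Set.ncard_add_ncard_compl, Set.ncard_coe_finset, hsupp4]
    simp
  have hcard1 : Nat.card (fixingSubgroup ↥G ((τ.support : Set (Fin 8))ᶜ)) = 1 := by
    have h := Subgroup.index_mul_card (fixingSubgroup ↥G ((τ.support : Set (Fin 8))ᶜ))
    rw [hidx4 _ hs, hG] at h
    omega
  have htmem : (t : ↥G) ∈ fixingSubgroup ↥G ((τ.support : Set (Fin 8))ᶜ) := by
    rw [mem_fixingSubgroup_iff]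
    intro y hy
    simp only [Set.mem_compl_iff, Finset.mem_coe, Equiv.Perm.mem_support, not_not] at hy
    exact hy
  rw [Subgroup.card_eq_one] at hcard1
  rw [hcard1, Subgroup.mem_bot] at htmem
  have h2 : orderOf (t : ↥G) = 2 := by rw [Subgroup.orderOf_coe]; exact ht
  rw [htmem, orderOf_one] at h2
  omega

end Cfsg.Agent.Lib.Helper86.G42
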