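import Mathlib

/-!
# K-GS K3 `card_eq_sq_of_quaternion_action` (S4840)

The eigenspace trick: a finite commutative group `V` of exponent `3` with automorphisms `i`, `j`,
`i² = j² = -1`, `i j = - j i`, has `|V| = |U|²` for `U = {v | i v * j v = v}`.
-/

set_option autoImplicit false

namespace Cfsg.Agent.Lib.Helper86.GS

universe u

variable {V : Type u} [CommGroup V] [Finite V]

/-- K3 (MEDIUM-HARD, pure): the eigenspace trick. -/
theorem card_eq_sq_of_quaternion_action (hV3 : ∀ v : V, v ^ 3 = 1) (i j : MulAut V)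
    (hi : ∀ v : V, i (i v) = v⁻¹) (hj : ∀ v : V, j (j v) = v⁻¹)
    (hij : ∀ v : V, i (j v) = (j (i v))⁻¹)
    (U : Subgroup V) (hU : ∀ v : V, v ∈ U ↔ i v * j v = v) :
    Nat.card V = Nat.card U * Nat.card U := by
  have h3 : ∀ v : V, v⁻¹ * v⁻¹ = v := by
    intro v
    have h := hV3 v
    rw [pow_three'] at h
    calc v⁻¹ * v⁻¹ = v⁻¹ * v⁻¹ * (v * v * v) := by rw [h, mul_one]
      _ = v := by group
  have hji : ∀ v : V, j (i v) = (i (j v))⁻¹ := fun v => by rw [hij v, inv_inv]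
  have hjij : ∀ v : V, j (i (j v)) = i v := by
    intro v
    rw [hij v, map_inv, hj, inv_inv]
  have hiji : ∀ v : V, i (j (i v)) = j v := by
    intro v
    rw [hji v, map_inv, hi, inv_inv]
  obtain ⟨s, hs⟩ : ∃ s : V → V, ∀ v, s v = i v * j v := ⟨fun v => i v * j v, fun v => rfl⟩
  obtain ⟨k, hk⟩ : ∃ k : V → V, ∀ v, k v = i (j v) := ⟨fun v => i (j v), fun v => rfl⟩
  have hs_mul : ∀ v w, s (v * w) = s v * s w := by
    intro v w
    rw [hs, hs, hs, map_mul, map_mul]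
    exact mul_mul_mul_comm _ _ _ _
  have hs_inv : ∀ v, s v⁻¹ = (s v)⁻¹ := by
    intro v
    rw [hs, hs, map_inv, map_inv, mul_inv]
  have hss : ∀ v, s (s v) = v := by
    intro v
    rw [hs (s v), hs v, map_mul, map_mul, hi, hj, hij v]
    calc v⁻¹ * (j (i v))⁻¹ * (j (i v) * v⁻¹) = v⁻¹ * v⁻¹ := by group
      _ = v := h3 v
  have hk_mul : ∀ v w, k (v * w) = k v * k w := by
    intro v w
    rw [hk, hk, hk, map_mul, map_mul]
  have hk_inv : ∀ v, k v⁻¹ = (k v)⁻¹ := by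
    intro v
    rw [hk, hk, map_inv, map_inv]
  have hkk : ∀ v, k (k v) = v⁻¹ := by
    intro v
    rw [hk (k v), hk v, hjij, hi]
  have hsk : ∀ v, s (k v) = (k (s v))⁻¹ := by
    intro v
    have h1 : s (k v) = (j v)⁻¹ * i v := by
      rw [hs (k v), hk v, hi, hjij]
    have h2 : k (s v) = j v * (i v)⁻¹ := by
      rw [hk (s v), hs v, map_mul, map_mul, hiji, hj, map_inv]
    rw [h1, h2, mul_inv, inv_inv]
  have hk_inj : Function.Injective k := by
    intro v w h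
    rw [hk, hk] at h
    exact j.injective (i.injective h)
  have hU' : ∀ v, v ∈ U ↔ s v = v := by
    intro v
    rw [hU, hs]
  have hkU : ∀ u ∈ U, s (k u) = (k u)⁻¹ := by
    intro u hu
    rw [hsk, (hU' u).mp hu]
  have hkU' : ∀ w, s w = w⁻¹ → k w ∈ U := by
    intro w hw
    rw [hU', hsk, hw, hk_inv, inv_inv]
  have hconj : ∀ x y : V, x * y * x⁻¹ = y := by
    intro x y
    rw [mul_comm x y, mul_assoc, mul_inv_cancel, mul_one]
  let f : U × U → V := fun x => (x.1 : V) * k (x.2 : V)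
  have hf : Function.Bijective f := by
    constructor
    · rintro ⟨a₁, b₁⟩ ⟨a₂, b₂⟩ h
      have h' : (a₁ : V) * k (b₁ : V) = (a₂ : V) * k (b₂ : V) := h
      have hdU : (a₁ : V) * (a₂ : V)⁻¹ ∈ U := U.mul_mem a₁.2 (U.inv_mem a₂.2)
      have hd2 : (a₁ : V) * (a₂ : V)⁻¹ = k ((b₂ : V) * (b₁ : V)⁻¹) := by
        rw [hk_mul, hk_inv]
        calc (a₁ : V) * (a₂ : V)⁻¹
            = ((a₁ : V) * k (b₁ : V)) * (k (b₁ : V))⁻¹ * (a₂ : V)⁻¹ := by group
          _ = ((a₂ : V) * k (b₂ : V)) * (k (b₁ : V))⁻¹ * (a₂ : V)⁻¹ := by rw [h']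
          _ = (a₂ : V) * (k (b₂ : V) * (k (b₁ : V))⁻¹) * (a₂ : V)⁻¹ := by group
          _ = k (b₂ : V) * (k (b₁ : V))⁻¹ := hconj _ _
      have hbU : (b₂ : V) * (b₁ : V)⁻¹ ∈ U := U.mul_mem b₂.2 (U.inv_mem b₁.2)
      have hsd : s ((a₁ : V) * (a₂ : V)⁻¹) = ((a₁ : V) * (a₂ : V)⁻¹)⁻¹ := by
        rw [hd2]
        exact hkU _ hbU
      have hsd' : s ((a₁ : V) * (a₂ : V)⁻¹) = (a₁ : V) * (a₂ : V)⁻¹ := (hU' _).mp hdU
      have hd1 : (a₁ : V) * (a₂ : V)⁻¹ = 1 := by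
        have hself : (a₁ : V) * (a₂ : V)⁻¹ = ((a₁ : V) * (a₂ : V)⁻¹)⁻¹ := hsd'.symm.trans hsd
        have h2 := h3 ((a₁ : V) * (a₂ : V)⁻¹)
        rw [← hself] at h2
        exact mul_left_cancel (a := (a₁ : V) * (a₂ : V)⁻¹) (by rw [h2, mul_one])
      have ha : (a₁ : V) = a₂ := mul_inv_eq_one.mp hd1
      have hb : (b₁ : V) = b₂ := by
        apply hk_inj
        rw [ha] at h'
        exact mul_left_cancel h'
      exact Prod.ext (Subtype.ext ha) (Subtype.ext hb)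
    · intro v
      have haU : (v * s v)⁻¹ ∈ U := by
        rw [hU', hs_inv, hs_mul, hss, mul_comm]
      have hb's : s (v⁻¹ * s v) = (v⁻¹ * s v)⁻¹ := by
        rw [hs_mul, hs_inv, hss, mul_inv, inv_inv]
        exact mul_comm _ _
      have hbU : k (v⁻¹ * s v)⁻¹ ∈ U := by
        apply hkU'
        rw [hs_inv, hb's]
      refine ⟨(⟨(v * s v)⁻¹, haU⟩, ⟨k (v⁻¹ * s v)⁻¹, hbU⟩), ?_⟩
      show (v * s v)⁻¹ * k (k (v⁻¹ * s v)⁻¹) = v
      rw [hkk, inv_inv, mul_inv, mul_mul_mul_comm, inv_mul_cancel, mul_one]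
      exact h3 v
  have hcard := Nat.card_congr (Equiv.ofBijective f hf)
  rw [Nat.card_prod] at hcard
  exact hcard.symm

end Cfsg.Agent.Lib.Helper86.GS
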