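import Mathlib

/-!
# K-GAG G04a `comm_of_conj` (S4839)

A normal `p`-subgroup whose nonidentity elements form one `G`-class is abelian.
-/

set_option autoImplicit false

namespace Cfsg.Agent.Lib.Helper86.Gag

variable {G : Type*} [Group G] [Finite G]

/-- G04a (MEDIUM): `N` is abelian. -/
theorem comm_of_conj {p : ℕ} [Fact p.Prime] (N : Subgroup G) [N.Normal] (hNp : IsPGroup p N)
    (hconj : ∀ x ∈ N, ∀ y ∈ N, x ≠ 1 → y ≠ 1 → IsConj x y) :
    ∀ a ∈ N, ∀ b ∈ N, a * b = b * a := by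
  intro a ha b hb
  by_cases ha1 : a = 1
  · rw [ha1, one_mul, mul_one]
  have hnt : Nontrivial N := ⟨⟨⟨a, ha⟩, 1, fun h => ha1 (congrArg Subtype.val h)⟩⟩
  have hc : Nontrivial (Subgroup.center N) := hNp.center_nontrivial
  obtain ⟨z, hz⟩ := exists_ne (1 : Subgroup.center N)
  have hz1 : ((z : N) : G) ≠ 1 := by
    intro h
    apply hz
    apply Subtype.ext
    apply Subtype.ext
    simpa using h
  -- `z` commutes with every element of `N`
  have hzc : ∀ c ∈ N, c * ((z : N) : G) = ((z : N) : G) * c := by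
    intro c hc'
    have h := Subgroup.mem_center_iff.mp z.2 ⟨c, hc'⟩
    exact congrArg Subtype.val h
  obtain ⟨g, hg⟩ := isConj_iff.mp (hconj ((z : N) : G) (z : N).2 a ha hz1 ha1)
  have hmem : g⁻¹ * b * g ∈ N := by
    have := ‹N.Normal›.conj_mem b hb g⁻¹
    simpa using this
  have h1 := hzc _ hmem
  rw [← hg]
  calc g * ((z : N) : G) * g⁻¹ * b = g * (((z : N) : G) * (g⁻¹ * b * g)) * g⁻¹ := by group
    _ = g * ((g⁻¹ * b * g) * ((z : N) : G)) * g⁻¹ := by rw [h1]
    _ = b * (g * ((z : N) : G) * g⁻¹) := by group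

end Cfsg.Agent.Lib.Helper86.Gag
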