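import Mathlib

/-!
# K-GAG G06 `split_kill` (S4839)

A split extension `G = N L` over a nontrivial normal `p`-subgroup `N` with the Camina property
(`x ~ x n` for `x ∉ N`, `n ∈ N`) has `p ∤ [G : N]`.
-/

set_option autoImplicit false

namespace Cfsg.Agent.Lib.Helper86.Gag

variable {G : Type*} [Group G] [Finite G]

/-- An element `u` of `p`-power order has a nontrivial fixed point on a nontrivial normal
`p`-subgroup. -/
theorem gag06_exists_fixed {p : ℕ} [Fact p.Prime] (N : Subgroup G) [N.Normal]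
    (hNp : IsPGroup p N) (hN1 : N ≠ ⊥) (u : G) (hu : u ^ p = 1) :
    ∃ n ∈ N, n ≠ 1 ∧ u * n = n * u := by
  have hp : p.Prime := Fact.out
  have hdvd : p ∣ Nat.card N := by
    rcases hNp.card_eq_or_dvd with h1 | h1
    · exact absurd (Subgroup.card_eq_one.mp h1) hN1
    · exact h1
  set U : Subgroup (ConjAct G) := Subgroup.zpowers (ConjAct.toConjAct u) with hU
  have hUp : IsPGroup p U := by
    intro x
    refine ⟨1, ?_⟩
    obtain ⟨x, hx⟩ := x
    obtain ⟨k, rfl⟩ := Subgroup.mem_zpowers_iff.mp hx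
    apply Subtype.ext
    simp only [pow_one, Subgroup.coe_pow, Subgroup.coe_one]
    rw [← zpow_natCast, ← zpow_mul, mul_comm, zpow_mul, zpow_natCast, ← map_pow, hu, map_one,
      one_zpow]
  have h1 : (1 : N) ∈ MulAction.fixedPoints U N := by
    intro g
    exact smul_one g
  obtain ⟨b, hb, hb1⟩ :=
    hUp.exists_fixed_point_of_prime_dvd_card_of_fixed_point N hdvd h1
  refine ⟨b, b.2, fun h => hb1 (Subtype.ext h.symm), ?_⟩
  have := hb ⟨ConjAct.toConjAct u, Subgroup.mem_zpowers _⟩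
  have h2 := congrArg Subtype.val this
  rw [Subgroup.smul_def] at h2
  rw [ConjAct.Subgroup.val_conj_smul, ConjAct.toConjAct_smul] at h2
  calc u * (b : G) = (u * b * u⁻¹) * u := by group
    _ = b * u := by rw [h2]

/-- G06 (MEDIUM-HARD): a split extension `G = N L` with the Camina property has `p ∤ [G:N]`. -/
theorem split_kill {p : ℕ} [Fact p.Prime] (N : Subgroup G) [N.Normal]
    (hNp : IsPGroup p N) (hN1 : N ≠ ⊥)
    (hcam : ∀ x : G, x ∉ N → ∀ n ∈ N, IsConj x (x * n))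
    (L : Subgroup G) (hLN : L ⊓ N = ⊥) (hNL : ∀ g : G, ∃ n ∈ N, ∃ l ∈ L, g = n * l) :
    ¬ p ∣ N.index := by
  intro hdvd
  have hp : p.Prime := Fact.out
  have hcard : p ∣ Nat.card (G ⧸ N) := by
    rwa [← Subgroup.index_eq_card]
  obtain ⟨ub, hub⟩ := exists_prime_orderOf_dvd_card' p hcard
  obtain ⟨g, rfl⟩ := QuotientGroup.mk_surjective ub
  obtain ⟨n, hn, u, hu, rfl⟩ := hNL g
  have hmk : ((n * u : G) : G ⧸ N) = (u : G ⧸ N) := by
    rw [QuotientGroup.eq]
    have : (n * u)⁻¹ * u = u⁻¹ * n⁻¹ * u := by group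
    rw [this]
    have := ‹N.Normal›.conj_mem n⁻¹ (N.inv_mem hn) u⁻¹
    simpa using this
  rw [hmk] at hub
  -- `u ∉ N`
  have huN : u ∉ N := by
    intro h
    have : (u : G ⧸ N) = 1 := (QuotientGroup.eq_one_iff u).mpr h
    rw [this, orderOf_one] at hub
    exact hp.one_lt.ne hub
  -- `u ^ p = 1`
  have hup : u ^ p = 1 := by
    have h1 : ((u ^ p : G) : G ⧸ N) = 1 := by
      rw [QuotientGroup.mk_pow, ← hub, pow_orderOf_eq_one]
    have h2 : u ^ p ∈ N := (QuotientGroup.eq_one_iff _).mp h1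
    have h3 : u ^ p ∈ L ⊓ N := ⟨L.pow_mem hu p, h2⟩
    rw [hLN] at h3
    exact Subgroup.mem_bot.mp h3
  obtain ⟨n0, hn0, hn01, hcomm⟩ := gag06_exists_fixed N hNp hN1 u hup
  -- the map `φ : N → N`, `m ↦ u⁻¹ m u m⁻¹`
  let φ : N → N := fun m =>
    ⟨u⁻¹ * (m : G) * u * (m : G)⁻¹,
      N.mul_mem (by simpa using ‹N.Normal›.conj_mem (m : G) m.2 u⁻¹) (N.inv_mem m.2)⟩
  have hsurj : Function.Surjective φ := by
    intro y
    obtain ⟨c, hc⟩ := isConj_iff.mp (hcam u huN (y : G) y.2)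
    obtain ⟨m, hm, l, hl, rfl⟩ := hNL c
    -- `l u l⁻¹ = u`
    have hlu : l * u * l⁻¹ = u := by
      have hmem : u⁻¹ * (l * u * l⁻¹) ∈ N := by
        have e : u⁻¹ * (l * u * l⁻¹) = (y : G) * ((u * y)⁻¹ * m⁻¹ * (u * y)) * m := by
          have : l * u * l⁻¹ = m⁻¹ * (u * y) * m := by
            rw [← hc]; group
          rw [this]; group
        rw [e]
        refine N.mul_mem (N.mul_mem y.2 ?_) hm
        have := ‹N.Normal›.conj_mem m⁻¹ (N.inv_mem hm) (u * y)⁻¹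
        simpa using this
      have hmemL : u⁻¹ * (l * u * l⁻¹) ∈ L :=
        L.mul_mem (L.inv_mem hu) (L.mul_mem (L.mul_mem hl hu) (L.inv_mem hl))
      have h3 : u⁻¹ * (l * u * l⁻¹) ∈ L ⊓ N := ⟨hmemL, hmem⟩
      rw [hLN] at h3
      have h4 := Subgroup.mem_bot.mp h3
      calc l * u * l⁻¹ = u * (u⁻¹ * (l * u * l⁻¹)) := by group
        _ = u := by rw [h4, mul_one]
    have hmu : m * u * m⁻¹ = u * y := by
      calc m * u * m⁻¹ = m * (l * u * l⁻¹) * m⁻¹ := by rw [hlu]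
        _ = m * l * u * (m * l)⁻¹ := by group
        _ = u * y := hc
    refine ⟨⟨m, hm⟩, ?_⟩
    apply Subtype.ext
    show u⁻¹ * m * u * m⁻¹ = (y : G)
    calc u⁻¹ * m * u * m⁻¹ = u⁻¹ * (m * u * m⁻¹) := by group
      _ = y := by rw [hmu]; group
  have hinj : Function.Injective φ := Finite.injective_iff_surjective.mpr hsurj
  have h1 : φ ⟨n0, hn0⟩ = φ 1 := by
    apply Subtype.ext
    show u⁻¹ * n0 * u * n0⁻¹ = u⁻¹ * ((1 : N) : G) * u * ((1 : N) : G)⁻¹
    rw [Subgroup.coe_one]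
    calc u⁻¹ * n0 * u * n0⁻¹ = u⁻¹ * (n0 * u) * n0⁻¹ := by group
      _ = u⁻¹ * (u * n0) * n0⁻¹ := by rw [hcomm]
      _ = u⁻¹ * 1 * u * 1⁻¹ := by group
  have h2 := hinj h1
  exact hn01 (congrArg Subtype.val h2)

end Cfsg.Agent.Lib.Helper86.Gag
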