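import Mathlib

/-!
# K-GAG G12a `centralizer_eq_of_hall` (S4839)

If the abelian normal `p`-subgroup `N` is a Sylow `p`-subgroup and the centralizers of its
nonidentity elements are `p`-groups, then `C_G(x) = N` for `x ∈ N#`.
-/

set_option autoImplicit false

namespace Cfsg.Agent.Lib.Helper86.Gag

variable {G : Type*} [Group G] [Finite G]

/-- G12a (MEDIUM): if `N` is a Sylow `p`-subgroup then `C_G(x) = N` for `x ∈ N#`. -/
theorem centralizer_eq_of_hall {p : ℕ} [Fact p.Prime] (N : Subgroup G) [N.Normal]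
    (hNp : IsPGroup p N)
    (hcomm : ∀ a ∈ N, ∀ b ∈ N, a * b = b * a)
    (hcp : ∀ x ∈ N, x ≠ 1 → IsPGroup p (Subgroup.centralizer ({x} : Set G)))
    (hhall : ¬ p ∣ N.index) (x : G) (hx : x ∈ N) (hx1 : x ≠ 1) :
    Subgroup.centralizer ({x} : Set G) = N := by
  have hp : p.Prime := Fact.out
  have hle : N ≤ Subgroup.centralizer ({x} : Set G) := by
    intro n hn
    rw [Subgroup.mem_centralizer_iff]
    intro y hy
    rw [Set.mem_singleton_iff] at hy
    subst hy
    exact hcomm y hx n hn
  refine le_antisymm ?_ hle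
  -- `[C : N]` is a `p`-power dividing `[G : N]`
  have hC := hcp x hx hx1
  obtain ⟨k, hk⟩ := IsPGroup.iff_card.mp hC
  have h1 : N.relIndex (Subgroup.centralizer ({x} : Set G)) ∣ p ^ k := by
    rw [← hk]
    exact Subgroup.relIndex_dvd_card _ _
  have h2 : N.relIndex (Subgroup.centralizer ({x} : Set G)) ∣ N.index :=
    Subgroup.relIndex_dvd_index_of_normal N _
  obtain ⟨j, _, hj⟩ := (Nat.dvd_prime_pow hp).mp h1
  have hj0 : j = 0 := by
    by_contra h
    apply hhall
    refine dvd_trans ?_ h2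
    rw [hj]
    exact dvd_pow_self p h
  rw [hj0, pow_zero] at hj
  exact Subgroup.relIndex_eq_one.mp hj

end Cfsg.Agent.Lib.Helper86.Gag
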