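import Mathlib
import Cfsg.Prelude.Def_RootSubgroups
import Cfsg.Agent.Lib.Helper86.RankOne
import Cfsg.Agent.Lib.Helper86.RootSets

/-!
Special rank one groups: partners `b(a)`, braid relation, Weyl elements `a b(a)⁻¹ a`,
uniqueness in the big cell, the Hua identity `n(a a') = n(a) n(ā)⁻¹ n(a')`,
and `b(a^k)^k = b(a)`.
-/

set_option autoImplicit false

namespace Cfsg.Agent.Lib.Helper86

open Cfsg

variable {G : Type*} [Group G] {A B : Subgroup G}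

/-- `Ptn A B a b`: `a ∈ A#`, `b ∈ B#` and `b = b(a)`, that is `b⁻¹ A b = a⁻¹ B a`. -/
def Ptn (A B : Subgroup G) (a b : G) : Prop :=
  a ∈ A ∧ a ≠ 1 ∧ b ∈ B ∧ b ≠ 1 ∧ conjBy A b⁻¹ = conjBy B a⁻¹

theorem ptn_exists_left (h : IsRankOnePair A B) {a : G} (ha : a ∈ A) (ha1 : a ≠ 1) :
    ∃ b, Ptn A B a b := by
  obtain ⟨b, hb, hb1, hb2⟩ := h.cond_left a ha ha1
  exact ⟨b, ha, ha1, hb, hb1, hb2⟩

theorem ptn_exists_right (h : IsRankOnePair A B) {b : G} (hb : b ∈ B) (hb1 : b ≠ 1) :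
    ∃ a, Ptn A B a b := by
  obtain ⟨a, ha, ha1, ha2⟩ := h.cond_right b hb hb1
  exact ⟨a, ha, ha1, hb, hb1, ha2.symm⟩

theorem ptn_unique_right (h : IsRankOnePair A B) {a b b' : G} (h1 : Ptn A B a b)
    (h2 : Ptn A B a b') : b = b' :=
  rk1_partner_unique h h1.2.2.1 h2.2.2.1 h1.2.2.2.2 h2.2.2.2.2

theorem ptn_unique_left (h : IsRankOnePair A B) {a a' b : G} (h1 : Ptn A B a b)
    (h2 : Ptn A B a' b) : a = a' :=
  rk1_partner_unique' h h1.1 h2.1 h1.2.2.2.2 h2.2.2.2.2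

theorem ptn_swap {a b : G} (h1 : Ptn A B a b) : Ptn B A b a :=
  ⟨h1.2.2.1, h1.2.2.2.1, h1.1, h1.2.1, h1.2.2.2.2.symm⟩

/-- Distinct conjugates of `A` in a rank one group intersect trivially. -/
theorem rk1_TI (h : IsRankOnePair A B) {C D : Subgroup G} (hC : C ∈ unipotentSubgroups A B)
    (hD : D ∈ unipotentSubgroups A B) {x : G} (hxC : x ∈ C) (hxD : x ∈ D) (hx1 : x ≠ 1) :
    C = D := by
  by_contra hne
  obtain ⟨g, -, rfl, rfl⟩ := rk1_two_transitive_aux h hC hD hne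
  rw [mem_conjBy] at hxC hxD
  have h3 : g⁻¹ * x * g ∈ A ⊓ Subgroup.normalizer (B : Set G) :=
    ⟨hxC, Subgroup.le_normalizer hxD⟩
  rw [rk1_inf_normalizer h, Subgroup.mem_bot] at h3
  apply hx1
  have h2 := congrArg (fun y => g * y * g⁻¹) h3
  simpa [mul_assoc] using h2

theorem ptn_special (hs : IsSpecialRankOnePair A B) {a b : G} (h1 : Ptn A B a b) :
    b⁻¹ * a * b = a⁻¹ * b⁻¹ * a :=
  hs.2 a h1.1 h1.2.1 b h1.2.2.1 h1.2.2.2.1 h1.2.2.2.2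

/-- The braid relation. -/
theorem ptn_braid (hs : IsSpecialRankOnePair A B) {a b : G} (h1 : Ptn A B a b) :
    a * b⁻¹ * a = b⁻¹ * a * b⁻¹ := by
  have e := ptn_special hs h1
  calc a * b⁻¹ * a = a * (b⁻¹ * a * b) * b⁻¹ := by group
    _ = a * (a⁻¹ * b⁻¹ * a) * b⁻¹ := by rw [e]
    _ = b⁻¹ * a * b⁻¹ := by group

theorem ptn_braid_inv (hs : IsSpecialRankOnePair A B) {a b : G} (h1 : Ptn A B a b) :
    a⁻¹ * b * a⁻¹ = b * a⁻¹ * b := by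
  have := congrArg (fun x => x⁻¹) (ptn_braid hs h1)
  simpa [mul_assoc] using this

/-- `b(a⁻¹) = b(a)⁻¹`. -/
theorem ptn_inv (hs : IsSpecialRankOnePair A B) {a b : G} (h1 : Ptn A B a b) :
    Ptn A B a⁻¹ b⁻¹ := by
  have h := hs.1
  have hinv := ptn_braid_inv hs h1
  obtain ⟨ha, ha1, hb, hb1, he⟩ := h1
  refine ⟨A.inv_mem ha, by simpa using ha1, B.inv_mem hb, by simpa using hb1, ?_⟩
  rw [inv_inv, inv_inv]
  have hC : conjBy A b ∈ unipotentSubgroups A B := ⟨b, Subgroup.mem_sup_right hb, rfl⟩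
  have hD : conjBy B a ∈ unipotentSubgroups A B :=
    unipotent_conjBy_mem (rk1_B_mem_unipotent h) (Subgroup.mem_sup_left ha)
  have hx : b * a⁻¹ * b⁻¹ ∈ conjBy A b := conj_mem_conjBy (A.inv_mem ha)
  have hx' : b * a⁻¹ * b⁻¹ ∈ conjBy B a := by
    have e : b * a⁻¹ * b⁻¹ = a * b * a⁻¹ := by
      calc b * a⁻¹ * b⁻¹ = a * (a⁻¹ * b * a⁻¹) * b⁻¹ := by group
        _ = a * (b * a⁻¹ * b) * b⁻¹ := by rw [hinv]
        _ = a * b * a⁻¹ := by group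
    rw [e]; exact conj_mem_conjBy hb
  refine rk1_TI h hC hD hx hx' ?_
  intro h0
  rw [conj_eq_one_iff, inv_eq_one] at h0
  exact ha1 h0

/-- The Weyl element `n(a) = a b(a)⁻¹ a`. -/
def wEl (a b : G) : G := a * b⁻¹ * a

theorem wEl_eq (hs : IsSpecialRankOnePair A B) {a b : G} (h1 : Ptn A B a b) :
    wEl a b = b⁻¹ * a * b⁻¹ := ptn_braid hs h1

theorem wEl_inv_eq (a b : G) : (wEl a b)⁻¹ = wEl a⁻¹ b⁻¹ := by unfold wEl; group

theorem wEl_conj_a (hs : IsSpecialRankOnePair A B) {a b : G} (h1 : Ptn A B a b) :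
    wEl a b * a * (wEl a b)⁻¹ = b⁻¹ := by
  have hbr := ptn_braid hs h1
  unfold wEl
  calc (a * b⁻¹ * a) * a * (a * b⁻¹ * a)⁻¹ = (a * b⁻¹ * a) * b * a⁻¹ := by group
    _ = (b⁻¹ * a * b⁻¹) * b * a⁻¹ := by rw [hbr]
    _ = b⁻¹ := by group

theorem wEl_conj_a' (hs : IsSpecialRankOnePair A B) {a b : G} (h1 : Ptn A B a b) :
    (wEl a b)⁻¹ * a * wEl a b = b⁻¹ := by
  have hbr := ptn_braid hs h1
  unfold wEl
  calc (a * b⁻¹ * a)⁻¹ * a * (a * b⁻¹ * a) = a⁻¹ * b * (a * b⁻¹ * a) := by group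
    _ = a⁻¹ * b * (b⁻¹ * a * b⁻¹) := by rw [hbr]
    _ = b⁻¹ := by group

theorem wEl_conj_b (hs : IsSpecialRankOnePair A B) {a b : G} (h1 : Ptn A B a b) :
    wEl a b * b⁻¹ * (wEl a b)⁻¹ = a := by
  have hbr := ptn_braid hs h1
  rw [wEl_eq hs h1]
  calc (b⁻¹ * a * b⁻¹) * b⁻¹ * (b⁻¹ * a * b⁻¹)⁻¹ = (b⁻¹ * a * b⁻¹) * a⁻¹ * b := by group
    _ = (a * b⁻¹ * a) * a⁻¹ * b := by rw [hbr]
    _ = a := by group

theorem wEl_conj_b' (hs : IsSpecialRankOnePair A B) {a b : G} (h1 : Ptn A B a b) :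
    (wEl a b)⁻¹ * b⁻¹ * wEl a b = a := by
  have hbr := ptn_braid hs h1
  rw [wEl_eq hs h1]
  calc (b⁻¹ * a * b⁻¹)⁻¹ * b⁻¹ * (b⁻¹ * a * b⁻¹) = b * a⁻¹ * (b⁻¹ * a * b⁻¹) := by group
    _ = b * a⁻¹ * (a * b⁻¹ * a) := by rw [hbr]
    _ = a := by group

/-- `n` interchanges `A` and `B`. -/
def Swaps (A B : Subgroup G) (n : G) : Prop := conjBy A n = B ∧ conjBy B n = A

theorem swaps_inv {n : G} (hn : Swaps A B n) : Swaps A B n⁻¹ := by
  constructor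
  · rw [conjBy_eq_iff, inv_inv]; exact hn.2.symm
  · rw [conjBy_eq_iff, inv_inv]; exact hn.1.symm

theorem swaps_mul3 {n₁ n₂ n₃ : G} (h1 : Swaps A B n₁) (h2 : Swaps A B n₂) (h3 : Swaps A B n₃) :
    Swaps A B (n₁ * n₂ * n₃) := by
  constructor
  · rw [← conjBy_conjBy, h3.1, ← conjBy_conjBy, h2.2, h1.1]
  · rw [← conjBy_conjBy, h3.2, ← conjBy_conjBy, h2.1, h1.2]

theorem wEl_conjBy_A (hs : IsSpecialRankOnePair A B) {a b : G} (h1 : Ptn A B a b) :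
    conjBy A (wEl a b) = B := by
  rw [wEl_eq hs h1, ← conjBy_conjBy, h1.2.2.2.2, conjBy_conjBy, mul_inv_cancel_right]
  exact conjBy_self_mem (B.inv_mem h1.2.2.1)

theorem wEl_swaps (hs : IsSpecialRankOnePair A B) {a b : G} (h1 : Ptn A B a b) :
    Swaps A B (wEl a b) := by
  refine ⟨wEl_conjBy_A hs h1, ?_⟩
  have h2 := wEl_conjBy_A hs (ptn_inv hs h1)
  rw [← wEl_inv_eq, conjBy_eq_iff, inv_inv] at h2
  exact h2.symm

/-- Uniqueness of the decomposition `b₁ n b₂` in the big cell. -/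
theorem bruhat_unique (h : IsRankOnePair A B) {b₁ b₂ b₃ b₄ n₁ n₂ : G} (hb₁ : b₁ ∈ B)
    (hb₂ : b₂ ∈ B) (hb₃ : b₃ ∈ B) (hb₄ : b₄ ∈ B) (hn₁ : Swaps A B n₁) (hn₂ : Swaps A B n₂)
    (he : b₁ * n₁ * b₂ = b₃ * n₂ * b₄) : b₁ = b₃ ∧ n₁ = n₂ ∧ b₂ = b₄ := by
  have hn₂' := swaps_inv hn₂
  have ha₀ : n₂⁻¹ * (b₃⁻¹ * b₁) * n₂ ∈ A := by
    have h3 : n₂⁻¹ * (b₃⁻¹ * b₁) * n₂⁻¹⁻¹ ∈ conjBy B n₂⁻¹ :=
      conj_mem_conjBy (B.mul_mem (B.inv_mem hb₃) hb₁)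
    rw [inv_inv, hn₂'.2] at h3
    exact h3
  have hNB : n₂⁻¹ * n₁ ∈ Subgroup.normalizer (B : Set G) := by
    rw [mem_normalizer_iff_conjBy, ← conjBy_conjBy, hn₁.2, hn₂'.1]
  have hNA : n₂⁻¹ * n₁ ∈ Subgroup.normalizer (A : Set G) := by
    rw [mem_normalizer_iff_conjBy, ← conjBy_conjBy, hn₁.1, hn₂'.2]
  have e1 : n₂⁻¹ * (b₃⁻¹ * b₁) * n₂ = b₄ * b₂⁻¹ * (n₂⁻¹ * n₁)⁻¹ := by
    have e0 : b₁ = b₃ * n₂ * b₄ * b₂⁻¹ * n₁⁻¹ := by rw [← he]; group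
    calc n₂⁻¹ * (b₃⁻¹ * b₁) * n₂ = n₂⁻¹ * (b₃⁻¹ * (b₃ * n₂ * b₄ * b₂⁻¹ * n₁⁻¹)) * n₂ := by
          rw [← e0]
      _ = b₄ * b₂⁻¹ * (n₂⁻¹ * n₁)⁻¹ := by group
  have h5 : n₂⁻¹ * (b₃⁻¹ * b₁) * n₂ ∈ A ⊓ Subgroup.normalizer (B : Set G) := by
    refine ⟨ha₀, ?_⟩
    rw [e1]
    exact Subgroup.mul_mem _ (Subgroup.le_normalizer (B.mul_mem hb₄ (B.inv_mem hb₂)))
      (Subgroup.inv_mem _ hNB)
  rw [rk1_inf_normalizer h, Subgroup.mem_bot] at h5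
  have h6 : b₃⁻¹ * b₁ = 1 := by
    have := congrArg (fun y => n₂ * y * n₂⁻¹) h5
    simpa [mul_assoc] using this
  have hb13 : b₁ = b₃ := by
    have := congrArg (fun y => b₃ * y) h6
    simpa using this
  subst hb13
  have e2 : n₂⁻¹ * n₁ = b₄ * b₂⁻¹ := by
    have e0 : n₁ = n₂ * b₄ * b₂⁻¹ := by
      have : b₁⁻¹ * (b₁ * n₁ * b₂) * b₂⁻¹ = b₁⁻¹ * (b₁ * n₂ * b₄) * b₂⁻¹ := by rw [he]
      simpa [mul_assoc] using this
    rw [e0]; group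
  have h7 : n₂⁻¹ * n₁ ∈ B ⊓ Subgroup.normalizer (A : Set G) := by
    refine ⟨?_, hNA⟩
    rw [e2]; exact B.mul_mem hb₄ (B.inv_mem hb₂)
  rw [rk1_inf_normalizer' h, Subgroup.mem_bot] at h7
  have hn12 : n₁ = n₂ := by
    have := congrArg (fun y => n₂ * y) h7
    simpa using this
  subst hn12
  refine ⟨rfl, rfl, ?_⟩
  have : (b₁ * n₁)⁻¹ * (b₁ * n₁ * b₂) = (b₁ * n₁)⁻¹ * (b₁ * n₁ * b₄) := by rw [he]
  simpa [mul_assoc] using this

/-- The Hua identity. -/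
theorem hua (hs : IsSpecialRankOnePair A B) {a a' x b b' c : G} (h1 : Ptn A B a b)
    (h2 : Ptn A B a' b') (h3 : Ptn A B x (b * b')) (h4 : Ptn A B (a * a') c) :
    c = (wEl a' b')⁻¹ * x * wEl a' b' * b' ∧
      wEl (a * a') c = wEl a b * (wEl x (b * b'))⁻¹ * wEl a' b' := by
  have h := hs.1
  obtain ⟨n, hn⟩ : ∃ n, n = wEl a b := ⟨_, rfl⟩
  obtain ⟨n', hn'⟩ : ∃ n, n = wEl a' b' := ⟨_, rfl⟩
  obtain ⟨nb, hnb⟩ : ∃ n, n = wEl x (b * b') := ⟨_, rfl⟩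
  obtain ⟨n'', hn''⟩ : ∃ n, n = wEl (a * a') c := ⟨_, rfl⟩
  rw [← hn, ← hn', ← hnb, ← hn'']
  have e1 : b * n * b = a := by rw [hn, wEl_eq hs h1]; group
  have e2 : b' * n' * b' = a' := by rw [hn', wEl_eq hs h2]; group
  have e3 : x * nb⁻¹ * x = b * b' := by rw [hnb]; unfold wEl; group
  have e4 : c * n'' * c = a * a' := by rw [hn'', wEl_eq hs h4]; group
  have key : c * n'' * c =
      (b * (n * x * n⁻¹)) * (n * nb⁻¹ * n') * ((n'⁻¹ * x * n') * b') := by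
    rw [e4]
    calc a * a' = (b * n * b) * (b' * n' * b') := by rw [e1, e2]
      _ = b * n * (b * b') * n' * b' := by group
      _ = b * n * (x * nb⁻¹ * x) * n' * b' := by rw [e3]
      _ = _ := by group
  have sn : Swaps A B n := hn ▸ wEl_swaps hs h1
  have sn' : Swaps A B n' := hn' ▸ wEl_swaps hs h2
  have snb : Swaps A B nb := hnb ▸ wEl_swaps hs h3
  have sn'' : Swaps A B n'' := hn'' ▸ wEl_swaps hs h4
  have m1 : n * x * n⁻¹ ∈ B := by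
    have := conj_mem_conjBy (g := n) h3.1
    rwa [sn.1] at this
  have m2 : n'⁻¹ * x * n' ∈ B := by
    have := conj_mem_conjBy (g := n'⁻¹) h3.1
    rwa [inv_inv, (swaps_inv sn').1] at this
  obtain ⟨-, k2, k3⟩ := bruhat_unique h h4.2.2.1 h4.2.2.1 (B.mul_mem h1.2.2.1 m1)
    (B.mul_mem m2 h2.2.2.1) sn'' (swaps_mul3 sn (swaps_inv snb) sn') key
  exact ⟨k3, k2⟩

theorem conj_pow_inv (g x : G) (m : ℕ) : g⁻¹ * x ^ m * g = (g⁻¹ * x * g) ^ m := by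
  have := conj_pow (a := g⁻¹) (b := x) (i := m)
  rw [inv_inv] at this
  exact this.symm

/-- `a^k = 1 ↔ b(a)^k = 1`. -/
theorem ptn_pow_eq_one_iff (hs : IsSpecialRankOnePair A B) {a b : G} (h1 : Ptn A B a b) (k : ℕ) :
    a ^ k = 1 ↔ b ^ k = 1 := by
  have e := ptn_special hs h1
  have e2 : b⁻¹ * a ^ k * b = a⁻¹ * (b⁻¹) ^ k * a := by
    rw [conj_pow_inv, e, ← conj_pow_inv]
  constructor
  · intro h0
    rw [h0] at e2
    have h3 : (b⁻¹) ^ k = 1 := by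
      have := congrArg (fun y => a * y * a⁻¹) e2
      simp only [mul_one, inv_mul_cancel] at this
      have h4 : a * (a⁻¹ * b⁻¹ ^ k * a) * a⁻¹ = b⁻¹ ^ k := by group
      rw [h4] at this
      simpa using this.symm
    rwa [inv_pow, inv_eq_one] at h3
  · intro h0
    rw [inv_pow, h0] at e2
    have := congrArg (fun y => b * y * b⁻¹) e2
    have h4 : b * (b⁻¹ * a ^ k * b) * b⁻¹ = a ^ k := by group
    simp only [h4] at this
    rw [this]; group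

/-- `b(a^k)^k = b(a)` as long as `a, a², …, a^k` are non-trivial. -/
theorem pow_partner_aux (hs : IsSpecialRankOnePair A B) (hB : IsMulCommutative B) {a b : G}
    (h1 : Ptn A B a b) :
    ∀ k : ℕ, 1 ≤ k → (∀ j, 1 ≤ j → j ≤ k → a ^ j ≠ 1) → ∀ c, Ptn A B (a ^ k) c → c ^ k = b := by
  intro k hk
  induction k, hk using Nat.le_induction with
  | base =>
    intro _ c hc
    rw [pow_one] at hc ⊢
    exact ptn_unique_right hs.1 hc h1
  | succ k hk ih =>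
    intro hj c hc
    have hak : a ^ k ≠ 1 := hj k hk (Nat.le_succ k)
    obtain ⟨bk, hbk⟩ := ptn_exists_left hs.1 (A.pow_mem h1.1 k) hak
    have hbkk : bk ^ k = b := ih (fun j h1j hjk => hj j h1j (Nat.le_succ_of_le hjk)) bk hbk
    have hne : b * bk ≠ 1 := by
      intro h0
      have h5 : bk = b⁻¹ := by
        rw [eq_comm, inv_eq_iff_mul_eq_one]; exact h0
      have h6 : Ptn A B a⁻¹ bk := h5 ▸ ptn_inv hs h1
      have h7 : a ^ k = a⁻¹ := ptn_unique_left hs.1 hbk h6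
      apply hj (k + 1) (by omega) le_rfl
      rw [pow_succ, h7, inv_mul_cancel]
    obtain ⟨x, hx⟩ := ptn_exists_right hs.1 (B.mul_mem h1.2.2.1 hbk.2.2.1) hne
    have hc' : Ptn A B (a * a ^ k) c := by rwa [← pow_succ']
    obtain ⟨hua1, hua2⟩ := hua hs h1 hbk hx hc'
    have e1 := wEl_conj_a' hs hc'
    rw [hua2] at e1
    obtain ⟨n, hn⟩ : ∃ n, n = wEl a b := ⟨_, rfl⟩
    obtain ⟨n', hn'⟩ : ∃ n, n = wEl (a ^ k) bk := ⟨_, rfl⟩
    obtain ⟨nb, hnb⟩ : ∃ n, n = wEl x (b * bk) := ⟨_, rfl⟩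
    rw [← hn, ← hn', ← hnb] at e1
    rw [← hn'] at hua1
    -- commutativity facts
    have hcb : Commute c bk⁻¹ :=
      comm_of_isMulCommutative hB hc.2.2.1 (B.inv_mem hbk.2.2.1)
    have hbbk : Commute b bk := comm_of_isMulCommutative hB h1.2.2.1 hbk.2.2.1
    have sA : n⁻¹ * (a * a ^ k) * n = ((b * bk)⁻¹) ^ k := by
      rw [← pow_succ', conj_pow_inv, hn, wEl_conj_a' hs h1]
      have : (b * bk) ^ k = b ^ (k + 1) := by
        rw [hbbk.mul_pow, hbkk, pow_succ]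
      rw [inv_pow, inv_pow, this]
    have sC : nb * ((b * bk)⁻¹) ^ k * nb⁻¹ = x ^ k := by
      rw [← conj_pow, hnb, wEl_conj_b hs hx]
    have sD : n'⁻¹ * x ^ k * n' = (c * bk⁻¹) ^ k := by
      rw [conj_pow_inv]
      congr 1
      rw [hua1]; group
    have main : c⁻¹ = (c * bk⁻¹) ^ k := by
      rw [← e1, ← sD, ← sC, ← sA]; group
    rw [hcb.mul_pow, inv_pow, hbkk] at main
    -- main : c⁻¹ = c ^ k * b⁻¹
    have hcb' : Commute c b := comm_of_isMulCommutative hB hc.2.2.1 h1.2.2.1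
    have h8 : c ^ k = c⁻¹ * b := by rw [main]; group
    rw [pow_succ, h8, mul_assoc, ← hcb'.eq, inv_mul_cancel_left]

/-- `b(a^k)^k = b(a)` whenever `a^k ≠ 1`. -/
theorem pow_partner (hs : IsSpecialRankOnePair A B) (hB : IsMulCommutative B) {a b c : G}
    (h1 : Ptn A B a b) {k : ℕ} (hc : Ptn A B (a ^ k) c) : c ^ k = b := by
  have hak : a ^ k ≠ 1 := hc.2.1
  have hk : 1 ≤ k := by
    rcases k with _ | k
    · simp at hak
    · omega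
  by_cases hfin : ∀ j, 1 ≤ j → j ≤ k → a ^ j ≠ 1
  · exact pow_partner_aux hs hB h1 k hk hfin c hc
  · push Not at hfin
    obtain ⟨j, hj1, -, hj⟩ := hfin
    have hm : 0 < orderOf a :=
      orderOf_pos_iff.mpr (isOfFinOrder_iff_pow_eq_one.mpr ⟨j, by omega, hj⟩)
    have hr : a ^ (k % orderOf a) = a ^ k := pow_mod_orderOf a k
    have hr0 : k % orderOf a ≠ 0 := by
      intro h0; rw [h0, pow_zero] at hr; exact hak hr.symm
    have hc2 : Ptn A B (a ^ (k % orderOf a)) c := by rw [hr]; exact hc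
    have h5 := pow_partner_aux hs hB h1 (k % orderOf a) (by omega)
      (fun j h1j hjr => pow_ne_one_of_lt_orderOf (by omega)
        (lt_of_le_of_lt hjr (Nat.mod_lt k hm))) c hc2
    have h6 : c ^ orderOf a = 1 :=
      (ptn_pow_eq_one_iff hs hc (orderOf a)).mp
        (by rw [← pow_mul, mul_comm, pow_mul, pow_orderOf_eq_one, one_pow])
    calc c ^ k = c ^ (orderOf a * (k / orderOf a) + k % orderOf a) := by rw [Nat.div_add_mod]
      _ = b := by rw [pow_add, pow_mul, h6, one_pow, one_mul, h5]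

/-- The special condition is symmetric. -/
theorem special_symm (hs : IsSpecialRankOnePair A B) : IsSpecialRankOnePair B A := by
  refine ⟨RankOnePair_symm hs.1, ?_⟩
  intro b hb hb1 a ha ha1 he
  have h1 : Ptn A B a b := ⟨ha, ha1, hb, hb1, he.symm⟩
  have hinv := ptn_braid_inv hs h1
  symm
  calc b⁻¹ * a⁻¹ * b = b⁻¹ * (a⁻¹ * b * a⁻¹) * a := by group
    _ = b⁻¹ * (b * a⁻¹ * b) * a := by rw [hinv]
    _ = a⁻¹ * b * a := by group

end Cfsg.Agent.Lib.Helper86
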