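import Mathlib
import Cfsg.Prelude.Def_RootSubgroups
import Cfsg.Agent.Lib.Helper86.SpecialRk1
import Cfsg.Agent.Lib.Helper86.Lines3

/-!
A local criterion for a rank one pair `(A, B)` with abelian unipotent subgroups to be special:
it suffices to have an element `g` centralizing `A` such that `g⁻¹ B g` commutes elementwise
with `B` and meets `B` trivially.  Consequences: if `A`, `C` commute, `A ≠ C`, and `B` is a rank
one partner of both, then `(A, B)` and `(C, B)` are special; and then any conjugation invariant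
family attached to `A`, `C` that is comparable is equal (`family_transfer`).
-/

set_option autoImplicit false

namespace Cfsg.Agent.Lib.Helper86

open Cfsg

variable {G : Type*} [Group G] {A B C : Subgroup G}

/-- conjugation `x ↦ y⁻¹ x y` -/
def cj (y x : G) : G := y⁻¹ * x * y

theorem cj_mul (y x x' : G) : cj y (x * x') = cj y x * cj y x' := by unfold cj; group

theorem cj_inv (y x : G) : cj y x⁻¹ = (cj y x)⁻¹ := by unfold cj; group

theorem cj_comp (y z x : G) : cj y (cj z x) = cj (z * y) x := by unfold cj; group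

theorem cj_one (x : G) : cj 1 x = x := by unfold cj; group

theorem cj_injective (y : G) {x x' : G} (h : cj y x = cj y x') : x = x' := by
  have := congrArg (cj y⁻¹) h
  rwa [cj_comp, cj_comp, mul_inv_cancel, cj_one, cj_one] at this

theorem cj_eq_self_iff {y x : G} : cj y x = x ↔ x * y = y * x := by
  unfold cj
  constructor
  · intro h
    calc x * y = y * (y⁻¹ * x * y) := by group
      _ = y * x := by rw [h]
  · intro h
    calc y⁻¹ * x * y = y⁻¹ * (x * y) := by group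
      _ = y⁻¹ * (y * x) := by rw [h]
      _ = x := by group

theorem rk1_not_comm (h : IsRankOnePair A B) (hc : ⁅A, B⁆ = ⊥) : False := by
  apply rk1_left_ne_bot h
  rw [eq_bot_iff, ← rk1_inf_normalizer h]
  intro a ha
  refine ⟨ha, ?_⟩
  apply Subgroup.centralizer_le_normalizer
  rw [Subgroup.commutator_eq_bot_iff_le_centralizer] at hc
  exact hc ha

/-- Lemma Q: if `g` centralizes `A` and `g⁻¹ B g` commutes with `B`, then `A` commutes with its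
conjugate by `(g⁻¹ b₁ g) b₁⁻¹` for every `b₁ ∈ B`. -/
theorem lemmaQ (hp : IsRankOnePair A B) (hAc : IsMulCommutative A) {g : G}
    (hgA : ∀ a ∈ A, g * a = a * g) (hBg : ⁅conjBy B g⁻¹, B⁆ = ⊥) {b₁ : G} (hb₁ : b₁ ∈ B) :
    ⁅conjBy A ((g⁻¹ * b₁ * g) * b₁⁻¹)⁻¹, A⁆ = ⊥ := by
  by_cases h1 : b₁ = 1
  · subst h1
    have : ((g⁻¹ * 1 * g) * (1 : G)⁻¹)⁻¹ = 1 := by group
    rw [this, conjBy_one, commutator_eq_bot_iff_comm]
    exact fun x hx y hy => comm_of_isMulCommutative hAc hx hy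
  obtain ⟨a₁, ha₁, -, he⟩ := hp.cond_right b₁ hb₁ h1
  -- he : conjBy B a₁⁻¹ = conjBy A b₁⁻¹
  have hgn : conjBy A g⁻¹ = A := by
    apply conjBy_eq_of_commute
    intro x hx
    have := hgA x hx
    calc x * g⁻¹ = g⁻¹ * (g * x) * g⁻¹ := by group
      _ = g⁻¹ * (x * g) * g⁻¹ := by rw [this]
      _ = g⁻¹ * x := by group
  -- conjBy A e₁⁻¹ = conjBy (conjBy B g⁻¹) a₁⁻¹
  have h2 : conjBy A (g⁻¹ * b₁ * g)⁻¹ = conjBy (conjBy B g⁻¹) a₁⁻¹ := by
    have e1 : (g⁻¹ * b₁ * g)⁻¹ * g⁻¹ = g⁻¹ * b₁⁻¹ := by group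
    have e2 : a₁⁻¹ * g⁻¹ = g⁻¹ * a₁⁻¹ := by
      have := hgA a₁ ha₁
      calc a₁⁻¹ * g⁻¹ = (g * a₁)⁻¹ := by group
        _ = (a₁ * g)⁻¹ := by rw [this]
        _ = g⁻¹ * a₁⁻¹ := by group
    calc conjBy A (g⁻¹ * b₁ * g)⁻¹ = conjBy (conjBy A g⁻¹) (g⁻¹ * b₁ * g)⁻¹ := by rw [hgn]
      _ = conjBy A (g⁻¹ * b₁⁻¹) := by rw [conjBy_conjBy, e1]
      _ = conjBy (conjBy A b₁⁻¹) g⁻¹ := by rw [conjBy_conjBy]
      _ = conjBy (conjBy B a₁⁻¹) g⁻¹ := by rw [he]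
      _ = conjBy B (a₁⁻¹ * g⁻¹) := by rw [conjBy_conjBy, e2]
      _ = conjBy (conjBy B g⁻¹) a₁⁻¹ := by rw [conjBy_conjBy]
  have h3 : ⁅conjBy A (g⁻¹ * b₁ * g)⁻¹, conjBy A b₁⁻¹⁆ = ⊥ := by
    rw [h2, ← he, conjBy_commutator, hBg, conjBy_bot]
  have h4 : ⁅conjBy (conjBy A (g⁻¹ * b₁ * g)⁻¹) b₁, conjBy (conjBy A b₁⁻¹) b₁⁆ = ⊥ := by
    rw [conjBy_commutator, h3, conjBy_bot]
  rw [conjBy_conjBy, conjBy_conjBy, mul_inv_cancel, conjBy_one] at h4
  -- b₁ * e₁⁻¹ = (e₁ * b₁⁻¹)⁻¹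
  have e3 : ((g⁻¹ * b₁ * g) * b₁⁻¹)⁻¹ = b₁ * (g⁻¹ * b₁ * g)⁻¹ := by group
  rw [e3]
  exact h4

/-- The local criterion. -/
theorem local_special (hp : IsRankOnePair A B) (hAc : IsMulCommutative A)
    (hBc : IsMulCommutative B) {g : G} (hgA : ∀ a ∈ A, g * a = a * g)
    (hBg : ⁅conjBy B g⁻¹, B⁆ = ⊥) (hinf : ∀ x ∈ B, g⁻¹ * x * g ∈ B → x = 1) :
    IsSpecialRankOnePair A B := by
  refine ⟨hp, ?_⟩
  intro a ha ha1 b hb hb1 hc
  rw [commutator_eq_bot_iff_comm] at hBg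
  -- the elements t and s
  obtain ⟨t, ht⟩ : ∃ t, t = g⁻¹ * cj b g := ⟨_, rfl⟩
  obtain ⟨s, hs⟩ : ∃ s, s = t⁻¹ * cj a t := ⟨_, rfl⟩
  have r1 : cj a g = g := cj_eq_self_iff.mpr (hgA a ha)
  have r2 : cj b g = g * t := by rw [ht]; group
  have r4 : cj a t = t * s := by rw [hs]; group
  -- t = (g⁻¹ b⁻¹ g) b
  have ht' : t = (g⁻¹ * b⁻¹ * g) * b := by rw [ht]; unfold cj; group
  have hmem : g⁻¹ * b⁻¹ * g ∈ conjBy B g⁻¹ := by
    have := conj_mem_conjBy (g := g⁻¹) (B.inv_mem hb)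
    simpa using this
  have r3 : cj b t = t := by
    rw [cj_eq_self_iff, ht']
    have h1 := hBg _ hmem b hb
    calc (g⁻¹ * b⁻¹ * g) * b * b = b * (g⁻¹ * b⁻¹ * g) * b := by rw [h1]
      _ = b * ((g⁻¹ * b⁻¹ * g) * b) := by group
  -- Lemma Q for t
  have hQ : ⁅conjBy A t⁻¹, A⁆ = ⊥ := by
    have := lemmaQ hp hAc hgA (by rwa [commutator_eq_bot_iff_comm]) (B.inv_mem hb)
    rw [inv_inv] at this
    rw [ht']
    exact this
  rw [commutator_eq_bot_iff_comm] at hQ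
  have hmem2 : t⁻¹ * a⁻¹ * t ∈ conjBy A t⁻¹ := by
    have := conj_mem_conjBy (g := t⁻¹) (A.inv_mem ha)
    simpa using this
  have hs' : s = (t⁻¹ * a⁻¹ * t) * a := by rw [hs]; unfold cj; group
  have r5 : cj a s = s := by
    rw [cj_eq_self_iff, hs']
    have h1 := hQ _ hmem2 a ha
    calc (t⁻¹ * a⁻¹ * t) * a * a = a * (t⁻¹ * a⁻¹ * t) * a := by rw [h1]
      _ = a * ((t⁻¹ * a⁻¹ * t) * a) := by group
  -- inverse rules
  have r1' : cj a⁻¹ g = g := cj_injective a (by rw [cj_comp, inv_mul_cancel, cj_one, r1])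
  have r5' : cj a⁻¹ s = s := cj_injective a (by rw [cj_comp, inv_mul_cancel, cj_one, r5])
  have r4' : cj a⁻¹ t = t * s⁻¹ := cj_injective a (by
    rw [cj_comp, inv_mul_cancel, cj_one, cj_mul, cj_inv, r4, r5]; group)
  have r2' : cj b⁻¹ g = g * t⁻¹ := cj_injective b (by
    rw [cj_comp, inv_mul_cancel, cj_one, cj_mul, cj_inv, r2, r3]; group)
  -- g₁ = g t s⁻¹ commutes with b
  have hx₀ : b * a⁻¹ * b * a * b⁻¹ ∈ A := by
    have h1 : a⁻¹ * b * a ∈ conjBy B a⁻¹ := by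
      have := conj_mem_conjBy (g := a⁻¹) hb
      simpa using this
    rw [← hc, mem_conjBy] at h1
    simpa [mul_assoc] using h1
  have r6 : cj b (g * t * s⁻¹) = g * t * s⁻¹ := by
    have e1 : g * t * s⁻¹ = cj (b * a⁻¹) g := by
      rw [← cj_comp, r2, cj_mul, r1', r4']; group
    rw [e1, cj_comp]
    have e2 : b * a⁻¹ * b = (b * a⁻¹ * b * a * b⁻¹) * (b * a⁻¹) := by group
    rw [e2, ← cj_comp, cj_eq_self_iff.mpr (hgA _ hx₀)]
  have r7 : cj b s = s * t := by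
    have h1 := r6
    rw [cj_mul, cj_mul, cj_inv, r2, r3] at h1
    have h2 : (cj b s)⁻¹ = t⁻¹ * s⁻¹ := by
      calc (cj b s)⁻¹ = (g * t * t)⁻¹ * (g * t * t * (cj b s)⁻¹) := by group
        _ = (g * t * t)⁻¹ * (g * t * s⁻¹) := by rw [h1]
        _ = t⁻¹ * s⁻¹ := by group
    have h3 := congrArg (fun z => z⁻¹) h2
    simp only [inv_inv, _root_.mul_inv_rev] at h3
    exact h3
  -- the element b₂
  have hb2 : a * (b⁻¹ * a * b) * a⁻¹ ∈ B := by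
    have h1 : b⁻¹ * a * b ∈ conjBy A b⁻¹ := by
      have := conj_mem_conjBy (g := b⁻¹) ha
      simpa using this
    rw [hc, mem_conjBy] at h1
    simpa [mul_assoc] using h1
  have key : cj (a * (b⁻¹ * a * b) * a⁻¹) g = g * t⁻¹ := by
    have e : a * (b⁻¹ * a * b) * a⁻¹ = a * b⁻¹ * a * b * a⁻¹ := by group
    have k2 : cj b⁻¹ (cj a g) = g * t⁻¹ := by rw [r1, r2']
    have k3 : cj a (g * t⁻¹) = g * (t * s)⁻¹ := by rw [cj_mul, cj_inv, r1, r4]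
    have k4 : cj b (g * (t * s)⁻¹) = (g * t) * (t * (s * t))⁻¹ := by
      rw [cj_mul, cj_inv, cj_mul, r2, r3, r7]
    have k5 : cj a⁻¹ ((g * t) * (t * (s * t))⁻¹) =
        (g * (t * s⁻¹)) * ((t * s⁻¹) * (s * (t * s⁻¹)))⁻¹ := by
      rw [cj_mul, cj_inv, cj_mul, cj_mul, cj_mul, r1', r4', r5']
    rw [e, ← cj_comp, ← cj_comp, ← cj_comp, ← cj_comp, k2, k3, k4, k5]
    group
  -- x = b₂ b commutes with g
  have hx : cj (a * (b⁻¹ * a * b) * a⁻¹ * b) g = g := by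
    rw [← cj_comp, key, cj_mul, cj_inv, r2, r3]; group
  have hxB : a * (b⁻¹ * a * b) * a⁻¹ * b ∈ B := B.mul_mem hb2 hb
  have hx1 : a * (b⁻¹ * a * b) * a⁻¹ * b = 1 := by
    apply hinf _ hxB
    rw [cj_eq_self_iff] at hx
    have e : g⁻¹ * (a * (b⁻¹ * a * b) * a⁻¹ * b) * g = a * (b⁻¹ * a * b) * a⁻¹ * b := by
      calc g⁻¹ * (a * (b⁻¹ * a * b) * a⁻¹ * b) * g
          = g⁻¹ * (g * (a * (b⁻¹ * a * b) * a⁻¹ * b)) := by rw [hx]; group
        _ = a * (b⁻¹ * a * b) * a⁻¹ * b := by group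
    rw [e]; exact hxB
  have h1 : a * (b⁻¹ * a * b) * a⁻¹ = b⁻¹ := eq_inv_of_mul_eq_one_left hx1
  have := congrArg (fun x => a⁻¹ * x * a) h1
  simpa [mul_assoc] using this

/-- If `A` and `C` commute, `A ≠ C` and `B` is a rank one partner of both, then `(A, B)` is
special. -/
theorem special_of_triple (hAB : IsRankOnePair A B) (hCB : IsRankOnePair C B)
    (hAc : IsMulCommutative A) (hBc : IsMulCommutative B) (hCc : IsMulCommutative C)
    (hAC : ⁅A, C⁆ = ⊥) (hne : A ≠ C) : IsSpecialRankOnePair A B := by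
  obtain ⟨b₀, hb₀, hb₀1⟩ := rk1_exists_ne_one (RankOnePair_symm hAB)
  obtain ⟨a₀, ha₀, -, hea⟩ := hAB.cond_right b₀ hb₀ hb₀1
  obtain ⟨c₀, hc₀, -, hec⟩ := hCB.cond_right b₀ hb₀ hb₀1
  -- hea : conjBy B a₀⁻¹ = conjBy A b₀⁻¹ ; hec : conjBy B c₀⁻¹ = conjBy C b₀⁻¹
  have hACc := commutator_eq_bot_iff_comm.mp hAC
  have hgA : ∀ a ∈ A, (a₀ * c₀⁻¹) * a = a * (a₀ * c₀⁻¹) := by
    intro a ha
    have h1 := comm_of_isMulCommutative hAc ha₀ ha
    have h2 := hACc a ha c₀⁻¹ (C.inv_mem hc₀)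
    calc a₀ * c₀⁻¹ * a = a₀ * (c₀⁻¹ * a) := by group
      _ = a₀ * (a * c₀⁻¹) := by rw [h2]
      _ = (a₀ * a) * c₀⁻¹ := by group
      _ = (a * a₀) * c₀⁻¹ := by rw [h1]
      _ = a * (a₀ * c₀⁻¹) := by group
  have hginv : (a₀ * c₀⁻¹)⁻¹ = c₀ * a₀⁻¹ := by group
  have hBg : ⁅conjBy B (a₀ * c₀⁻¹)⁻¹, B⁆ = ⊥ := by
    have e1 : conjBy B (a₀ * c₀⁻¹)⁻¹ = conjBy (conjBy A b₀⁻¹) c₀ := by
      rw [hginv, ← hea, conjBy_conjBy]
    have e2 : B = conjBy (conjBy C b₀⁻¹) c₀ := by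
      rw [← hec, conjBy_conjBy, mul_inv_cancel, conjBy_one]
    rw [e1]
    conv_lhs => rw [e2]
    rw [conjBy_commutator, conjBy_commutator, hAC, conjBy_bot, conjBy_bot]
  refine local_special hAB hAc hBc hgA hBg ?_
  intro x hx hx'
  by_contra hx1
  -- x' = g⁻¹ x g ∈ B ∩ E
  set g := a₀ * c₀⁻¹ with hg
  have hx'1 : g⁻¹ * x * g ≠ 1 := by
    intro h0
    apply hx1
    have := congrArg (fun y => g * y * g⁻¹) h0
    simpa [mul_assoc] using this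
  have hgn : conjBy A g⁻¹ = A := by
    apply conjBy_eq_of_commute
    intro y hy
    have := hgA y hy
    calc y * g⁻¹ = g⁻¹ * (g * y) * g⁻¹ := by group
      _ = g⁻¹ * (y * g) * g⁻¹ := by rw [this]
      _ = g⁻¹ * y := by group
  have hAE : IsRankOnePair A (conjBy B g⁻¹) := by
    have := rk1_conj hAB g⁻¹
    rwa [hgn] at this
  have hx'E : g⁻¹ * x * g ∈ conjBy B g⁻¹ := by
    have := conj_mem_conjBy (g := g⁻¹) hx
    simpa using this
  obtain ⟨a₁, ha₁, -, h1⟩ := hAB.cond_right _ hx' hx'1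
  obtain ⟨a₂, ha₂, -, h2⟩ := hAE.cond_right _ hx'E hx'1
  -- conjBy B a₁⁻¹ = conjBy E a₂⁻¹
  have h3 : conjBy (conjBy B g⁻¹) a₂⁻¹ = conjBy B a₁⁻¹ := h2.trans h1.symm
  have h4 : conjBy B g⁻¹ = conjBy B (a₂ * a₁⁻¹) := by
    rw [conjBy_eq_iff] at h3
    rw [h3, conjBy_conjBy, inv_inv]
  by_cases ha' : a₂ * a₁⁻¹ = 1
  · -- E = B, so A = C
    rw [ha', conjBy_one] at h4
    apply hne
    have h5 : conjBy B a₀⁻¹ = conjBy B c₀⁻¹ := by
      have : conjBy (conjBy B a₀⁻¹) c₀ = B := by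
        rw [conjBy_conjBy, ← hginv]; exact h4
      rw [conjBy_eq_iff] at this
      exact this
    rw [hea, hec] at h5
    exact conjBy_inj.mp h5
  · -- E = conjBy B a' commutes with B : impossible
    have ha'A : (a₂ * a₁⁻¹)⁻¹ ∈ A := A.inv_mem (A.mul_mem ha₂ (A.inv_mem ha₁))
    obtain ⟨b'', hb'', -, h5⟩ := hAB.cond_left _ ha'A (inv_ne_one.mpr ha')
    rw [inv_inv, ← h4] at h5
    -- h5 : conjBy A b''⁻¹ = E
    have h6 : conjBy (conjBy B g⁻¹) b'' = conjBy B g⁻¹ := by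
      apply conjBy_eq_of_commute
      intro y hy
      exact (commutator_eq_bot_iff_comm.mp hBg y hy b'' hb'')
    rw [← h5, conjBy_conjBy, mul_inv_cancel, conjBy_one] at h6
    -- h6 : A = conjBy A b''⁻¹ = E
    apply rk1_not_comm hAB
    have : ⁅conjBy A b''⁻¹, B⁆ = ⊥ := by rw [h5]; exact hBg
    rwa [← h6] at this

/-- Transfer of conjugation invariant families. -/
theorem family_transfer {P : Subgroup G → Subgroup G → Prop}
    (hP : ∀ X D g, P X D → P (conjBy X g) (conjBy D g))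
    (hsA : IsSpecialRankOnePair A B) (hsC : IsSpecialRankOnePair C B)
    (hAC : ∀ a ∈ A, ∀ c ∈ C, a * c = c * a)
    (hsub : ∀ D, P A D → P C D) : ∀ D, P C D → P A D := by
  obtain ⟨b, hb, hb1⟩ := rk1_exists_ne_one (RankOnePair_symm hsA.1)
  obtain ⟨a, hpa⟩ := ptn_exists_right hsA.1 hb hb1
  obtain ⟨c, hpc⟩ := ptn_exists_right hsC.1 hb hb1
  have step1 : ∀ {a c b : G}, Ptn A B a b → Ptn C B c b →
      conjBy A (a * b⁻¹) = B ∧ conjBy C (a * b⁻¹) = conjBy B (a * c⁻¹) ∧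
      ∀ D, P B D → P (conjBy B (a * c⁻¹)) D := by
    intro a c b hpa hpc
    have e1 : conjBy A (a * b⁻¹) = B := by
      rw [← conjBy_conjBy, hpa.2.2.2.2, conjBy_conjBy, mul_inv_cancel, conjBy_one]
    have e2 : conjBy C (a * b⁻¹) = conjBy B (a * c⁻¹) := by
      rw [← conjBy_conjBy, hpc.2.2.2.2, conjBy_conjBy]
    refine ⟨e1, e2, ?_⟩
    intro D hD
    have h1 := hP _ _ (a * b⁻¹)⁻¹ hD
    have e3 : conjBy B (a * b⁻¹)⁻¹ = A := by
      rw [← e1, conjBy_conjBy, inv_mul_cancel, conjBy_one]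
    rw [e3] at h1
    have h2 := hP _ _ (a * b⁻¹) (hsub _ h1)
    rwa [e2, conjBy_conjBy, mul_inv_cancel, conjBy_one] at h2
  obtain ⟨e1, e2, s1⟩ := step1 hpa hpc
  obtain ⟨-, -, s2⟩ := step1 (ptn_inv hsA hpa) (ptn_inv hsC hpc)
  -- s2 : P B D → P (conjBy B (a⁻¹ * c⁻¹⁻¹)) D
  have hu : a⁻¹ * c⁻¹⁻¹ = (a * c⁻¹)⁻¹ := by
    have := hAC a hpa.1 c hpc.1
    rw [inv_inv]
    calc a⁻¹ * c = a⁻¹ * (c * a) * a⁻¹ := by group
      _ = a⁻¹ * (a * c) * a⁻¹ := by rw [this]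
      _ = (a * c⁻¹)⁻¹ := by group
  rw [hu] at s2
  intro D hD
  have h1 := hP _ _ (a * b⁻¹) hD
  rw [e2] at h1
  have h2 := hP _ _ (a * c⁻¹)⁻¹ h1
  rw [conjBy_conjBy, inv_mul_cancel, conjBy_one] at h2
  have h3 := s2 _ h2
  have h4 := hP _ _ (a * c⁻¹) h3
  rw [conjBy_conjBy, mul_inv_cancel, conjBy_one, conjBy_conjBy, mul_inv_cancel, conjBy_one] at h4
  have h5 := hP _ _ (a * b⁻¹)⁻¹ h4
  have e3 : conjBy B (a * b⁻¹)⁻¹ = A := by
    rw [← e1, conjBy_conjBy, inv_mul_cancel, conjBy_one]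
  rwa [e3, conjBy_conjBy, inv_mul_cancel, conjBy_one] at h5

end Cfsg.Agent.Lib.Helper86
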