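import Mathlib
import Cfsg.Agent.Lib.Helper05.N3Defs

set_option autoImplicit false

/-!
# K-N3 leaf A3 (S4004): all primes in one class: the spectrum is squarefree and the values
alternate with the parity of the number of prime factors
-/

namespace Cfsg.Agent.Lib.Helper86.N3

open Cfsg.Agent.Lib.Helper05.N3 Cfsg.Agent.Lib.Helper22.Nse

/-- divisors of `t * E`, `t` prime not dividing `E`, pair up as `e`, `t * e` with `e ∣ E` -/
theorem n3a3_divsum {α : Type*} [AddCommMonoid α] (t E : ℕ) (ht : t.Prime) (hE : ¬ t ∣ E)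
    (hE0 : E ≠ 0) (f : ℕ → α) :
    ∑ d ∈ (t * E).divisors, f d = ∑ e ∈ E.divisors, (f e + f (t * e)) := by
  classical
  have hset : (t * E).divisors = E.divisors ∪ E.divisors.image (fun e => t * e) := by
    ext d
    rw [Finset.mem_union, Finset.mem_image, Nat.mem_divisors, Nat.mem_divisors]
    constructor
    · rintro ⟨hd, _⟩
      by_cases htd : t ∣ d
      · right
        obtain ⟨e, rfl⟩ := htd
        refine ⟨e, ?_, rfl⟩
        rw [Nat.mem_divisors]
        exact ⟨Nat.dvd_of_mul_dvd_mul_left ht.pos hd, hE0⟩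
      · left
        refine ⟨?_, hE0⟩
        exact Nat.Coprime.dvd_of_dvd_mul_left
          ((Nat.Prime.coprime_iff_not_dvd ht).2 htd).symm hd
    · rintro (⟨hd, _⟩ | ⟨e, he, rfl⟩)
      · exact ⟨Dvd.dvd.mul_left hd t, Nat.mul_ne_zero ht.ne_zero hE0⟩
      · rw [Nat.mem_divisors] at he
        exact ⟨Nat.mul_dvd_mul_left t he.1, Nat.mul_ne_zero ht.ne_zero hE0⟩
  have hdisj : Disjoint E.divisors (E.divisors.image (fun e => t * e)) := by
    rw [Finset.disjoint_left]
    intro d hd hd'
    obtain ⟨e, _, rfl⟩ := Finset.mem_image.1 hd'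
    rw [Nat.mem_divisors] at hd
    exact hE ((Dvd.intro _ rfl).trans hd.1)
  rw [hset, Finset.sum_union hdisj, Finset.sum_image, Finset.sum_add_distrib]
  intro a _ b _ hab
  exact Nat.eq_of_mul_eq_mul_left ht.pos hab

theorem n3a3_dvd_of_add {t a b : ℕ} (h1 : t ∣ a + b) (h2 : t ∣ b) : t ∣ a := by
  have := Nat.dvd_sub h1 h2
  simpa using this

theorem n3a3_card_primeFactors (t e : ℕ) (ht : t.Prime) (hte : ¬ t ∣ e) (he0 : e ≠ 0) :
    (t * e).primeFactors.card = e.primeFactors.card + 1 := by
  rw [Nat.primeFactors_mul ht.ne_zero he0, Nat.Prime.primeFactors ht,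
    Finset.card_union_of_disjoint, Finset.card_singleton, add_comm]
  rw [Finset.disjoint_singleton_left]
  intro h
  exact hte (Nat.dvd_of_mem_primeFactors h)

theorem moebius_values {N : ℕ} {S : ℕ → ℕ} {m n : ℕ} (C : Ctx N S m n) {p q : ℕ} (hp : p.Prime)
    (hq : q.Prime) (hpq : p ≠ q) (hpN : p ∣ N) (hqN : q ∣ N)
    (hall : ∀ t : ℕ, t.Prime → t ∣ N → S t = m) :
    (∀ k, S k ≠ 0 → Squarefree k) ∧
      ∀ D, D ∣ N → Squarefree D → D ≠ 1 → S D = if Even D.primeFactors.card then n else m := by
  have hN0 : N ≠ 0 := C.H.pos.ne'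
  have hodd2 : ¬ 2 ∣ N := by
    obtain ⟨k, hk⟩ := C.odd
    omega
  have hval : ∀ k, S k = 0 ∨ S k = 1 ∨ S k = m ∨ S k = n := by
    intro k
    by_cases h0 : S k = 0
    · exact Or.inl h0
    · have := C.H.mem k h0
      simp only [Finset.mem_insert, Finset.mem_singleton] at this
      exact Or.inr this
  have hone : ∀ k, k ∣ N → k ≠ 1 → S k ≠ 1 := by
    intro k hk hk1 h1
    have hphi := C.H.phi k
    rw [h1, Nat.dvd_one, Nat.totient_eq_one_iff] at hphi
    rcases hphi with h | h
    · exact hk1 h
    · exact hodd2 (h ▸ hk)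
  have ht2 : ∀ t, t.Prime → t ∣ N → t ≠ 2 := fun t _ htN h => hodd2 (h ▸ htN)
  have hm1 : ∀ t, t.Prime → t ∣ N → t ∣ m + 1 := by
    intro t ht htN
    have := C.H.frob t htN
    rw [Nat.Prime.sum_divisors ht, hall t ht htN, C.H.one] at this
    exact this
  have hnotm : ∀ t, t.Prime → t ∣ N → ¬ t ∣ m := by
    intro t ht htN h
    have h1 : t ∣ 1 := n3a3_dvd_of_add (by rw [add_comm]; exact hm1 t ht htN) h
    exact ht.one_lt.ne' (Nat.dvd_one.1 h1)
  have hother : ∀ t, t.Prime → t ∣ N → ∃ u, u.Prime ∧ u ∣ N ∧ u ≠ t := by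
    intro t _ _
    by_cases h : p = t
    · exact ⟨q, hq, hqN, fun h' => hpq (h.trans h'.symm)⟩
    · exact ⟨p, hp, hpN, h⟩
  have hmn : ∀ t, t.Prime → t ∣ N → t ∣ m + n := by
    intro t ht htN
    obtain ⟨u, hu, huN, hut⟩ := hother t ht htN
    have hcop : Nat.Coprime t u := (Nat.coprime_primes ht hu).2 (Ne.symm hut)
    have htuN : t * u ∣ N := Nat.Coprime.mul_dvd_of_dvd_of_dvd hcop htN huN
    have htu : ¬ t ∣ u := fun h => hut ((Nat.prime_dvd_prime_iff_eq ht hu).1 h).symm
    have hfr := C.H.frob (t * u) htuN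
    rw [n3a3_divsum t u ht htu hu.ne_zero, Nat.Prime.sum_divisors hu, mul_one, hall t ht htN,
      hall u hu huN, C.H.one] at hfr
    have ht' : t ∣ (m + S (t * u)) + (1 + m) := (Dvd.intro _ rfl).trans hfr
    have h3 : t ∣ m + S (t * u) :=
      n3a3_dvd_of_add ht' (by rw [add_comm]; exact hm1 t ht htN)
    rcases hval (t * u) with h | h | h | h
    · rw [h, add_zero] at h3
      exact absurd h3 (hnotm t ht htN)
    · exfalso
      refine hone (t * u) htuN ?_ h
      intro h1
      have := Nat.eq_one_of_mul_eq_one_right h1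
      exact ht.one_lt.ne' this
    · exfalso
      rw [h, ← two_mul] at h3
      rcases (Nat.Prime.dvd_mul ht).1 h3 with h2 | h2
      · exact ht2 t ht htN ((Nat.prime_dvd_prime_iff_eq ht Nat.prime_two).1 h2)
      · exact hnotm t ht htN h2
    · rw [h] at h3
      exact h3
  have hnotn : ∀ t, t.Prime → t ∣ N → ¬ t ∣ n := by
    intro t ht htN h
    exact hnotm t ht htN (n3a3_dvd_of_add (hmn t ht htN) h)
  have hsq0 : ∀ t, t.Prime → S (t * t) = 0 := by
    intro t ht
    by_contra h0
    have httN : t * t ∣ N := C.H.dvd _ h0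
    have htN : t ∣ N := (Dvd.intro _ rfl).trans httN
    have hfr := C.H.frob (t * t) httN
    rw [← pow_two, Nat.sum_divisors_prime_pow ht] at hfr
    simp only [Finset.sum_range_succ, Finset.sum_range_zero, pow_zero, pow_one, zero_add] at hfr
    rw [C.H.one, hall t ht htN] at hfr
    have h1 : t ∣ 1 + m + S (t ^ 2) := (Dvd.intro _ (pow_two t).symm).trans hfr
    have h2 : t ∣ S (t ^ 2) := by
      rw [add_comm] at h1
      exact n3a3_dvd_of_add h1 (by rw [add_comm]; exact hm1 t ht htN)
    rw [pow_two] at h2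
    rcases hval (t * t) with h | h | h | h
    · exact h0 h
    · rw [h] at h2
      exact ht.one_lt.ne' (Nat.dvd_one.1 h2)
    · rw [h] at h2
      exact hnotm t ht htN h2
    · rw [h] at h2
      exact hnotn t ht htN h2
  have hpart1 : ∀ k, S k ≠ 0 → Squarefree k := by
    intro k hk
    rw [Nat.squarefree_iff_prime_squarefree]
    intro t ht htt
    exact C.H.closed k (t * t) hk htt (hsq0 t ht)
  refine ⟨hpart1, ?_⟩
  intro D
  induction D using Nat.strong_induction_on with
  | _ D ih =>
    intro hDN hDsq hD1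
    have hD0 : D ≠ 0 := fun h => hN0 (by rw [h] at hDN; exact Nat.eq_zero_of_zero_dvd hDN)
    have ht : (D.minFac).Prime := Nat.minFac_prime hD1
    obtain ⟨E, hE⟩ := Nat.minFac_dvd D
    set t := D.minFac with htdef
    have htN : t ∣ N := (Dvd.intro _ hE.symm).trans hDN
    have hE0 : E ≠ 0 := by
      rintro rfl
      rw [mul_zero] at hE
      exact hD0 hE
    have hDsq' : Squarefree (t * E) := hE ▸ hDsq
    have hsqm := (Nat.squarefree_mul_iff).1 hDsq'
    have htE : ¬ t ∣ E := (Nat.Prime.coprime_iff_not_dvd ht).1 hsqm.1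
    have hEsq : Squarefree E := hsqm.2.2
    have hEN : E ∣ N := (Dvd.intro_left _ hE.symm).trans hDN
    have hcard : D.primeFactors.card = E.primeFactors.card + 1 := by
      rw [hE]
      exact n3a3_card_primeFactors t E ht htE hE0
    by_cases hE1 : E = 1
    · rw [hE1, mul_one] at hE
      rw [hE, hall t ht htN, Nat.Prime.primeFactors ht]
      simp
    · have hElt : E < D := by
        rw [hE]
        exact lt_mul_of_one_lt_left (Nat.pos_of_ne_zero hE0) ht.one_lt
      have hSE := ih E hElt hEN hEsq hE1
      have hpairs : ∀ e ∈ E.divisors.erase E, t ∣ S e + S (t * e) := by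
        intro e he
        rw [Finset.mem_erase, Nat.mem_divisors] at he
        obtain ⟨heE, heD, _⟩ := he
        have helt : e < E := lt_of_le_of_ne (Nat.le_of_dvd (Nat.pos_of_ne_zero hE0) heD) heE
        by_cases he1 : e = 1
        · rw [he1, mul_one, C.H.one, hall t ht htN, add_comm]
          exact hm1 t ht htN
        · have heN : e ∣ N := heD.trans hEN
          have hesq : Squarefree e := hEsq.squarefree_of_dvd heD
          have h1 := ih e (helt.trans hElt) heN hesq he1
          have hte : ¬ t ∣ e := fun h => htE (h.trans heD)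
          have he0 : e ≠ 0 := fun h => hE0 (by rw [h] at heD; exact Nat.eq_zero_of_zero_dvd heD)
          have hteD : t * e ∣ D := by
            rw [hE]
            exact Nat.mul_dvd_mul_left t heD
          have htelt : t * e < D := by
            rw [hE]
            exact Nat.mul_lt_mul_of_pos_left helt ht.pos
          have htesq : Squarefree (t * e) := hDsq.squarefree_of_dvd hteD
          have hte1 : t * e ≠ 1 := by
            intro h
            exact ht.one_lt.ne' (Nat.eq_one_of_mul_eq_one_right h)
          have h2 := ih (t * e) htelt (hteD.trans hDN) htesq hte1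
          have hc := n3a3_card_primeFactors t e ht hte he0
          rw [h1, h2, hc]
          by_cases hev : Even e.primeFactors.card
          · rw [if_pos hev, if_neg (by rw [Nat.even_add_one]; exact not_not.2 hev), add_comm]
            exact hmn t ht htN
          · rw [if_neg hev, if_pos (by rw [Nat.even_add_one]; exact hev)]
            exact hmn t ht htN
      have hfr := C.H.frob D hDN
      rw [hE, n3a3_divsum t E ht htE hE0,
        ← Finset.add_sum_erase _ _ (Nat.mem_divisors_self E hE0)] at hfr
      have ht1 : t ∣ (S E + S (t * E)) + ∑ e ∈ E.divisors.erase E, (S e + S (t * e)) :=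
        (Dvd.intro _ rfl).trans hfr
      have ht2' : t ∣ ∑ e ∈ E.divisors.erase E, (S e + S (t * e)) := Finset.dvd_sum hpairs
      have ht3 : t ∣ S E + S (t * E) := n3a3_dvd_of_add ht1 ht2'
      have hDone : S (t * E) ≠ 1 := hone (t * E) (hE ▸ hDN) (hE ▸ hD1)
      rw [hcard, hE]
      rw [hSE] at ht3
      by_cases hev : Even E.primeFactors.card
      · rw [if_pos hev] at ht3
        rw [if_neg (by rw [Nat.even_add_one]; exact not_not.2 hev)]
        rcases hval (t * E) with h | h | h | h
        · rw [h, add_zero] at ht3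
          exact absurd ht3 (hnotn t ht htN)
        · exact absurd h hDone
        · exact h
        · exfalso
          rw [h, ← two_mul] at ht3
          rcases (Nat.Prime.dvd_mul ht).1 ht3 with h2 | h2
          · exact ht2 t ht htN ((Nat.prime_dvd_prime_iff_eq ht Nat.prime_two).1 h2)
          · exact hnotn t ht htN h2
      · rw [if_neg hev] at ht3
        rw [if_pos (by rw [Nat.even_add_one]; exact hev)]
        rcases hval (t * E) with h | h | h | h
        · rw [h, add_zero] at ht3
          exact absurd ht3 (hnotm t ht htN)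
        · exact absurd h hDone
        · exfalso
          rw [h, ← two_mul] at ht3
          rcases (Nat.Prime.dvd_mul ht).1 ht3 with h2 | h2
          · exact ht2 t ht htN ((Nat.prime_dvd_prime_iff_eq ht Nat.prime_two).1 h2)
          · exact hnotm t ht htN h2
        · exact h

end Cfsg.Agent.Lib.Helper86.N3
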