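import Mathlib

set_option autoImplicit false

/-!
# K-NSE3 leaf L05b (S3996): abstract double pairing sum
-/

namespace Cfsg.Agent.Lib.Helper86.NSE3

theorem sum_pair (N p q : ℕ) (hp : p.Prime) (hq : q.Prime) (hpq : p ≠ q) (hpN : p ∣ N)
    (hqN : q ∣ N) (hN : N ≠ 0) (f : ℕ → ℕ) (c : ℕ)
    (hsqp : ∀ k, p * p ∣ k → f k = 0) (hsqq : ∀ k, q * q ∣ k → f k = 0)
    (hpair : ∀ k, k ∣ N → ¬ p ∣ k → ¬ q ∣ k →
      f (p * k) + f (p * q * k) = if f k = 0 then 0 else c) :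
    ∑ k ∈ N.divisors.filter (fun k => p ∣ k), f k =
      c * ((N.divisors.filter (fun k => ¬ p ∣ k ∧ ¬ q ∣ k ∧ f k ≠ 0)).card) := by
  classical
  have hp0 : p ≠ 0 := hp.ne_zero
  have hq0 : q ≠ 0 := hq.ne_zero
  have hcop_pq : Nat.Coprime p q := (Nat.coprime_primes hp hq).2 hpq
  set A : Finset ℕ := N.divisors.filter (fun k => ¬ p ∣ k ∧ ¬ q ∣ k) with hA
  have hAmem : ∀ k, k ∈ A ↔ k ∣ N ∧ ¬ p ∣ k ∧ ¬ q ∣ k := by
    intro k
    rw [hA, Finset.mem_filter, Nat.mem_divisors]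
    constructor
    · rintro ⟨⟨h1, _⟩, h2⟩
      exact ⟨h1, h2⟩
    · rintro ⟨h1, h2⟩
      exact ⟨⟨h1, hN⟩, h2⟩
  -- divisibility facts
  have hpk : ∀ k, k ∈ A → p * k ∣ N := by
    intro k hk
    obtain ⟨h1, h2, _⟩ := (hAmem k).1 hk
    exact Nat.Coprime.mul_dvd_of_dvd_of_dvd ((Nat.Prime.coprime_iff_not_dvd hp).2 h2) hpN h1
  have hpqk : ∀ k, k ∈ A → p * q * k ∣ N := by
    intro k hk
    obtain ⟨h1, h2, h3⟩ := (hAmem k).1 hk
    have hc1 : Nat.Coprime (p * q) k :=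
      Nat.Coprime.mul_left ((Nat.Prime.coprime_iff_not_dvd hp).2 h2)
        ((Nat.Prime.coprime_iff_not_dvd hq).2 h3)
    exact Nat.Coprime.mul_dvd_of_dvd_of_dvd hc1
      (Nat.Coprime.mul_dvd_of_dvd_of_dvd hcop_pq hpN hqN) h1
  -- the right-hand side as a sum over `A`
  have hR : c * ((N.divisors.filter (fun k => ¬ p ∣ k ∧ ¬ q ∣ k ∧ f k ≠ 0)).card) =
      ∑ k ∈ A, (f (p * k) + f (p * q * k)) := by
    have e1 : N.divisors.filter (fun k => ¬ p ∣ k ∧ ¬ q ∣ k ∧ f k ≠ 0) =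
        A.filter (fun k => f k ≠ 0) := by
      rw [hA, Finset.filter_filter]
      apply Finset.filter_congr
      intro k _
      tauto
    rw [e1, mul_comm, ← smul_eq_mul, ← Finset.sum_const, Finset.sum_filter]
    apply Finset.sum_congr rfl
    intro k hk
    obtain ⟨h1, h2, h3⟩ := (hAmem k).1 hk
    rw [hpair k h1 h2 h3]
    by_cases h0 : f k = 0
    · simp [h0]
    · simp [h0]
  rw [hR, Finset.sum_add_distrib]
  -- the two images
  have hinj1 : Set.InjOn (fun k => p * k) (A : Set ℕ) := by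
    intro a _ b _ hab
    exact Nat.eq_of_mul_eq_mul_left hp.pos hab
  have hinj2 : Set.InjOn (fun k => p * q * k) (A : Set ℕ) := by
    intro a _ b _ hab
    exact Nat.eq_of_mul_eq_mul_left (Nat.mul_pos hp.pos hq.pos) hab
  rw [← Finset.sum_image (f := f) hinj1, ← Finset.sum_image (f := f) hinj2]
  have hdisj : Disjoint (A.image (fun k => p * k)) (A.image (fun k => p * q * k)) := by
    rw [Finset.disjoint_left]
    intro d hd1 hd2
    obtain ⟨a, ha, rfl⟩ := Finset.mem_image.1 hd1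
    obtain ⟨b, hb, hab⟩ := Finset.mem_image.1 hd2
    obtain ⟨_, ha2, ha3⟩ := (hAmem a).1 ha
    have hqa : q ∣ p * a := by
      rw [← hab]
      exact ⟨p * b, by ring⟩
    rcases (Nat.Prime.dvd_mul hq).1 hqa with h | h
    · exact hpq ((Nat.prime_dvd_prime_iff_eq hq hp).1 h).symm
    · exact ha3 h
  rw [← Finset.sum_union hdisj]
  symm
  apply Finset.sum_subset
  · intro d hd
    rw [Finset.mem_union] at hd
    rw [Finset.mem_filter, Nat.mem_divisors]
    rcases hd with hd | hd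
    · obtain ⟨a, ha, rfl⟩ := Finset.mem_image.1 hd
      exact ⟨⟨hpk a ha, hN⟩, Dvd.intro _ rfl⟩
    · obtain ⟨a, ha, rfl⟩ := Finset.mem_image.1 hd
      exact ⟨⟨hpqk a ha, hN⟩, ⟨q * a, by ring⟩⟩
  · intro d hd hnot
    rw [Finset.mem_filter, Nat.mem_divisors] at hd
    obtain ⟨⟨hdN, _⟩, e, rfl⟩ := hd
    rw [Finset.mem_union, not_or] at hnot
    obtain ⟨hn1, hn2⟩ := hnot
    have heN : e ∣ N := (Dvd.intro_left p rfl).trans hdN
    by_cases hpe : p ∣ e
    · apply hsqp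
      exact Nat.mul_dvd_mul_left p hpe
    · by_cases hqe : q ∣ e
      · obtain ⟨k, rfl⟩ := hqe
        by_cases hqk : q ∣ k
        · apply hsqq
          obtain ⟨k', rfl⟩ := hqk
          exact ⟨p * k', by ring⟩
        · exfalso
          apply hn2
          rw [Finset.mem_image]
          refine ⟨k, (hAmem k).2 ⟨(Dvd.intro_left q rfl).trans heN, ?_, hqk⟩, by ring⟩
          intro hpk'
          exact hpe (hpk'.trans (Dvd.intro_left q rfl))
      · exfalso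
        apply hn1
        rw [Finset.mem_image]
        exact ⟨e, (hAmem e).2 ⟨heN, hpe, hqe⟩, rfl⟩

end Cfsg.Agent.Lib.Helper86.NSE3
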