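import Mathlib
import Cfsg.Agent.Lib.Helper56.NSE3Defs

set_option autoImplicit false

/-!
# K-NSE3 leaf L10 (S3996): `|G| = 2 p^a q^b` with odd cofactor and a unique involution: solvable
-/

namespace Cfsg.Agent.Lib.Helper86.NSE3

open Cfsg.Agent.S3995 (s)
open Cfsg.Agent.Lib.Helper56.NSE3 (Hyp)

variable {G : Type*} [Group G] [Finite G]

theorem solvable_two_odd {p q a b : ℕ} (hp : p.Prime) (hq : q.Prime)
    (hcard : Nat.card G = 2 * (p ^ a * q ^ b)) (hodd : ¬ 2 ∣ p ^ a * q ^ b)
    (h2 : s G 2 = 1) : Group.IsSolvable G := by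
  classical
  have h2' : Nat.card {g : G // orderOf g = 2} = 1 := h2
  rw [Nat.card_eq_one_iff_unique] at h2'
  obtain ⟨hsub, ⟨⟨z, hz⟩⟩⟩ := h2'
  have hconj : ∀ g : G, g * z * g⁻¹ = z := by
    intro g
    have ho : orderOf (g * z * g⁻¹) = 2 := by
      rw [← hz]
      exact ((MulAut.conj g).orderOf_eq z)
    have := @Subsingleton.elim _ hsub ⟨g * z * g⁻¹, ho⟩ ⟨z, hz⟩
    exact congrArg Subtype.val this
  have hnorm : (Subgroup.zpowers z).Normal := by
    constructor
    intro n hn g
    rw [Subgroup.mem_zpowers_iff] at hn ⊢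
    obtain ⟨k, rfl⟩ := hn
    refine ⟨k, ?_⟩
    rw [← conj_zpow, hconj]
  have hZcard : Nat.card (Subgroup.zpowers z) = 2 := by
    rw [Nat.card_zpowers, hz]
  have hQcard : Nat.card (G ⧸ Subgroup.zpowers z) = p ^ a * q ^ b := by
    have h := Subgroup.card_eq_card_quotient_mul_card_subgroup (Subgroup.zpowers z)
    rw [hcard, hZcard] at h
    omega
  have hQ : Group.IsSolvable (G ⧸ Subgroup.zpowers z) :=
    Cfsg.Agent.S0144.result p q a b hp hq hQcard
  have hZ : Group.IsSolvable (Subgroup.zpowers z) := by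
    have : ∀ x y : Subgroup.zpowers z, x * y = y * x := fun x y => mul_comm' x y
    exact Group.isSolvable_of_comm this
  exact Group.isSolvable_of_ker_le_range (Subgroup.zpowers z).subtype
    (QuotientGroup.mk' (Subgroup.zpowers z))
    (by rw [QuotientGroup.ker_mk', Subgroup.range_subtype])

end Cfsg.Agent.Lib.Helper86.NSE3
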