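import Cfsg.Agent.Lib.Helper49.OElDefs

/-!
# K-OEl-AR2M (keystone 598807, S5988/S5990 pack of helper49): `arith_derange_ellM` (pure arithmetic; parallel hand)
-/

set_option autoImplicit false
set_option linter.unusedVariables false

namespace Cfsg.Agent.Lib.Helper86.OEl

open Module Cfsg.Agent.Lib.Helper98.Elus Cfsg.Agent.Lib.Helper98.Sy Cfsg.Agent.Lib.Helper38.OhP
  Cfsg.Agent.Lib.Helper49.OEl

/-- if `c ∣ 2 (d - δ)`, `2 d = T0 c + k0`, `k0 < c`, `2 δ < c` then `k0 = 2 δ` -/
theorem ar2m_key (c T0 k0 δ d : ℕ) (hdT : 2 * d = T0 * c + k0) (hk0 : k0 < c) (hδc : 2 * δ < c)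
    (hδd : δ ≤ d) (hdiv : c ∣ 2 * (d - δ)) : k0 = 2 * δ := by
  have h1 : (c : ℤ) ∣ ((2 * (d - δ) : ℕ) : ℤ) := Int.natCast_dvd_natCast.mpr hdiv
  have h2 : ((2 * (d - δ) : ℕ) : ℤ) = (T0 : ℤ) * c + ((k0 : ℤ) - 2 * δ) := by
    have h0 : (2 * (d : ℤ)) = T0 * c + k0 := by exact_mod_cast hdT
    push_cast [Nat.cast_sub hδd]
    linarith
  rw [h2] at h1
  have h3 : (c : ℤ) ∣ (k0 : ℤ) - 2 * δ := (dvd_add_right (Dvd.intro_left _ rfl)).mp h1
  have h4 : (k0 : ℤ) - 2 * δ = 0 := by
    apply Int.eq_zero_of_abs_lt_dvd h3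
    rw [abs_lt]
    constructor <;> omega
  omega

theorem ar2m_half (i x : ℕ) (hev : Even i) (h : x % i = i / 2) : i ∣ 2 * x := by
  obtain ⟨a, ha⟩ := hev
  have h1 := Nat.div_add_mod x i
  rw [h] at h1
  have h2 : i / 2 = a := by omega
  refine ⟨2 * (x / i) + 1, ?_⟩
  have h3 : i * (2 * (x / i) + 1) = 2 * (i * (x / i)) + i := by ring
  rw [h3]; omega

/-- what `CountM` gives: some `δ ≤ e` with `c ∣ 2 (d - δ)` -/
theorem ar2m_delta (i c d e : ℕ) (hi : 0 < i) (hc : c = cOf i) (he : 1 ≤ e) (hw : CountM i d e)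
    (hi1 : i ≠ 1) :
    ∃ δ, δ ≤ e ∧ c ∣ 2 * (d - δ) ∧ (δ = e → Even i ∧ (d - e) % i = i / 2) := by
  have hcdvd : ∀ x, i ∣ x → c ∣ 2 * x := by
    intro x hx
    rw [hc]; unfold cOf
    split_ifs with hev
    · exact Dvd.dvd.mul_left hx 2
    · exact mul_dvd_mul_left 2 hx
  have hchalf : ∀ x, Even i → x % i = i / 2 → c ∣ 2 * x := by
    intro x hev hx
    rw [hc]; unfold cOf
    rw [if_pos hev]
    exact ar2m_half i x hev hx
  unfold CountM at hw
  rcases hw with ⟨j, hj, hdiv | ⟨hev, hmod⟩⟩ | ⟨hev, hmod | hmod⟩ | h1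
  · refine ⟨j + 1, by omega, ?_, fun h => by omega⟩
    rw [Nat.sub_sub] at hdiv
    exact hcdvd _ hdiv
  · exact ⟨j, by omega, hchalf _ hev hmod, fun h => by omega⟩
  · exact ⟨e - 1, by omega, hchalf _ hev hmod, fun h => by omega⟩
  · exact ⟨e, le_rfl, hchalf _ hev hmod, fun _ => ⟨hev, hmod⟩⟩
  · exact absurd h1 hi1

theorem arith_derange_ellM (i c d m : ℕ) (hi : 0 < i) (hc : c = cOf i) (hd : 4 ≤ d) (hm : 2 ≤ m) (hme : Even m)
    (hmn : m + 2 ≤ 2 * d) (hw : CountM i d (m / 2)) (hR : ¬ RhsOddM i c d m) :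
    ∃ T : ℕ, 1 ≤ T ∧ T * c ≤ 2 * d ∧ (0 < 2 * d - T * c ∨ (False ↔ tPlus i T)) ∧
      ∀ j : ℕ, j ≤ T → j * c ≤ m → ¬ GoodT False False i c T (2 * d - T * c) m j := by
  have hc0 : 0 < c := by rw [hc]; unfold cOf; split_ifs <;> omega
  obtain ⟨J, ρ, hmJ, hρ, hJdiv, hρmod⟩ :
      ∃ J ρ, m = J * c + ρ ∧ ρ < c ∧ m / c = J ∧ m % c = ρ :=
    ⟨m / c, m % c, (Nat.div_add_mod' m c).symm, Nat.mod_lt _ hc0, rfl, rfl⟩
  obtain ⟨T0, k0, hdT, hk0, hTdiv, hkmod⟩ :
      ∃ T0 k0, 2 * d = T0 * c + k0 ∧ k0 < c ∧ (2 * d) / c = T0 ∧ (2 * d) % c = k0 :=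
    ⟨(2 * d) / c, (2 * d) % c, (Nat.div_add_mod' (2 * d) c).symm,
      Nat.mod_lt _ hc0, rfl, rfl⟩
  obtain ⟨e, he⟩ := hme
  have he2 : m / 2 = e := by omega
  rw [he2] at hw
  have he1 : 1 ≤ e := by omega
  -- `j ≤ J`, and `j < J` makes `m - j c ≥ c`
  have hjJ : ∀ j, j * c ≤ m → j ≤ J := by
    intro j hj
    by_contra hlt
    push Not at hlt
    have h1 : (J + 1) * c ≤ j * c := Nat.mul_le_mul_right c hlt
    have h2 : (J + 1) * c = J * c + c := by ring
    omega
  have hjlt : ∀ j, j < J → j * c + c ≤ J * c := by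
    intro j hj
    have h1 : (j + 1) * c ≤ J * c := Nat.mul_le_mul_right c hj
    have h2 : (j + 1) * c = j * c + c := by ring
    omega
  have hJ0 : m < c → J = 0 := by
    intro h
    by_contra hJ
    have h1 : 1 * c ≤ J * c := Nat.mul_le_mul_right c (by omega)
    omega
  -- the information from the count, when `m < c`
  have hcount : m < c → ∃ δ, δ ≤ e ∧ k0 = 2 * δ ∧ (δ = e → Even i ∧ (d - e) % i = i / 2) := by
    intro hmc
    have hi1 : i ≠ 1 := by
      intro h1
      have : c = 2 := by rw [hc, h1]; unfold cOf; simp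
      omega
    obtain ⟨δ, hδe, hdiv, hδ⟩ := ar2m_delta i c d e hi hc he1 hw hi1
    exact ⟨δ, hδe, ar2m_key c T0 k0 δ d hdT hk0 (by omega) (by omega) hdiv, hδ⟩
  have hT0 : 1 ≤ T0 := by
    by_contra hT
    have hT' : T0 = 0 := by omega
    rw [hT', Nat.zero_mul] at hdT
    by_cases hcm : c ≤ m
    · omega
    · obtain ⟨δ, hδe, hk, -⟩ := hcount (by omega)
      omega
  have hR1 : ¬ (Odd i ∧ ((2 * d) % c = 0 ∨ (c ≤ m ∧ 0 < m % c ∧ m % c ≤ (2 * d) % c))) :=
    fun h => hR (Or.inl h)
  rw [hρmod, hkmod] at hR1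
  rcases Nat.even_or_odd i with hev | hodd
  · -- `i` even
    have hci : c = i := by rw [hc]; unfold cOf; rw [if_pos hev]
    have hnodd : ¬ Odd i := Nat.not_odd_iff_even.mpr hev
    have htp : ∀ j, tPlus i j ↔ j % 2 = 0 := fun j => by
      unfold tPlus
      rw [Nat.even_iff]
      constructor
      · rintro (h | h)
        · exact absurd h hnodd
        · exact h
      · intro h; exact Or.inr h
    have hR2 : ¬ (((2 * d) % c = 0 ∧ (Even ((2 * d) / i) ∨ (m % c = 0 ∧ Odd (m / i)))) ∨
        (0 < (2 * d) % c ∧ i ≤ m ∧ ((0 < m % c ∧ m % c < (2 * d) % c) ∨ (m % c = 0 ∧ Odd (m / i)) ∨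
          (m % c = (2 * d) % c ∧ Even ((2 * d + m - 2 * ((2 * d) % c)) / i))))) :=
      fun h => hR (Or.inr ⟨hev, h⟩)
    rw [hρmod, hkmod] at hR2
    rw [← hci, hTdiv, hJdiv] at hR2
    refine ⟨T0, hT0, by omega, ?_, ?_⟩
    · rw [htp]
      rcases Nat.eq_zero_or_pos k0 with hk00 | hk0pos
      · right
        have hT0odd : T0 % 2 = 1 := by
          by_contra hT
          apply hR2
          left
          exact ⟨hk00, Or.inl (Nat.even_iff.mpr (by omega))⟩
        constructor
        · exact False.elim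
        · intro h; omega
      · left; omega
    · intro j hjT hjm hg
      have hjJ' := hjJ j hjm
      unfold GoodT at hg
      simp only [htp] at hg
      rcases Nat.eq_zero_or_pos k0 with hk00 | hk0pos
      · -- `k0 = 0`
        rcases hg with ⟨h0, hiff⟩ | ⟨h1, h2⟩ | ⟨h1, h2, h3⟩
        · have hjodd : j % 2 = 1 := by
            by_contra hj2
            exact hiff.mpr (by omega)
          rcases lt_or_eq_of_le hjJ' with hlt | heq
          · have := hjlt j hlt
            omega
          · subst heq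
            apply hR2
            left
            exact ⟨hk00, Or.inr ⟨by omega, Nat.odd_iff.mpr hjodd⟩⟩
        · omega
        · omega
      · -- `k0 > 0`
        have hjeq : (m - j * c ≤ k0) → j = J := by
          intro hle
          rcases lt_or_eq_of_le hjJ' with hlt | heq
          · have := hjlt j hlt
            omega
          · exact heq
        by_cases hcm : c ≤ m
        · rcases hg with ⟨h0, hiff⟩ | ⟨h1, h2⟩ | ⟨h1, h2, h3⟩
          · have hjodd : j % 2 = 1 := by
              by_contra hj2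
              exact hiff.mpr (by omega)
            have hj := hjeq (by omega)
            subst hj
            apply hR2
            right
            exact ⟨hk0pos, hcm, Or.inr (Or.inl ⟨by omega, Nat.odd_iff.mpr hjodd⟩)⟩
          · have hj := hjeq (by omega)
            subst hj
            apply hR2
            right
            exact ⟨hk0pos, hcm, Or.inl ⟨by omega, by omega⟩⟩
          · have hj := hjeq (by omega)
            subst hj
            have hpar : (j + T0) % 2 = 0 := by
              by_contra hpar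
              apply h3.mpr
              constructor
              · intro hj0
                constructor
                · exact False.elim
                · intro hT; omega
              · intro hT
                by_contra hj0
                apply hT.mpr
                omega
            apply hR2
            right
            refine ⟨hk0pos, hcm, Or.inr (Or.inr ⟨by omega, ?_⟩)⟩
            have h4 : 2 * d + m - 2 * k0 = (T0 + j) * c := by rw [add_mul]; omega
            rw [h4, Nat.mul_div_cancel _ hc0, Nat.even_iff]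
            omega
        · -- `m < c`
          have hmc : m < c := by omega
          have hJz := hJ0 hmc
          obtain ⟨δ, hδe, hk, hδ⟩ := hcount hmc
          have hj0 : j = 0 := by omega
          subst hj0
          rw [hJz] at hmJ
          rcases hg with ⟨h0, hiff⟩ | ⟨h1, h2⟩ | ⟨h1, h2, h3⟩
          · exact hiff.mpr rfl
          · omega
          · -- `m = k0`, `T0` even: only `δ = e`
            have hT0ev : T0 % 2 = 0 := by
              by_contra hT
              apply h3.mpr
              constructor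
              · intro _
                constructor
                · exact False.elim
                · intro hT'; omega
              · intro _
                rfl
            have hδe' : δ = e := by omega
            obtain ⟨-, hmod⟩ := hδ hδe'
            -- `2 (d - e) = T0 c`, so `d - e = (T0 / 2) * i`
            obtain ⟨s, hs⟩ : ∃ s, T0 = 2 * s := ⟨T0 / 2, by omega⟩
            have h5 : T0 * c = 2 * (s * i) := by rw [hs, hci]; ring
            have h6 : d - e = s * i := by omega
            rw [h6, Nat.mul_mod_left] at hmod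
            obtain ⟨a, ha⟩ := hev
            omega
  · -- `i` odd
    have hci : c = 2 * i := by
      rw [hc]; unfold cOf; rw [if_neg (Nat.not_even_iff_odd.mpr hodd)]
    have htp : ∀ j, tPlus i j := fun j => Or.inl hodd
    have hk0pos : 0 < k0 := by
      by_contra hk
      exact hR1 ⟨hodd, Or.inl (by omega)⟩
    refine ⟨T0, hT0, by omega, Or.inl (by omega), ?_⟩
    intro j hjT hjm hg
    have hjJ' := hjJ j hjm
    unfold GoodT at hg
    have hle : 0 < m - j * c ∧ m - j * c ≤ k0 := by
      rcases hg with ⟨h0, hiff⟩ | ⟨h1, h2⟩ | ⟨h1, h2, h3⟩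
      · exact (hiff.mpr (htp j)).elim
      · omega
      · omega
    have hj : j = J := by
      rcases lt_or_eq_of_le hjJ' with hlt | heq
      · have := hjlt j hlt
        omega
      · exact heq
    subst hj
    by_cases hcm : c ≤ m
    · exact hR1 ⟨hodd, Or.inr ⟨hcm, by omega, by omega⟩⟩
    · have hmc : m < c := by omega
      obtain ⟨δ, hδe, hk, hδ⟩ := hcount hmc
      have hJz := hJ0 hmc
      rw [hJz, Nat.zero_mul] at hmJ hle
      have hδe' : δ = e := by omega
      obtain ⟨hev, -⟩ := hδ hδe'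
      exact (Nat.not_even_iff_odd.mpr hodd) hev

end Cfsg.Agent.Lib.Helper86.OEl
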