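import Cfsg.Agent.Lib.Helper86.OElAR2M

/-!
# K-OEl-AR2P (keystone 598805, S5988/S5990 pack of helper49): `arith_derange_ellP` (pure arithmetic; parallel hand)
-/

set_option autoImplicit false
set_option linter.unusedVariables false

namespace Cfsg.Agent.Lib.Helper86.OEl

open Module Cfsg.Agent.Lib.Helper98.Elus Cfsg.Agent.Lib.Helper98.Sy Cfsg.Agent.Lib.Helper38.OhP
  Cfsg.Agent.Lib.Helper49.OEl

/-- what `CountP` gives: some `δ ≤ e` with `c ∣ 2 (d - δ)` -/
theorem ar2p_delta (i c d e : ℕ) (hi : 0 < i) (hc : c = cOf i) (he : 1 ≤ e) (hw : CountP i d e) :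
    ∃ δ, δ ≤ e ∧ c ∣ 2 * (d - δ) ∧ (δ = e → i ∣ d - e) := by
  have hcdvd : ∀ x, i ∣ x → c ∣ 2 * x := by
    intro x hx
    rw [hc]; unfold cOf
    split_ifs with hev
    · exact Dvd.dvd.mul_left hx 2
    · exact mul_dvd_mul_left 2 hx
  have hchalf : ∀ x, Even i → x % i = i / 2 → c ∣ 2 * x := by
    intro x hev hx
    rw [hc]; unfold cOf
    rw [if_pos hev]
    exact ar2m_half i x hev hx
  unfold CountP at hw
  rcases hw with ⟨j, hj, hdiv | ⟨hev, hmod⟩⟩ | hdiv | hdiv
  · exact ⟨j, by omega, hcdvd _ hdiv, fun h => by omega⟩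
  · refine ⟨j + 1, by omega, ?_, fun h => by omega⟩
    rw [Nat.sub_sub] at hmod
    exact hchalf _ hev hmod
  · exact ⟨e - 1, by omega, hcdvd _ hdiv, fun h => by omega⟩
  · exact ⟨e, le_rfl, hcdvd _ hdiv, fun _ => hdiv⟩

theorem arith_derange_ellP (i c d m : ℕ) (hi : 0 < i) (hc : c = cOf i) (hd : 4 ≤ d) (hm : 2 ≤ m) (hme : Even m)
    (hmd : m < d) (hw : CountP i d (m / 2)) (hR : ¬ RhsOddP i c d m) :
    ∃ T : ℕ, 1 ≤ T ∧ T * c ≤ 2 * d ∧ (0 < 2 * d - T * c ∨ (True ↔ tPlus i T)) ∧
      ∀ j : ℕ, j ≤ T → j * c ≤ m → ¬ GoodT True False i c T (2 * d - T * c) m j := by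
  have hc0 : 0 < c := by rw [hc]; unfold cOf; split_ifs <;> omega
  obtain ⟨J, ρ, hmJ, hρ, hJdiv, hρmod⟩ :
      ∃ J ρ, m = J * c + ρ ∧ ρ < c ∧ m / c = J ∧ m % c = ρ :=
    ⟨m / c, m % c, (Nat.div_add_mod' m c).symm, Nat.mod_lt _ hc0, rfl, rfl⟩
  obtain ⟨T0, k0, hdT, hk0, hTdiv, hkmod⟩ :
      ∃ T0 k0, 2 * d = T0 * c + k0 ∧ k0 < c ∧ (2 * d) / c = T0 ∧ (2 * d) % c = k0 :=
    ⟨(2 * d) / c, (2 * d) % c, (Nat.div_add_mod' (2 * d) c).symm,
      Nat.mod_lt _ hc0, rfl, rfl⟩
  obtain ⟨e, he⟩ := hme
  have he2 : m / 2 = e := by omega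
  rw [he2] at hw
  have he1 : 1 ≤ e := by omega
  have hjJ : ∀ j, j * c ≤ m → j ≤ J := by
    intro j hj
    by_contra hlt
    push Not at hlt
    have h1 : (J + 1) * c ≤ j * c := Nat.mul_le_mul_right c hlt
    have h2 : (J + 1) * c = J * c + c := by ring
    omega
  have hjlt : ∀ j, j < J → j * c + c ≤ J * c := by
    intro j hj
    have h1 : (j + 1) * c ≤ J * c := Nat.mul_le_mul_right c hj
    have h2 : (j + 1) * c = j * c + c := by ring
    omega
  have hJ0 : m < c → J = 0 := by
    intro h
    by_contra hJ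
    have h1 : 1 * c ≤ J * c := Nat.mul_le_mul_right c (by omega)
    omega
  have hcount : m < c → ∃ δ, δ ≤ e ∧ k0 = 2 * δ ∧ (δ = e → i ∣ d - e) := by
    intro hmc
    obtain ⟨δ, hδe, hdiv, hδ⟩ := ar2p_delta i c d e hi hc he1 hw
    exact ⟨δ, hδe, ar2m_key c T0 k0 δ d hdT hk0 (by omega) (by omega) hdiv, hδ⟩
  have hT0 : 1 ≤ T0 := by
    by_contra hT
    have hT' : T0 = 0 := by omega
    rw [hT', Nat.zero_mul] at hdT
    by_cases hcm : c ≤ m
    · omega
    · obtain ⟨δ, hδe, hk, -⟩ := hcount (by omega)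
      omega
  rcases Nat.even_or_odd i with hev | hodd
  · -- `i` even
    have hci : c = i := by rw [hc]; unfold cOf; rw [if_pos hev]
    have hnodd : ¬ Odd i := Nat.not_odd_iff_even.mpr hev
    have htp : ∀ j, tPlus i j ↔ j % 2 = 0 := fun j => by
      unfold tPlus
      rw [Nat.even_iff]
      constructor
      · rintro (h | h)
        · exact absurd h hnodd
        · exact h
      · intro h; exact Or.inr h
    have hR2 : ¬ (((2 * d) % c = 0 ∧ (Odd ((2 * d) / i) ∨ (m % c = 0 ∧ Odd (m / i)))) ∨
        (i ≤ m ∧ ((0 < m % c ∧ m % c < (2 * d) % c) ∨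
          (0 < m % c ∧ m % c = (2 * d) % c ∧ Odd ((2 * d + m - 2 * ((2 * d) % c)) / i)) ∨
          (m % c = 0 ∧ 0 < (2 * d) % c ∧ Odd (m / i))))) :=
      fun h => hR (Or.inr ⟨hev, h⟩)
    rw [hρmod, hkmod] at hR2
    rw [← hci, hTdiv, hJdiv] at hR2
    refine ⟨T0, hT0, by omega, ?_, ?_⟩
    · rw [htp]
      rcases Nat.eq_zero_or_pos k0 with hk00 | hk0pos
      · right
        have hT0ev : T0 % 2 = 0 := by
          by_contra hT
          apply hR2
          left
          exact ⟨hk00, Or.inl (Nat.odd_iff.mpr (by omega))⟩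
        exact iff_of_true trivial hT0ev
      · left; omega
    · intro j hjT hjm hg
      have hjJ' := hjJ j hjm
      unfold GoodT at hg
      simp only [htp] at hg
      rcases Nat.eq_zero_or_pos k0 with hk00 | hk0pos
      · -- `k0 = 0`
        rcases hg with ⟨h0, hiff⟩ | ⟨h1, h2⟩ | ⟨h1, h2, h3⟩
        · have hjodd : j % 2 = 1 := by
            by_contra hj2
            exact hiff.mpr (by omega)
          rcases lt_or_eq_of_le hjJ' with hlt | heq
          · have := hjlt j hlt
            omega
          · subst heq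
            apply hR2
            left
            exact ⟨hk00, Or.inr ⟨by omega, Nat.odd_iff.mpr hjodd⟩⟩
        · omega
        · omega
      · -- `k0 > 0`
        have hjeq : (m - j * c ≤ k0) → j = J := by
          intro hle
          rcases lt_or_eq_of_le hjJ' with hlt | heq
          · have := hjlt j hlt
            omega
          · exact heq
        have hpar : ∀ (h3 : False ↔ (j % 2 = 0 ↔ (True ↔ T0 % 2 = 0))), (j + T0) % 2 = 1 := by
          intro h3
          by_contra hpar
          apply h3.mpr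
          constructor
          · intro hj0
            constructor
            · intro _; omega
            · intro _; trivial
          · intro hT
            have := hT.mp trivial
            omega
        by_cases hcm : c ≤ m
        · rcases hg with ⟨h0, hiff⟩ | ⟨h1, h2⟩ | ⟨h1, h2, h3⟩
          · have hjodd : j % 2 = 1 := by
              by_contra hj2
              exact hiff.mpr (by omega)
            have hj := hjeq (by omega)
            subst hj
            apply hR2
            right
            exact ⟨hcm, Or.inr (Or.inr ⟨by omega, hk0pos, Nat.odd_iff.mpr hjodd⟩)⟩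
          · have hj := hjeq (by omega)
            subst hj
            apply hR2
            right
            exact ⟨hcm, Or.inl ⟨by omega, by omega⟩⟩
          · have hj := hjeq (by omega)
            subst hj
            have hp := hpar h3
            apply hR2
            right
            refine ⟨hcm, Or.inr (Or.inl ⟨by omega, by omega, ?_⟩)⟩
            have h4 : 2 * d + m - 2 * k0 = (T0 + j) * c := by rw [add_mul]; omega
            rw [h4, Nat.mul_div_cancel _ hc0, Nat.odd_iff]
            omega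
        · -- `m < c`
          have hmc : m < c := by omega
          have hJz := hJ0 hmc
          obtain ⟨δ, hδe, hk, hδ⟩ := hcount hmc
          have hj0 : j = 0 := by omega
          subst hj0
          rw [hJz] at hmJ
          rcases hg with ⟨h0, hiff⟩ | ⟨h1, h2⟩ | ⟨h1, h2, h3⟩
          · exact hiff.mpr rfl
          · omega
          · -- `m = k0`, `T0` odd: only `δ = e`, then `i ∣ d - e` and `2 (d - e) = T0 i`
            have hp := hpar h3
            have hδe' : δ = e := by omega
            obtain ⟨t, ht⟩ := hδ hδe'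
            have h5 : T0 * c = i * T0 := by rw [hci]; ring
            have h6 : i * T0 = i * (2 * t) := by
              have : 2 * (i * t) = i * (2 * t) := by ring
              omega
            have h7 : T0 = 2 * t := Nat.eq_of_mul_eq_mul_left hi h6
            omega
  · -- `i` odd
    have hci : c = 2 * i := by
      rw [hc]; unfold cOf; rw [if_neg (Nat.not_even_iff_odd.mpr hodd)]
    have htp : ∀ j, tPlus i j := fun j => Or.inl hodd
    have hR1 : ¬ (Odd i ∧ c ≤ m ∧ 0 < m % c ∧ m % c < (2 * d) % c) := fun h => hR (Or.inl h)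
    rw [hρmod, hkmod] at hR1
    refine ⟨T0, hT0, by omega, Or.inr (iff_of_true trivial (htp T0)), ?_⟩
    intro j hjT hjm hg
    have hjJ' := hjJ j hjm
    unfold GoodT at hg
    have hle : 0 < m - j * c ∧ m - j * c < k0 := by
      rcases hg with ⟨h0, hiff⟩ | ⟨h1, h2⟩ | ⟨h1, h2, h3⟩
      · exact (hiff.mpr (htp j)).elim
      · omega
      · exact (h3.mpr (iff_of_true (htp j) (iff_of_true trivial (htp T0)))).elim
    have hj : j = J := by
      rcases lt_or_eq_of_le hjJ' with hlt | heq
      · have := hjlt j hlt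
        omega
      · exact heq
    subst hj
    by_cases hcm : c ≤ m
    · exact hR1 ⟨hodd, hcm, by omega, by omega⟩
    · have hmc : m < c := by omega
      obtain ⟨δ, hδe, hk, hδ⟩ := hcount hmc
      have hJz := hJ0 hmc
      rw [hJz, Nat.zero_mul] at hmJ hle
      omega

end Cfsg.Agent.Lib.Helper86.OEl
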