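/-
K-OhP LEAF A (597401), the `2 ≠ 0` half (parallel hand; 15 lines from helper63's `plus_sup_iff`).
-/
import Cfsg.Agent.Lib.Helper38.OhP.Defs
import Cfsg.Agent.Lib.Helper63.OhA

set_option autoImplicit false
set_option linter.unusedSectionVars false
set_option linter.unusedVariables false

namespace Cfsg.Agent.Lib.Helper86.OhP

open Module Cfsg.Agent.Lib.Helper98.Elus Cfsg.Agent.Lib.Helper98.Sy Cfsg.Agent.Lib.Helper38.OhP

universe u
variable {F : Type u} [Field F] {V : Type u} [AddCommGroup V] [Module F V]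

/-- LEAF A for `2 ≠ 0` -/
theorem plusQ_sup_iff_of_two_ne_zero [Fintype F] [FiniteDimensional F V] (h2 : (2 : F) ≠ 0)
    (Q : QuadraticForm F V)
    (W1 W2 : Submodule F V) (h1 : NonDeg (pB Q) W1) (h2' : NonDeg (pB Q) W2) (hort : Ort (pB Q) W1 W2)
    (he1 : Even (finrank F W1)) (he2 : Even (finrank F W2)) :
    PlusQ Q (W1 ⊔ W2) ↔ (PlusQ Q W1 ↔ PlusQ Q W2) := by
  rw [plusQ_iff_plus h2, plusQ_iff_plus h2, plusQ_iff_plus h2]
  exact Cfsg.Agent.Lib.Helper63.Oh.plus_sup_iff h2 (pB Q) (pB_symm Q) W1 W2 h1 h2' hort he1 he2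

end Cfsg.Agent.Lib.Helper86.OhP
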