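import Mathlib
import Cfsg.Agent.Lib.Helper48.PSL2Spec
import Cfsg.Agent.Lib.Helper86.PG2PGLb3

/-!
# K-PG2 pack (S3452), leaf PGLa: element orders of `PGL₂(F)` divide `p`, `q - 1` or `q + 1`
(port of `Helper48.psl2_orderOf_dvd`; valid in every characteristic)
-/

set_option autoImplicit false
set_option linter.unusedSectionVars false
set_option linter.unusedVariables false

namespace Cfsg.Agent.Lib.Helper86.PG2

open Matrix Cfsg.Agent.Lib.Helper48

theorem pgl2_orderOf_dvd {F : Type*} [Field F] [Fintype F] (p : ℕ) [Fact p.Prime] [CharP F p] (hp : p ≠ 2)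
    (x : PGL2 F) :
    orderOf x ∣ p ∨ orderOf x ∣ Fintype.card F - 1 ∨ orderOf x ∣ Fintype.card F + 1 := by
  classical
  have hpp : p.Prime := Fact.out
  obtain ⟨A, rfl⟩ := QuotientGroup.mk_surjective x
  obtain ⟨q, hq⟩ : ∃ q, q = Fintype.card F := ⟨_, rfl⟩
  rw [← hq]
  have hq2 : 2 ≤ q := by rw [hq]; exact Fintype.one_lt_card
  set M : Matrix (Fin 2) (Fin 2) F := (A : Matrix (Fin 2) (Fin 2) F) with hM
  have hdetM : M.det ≠ 0 := by
    have h := Matrix.GeneralLinearGroup.det_ne_zero A
    exact h
  let K := FiniteField.Extension F p 2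
  let φ : F →+* K := algebraMap F K
  have : CharP K p := charP_of_injective_algebraMap φ.injective p
  obtain ⟨l, hl⟩ := exists_root_quadratic p M.trace M.det
  set m : K := φ M.trace - l with hm
  have hsum : (φ.mapMatrix M).trace = l + m := by
    rw [trace_mapMatrix, hm]; ring
  have hprod : l * m = φ M.det := by
    have : l * m = -(l ^ 2 - algebraMap F K M.trace * l + algebraMap F K M.det) + φ M.det := by
      rw [hm]; ring
    rw [this, hl]; ring
  have hdet : (φ.mapMatrix M).det = l * m := by
    rw [det_mapMatrix, hprod]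
  have hφd : φ M.det ≠ 0 := by
    intro h
    exact hdetM (φ.injective (h.trans (map_zero φ).symm))
  have hlne : l ≠ 0 := by
    rintro rfl
    rw [zero_mul] at hprod
    exact hφd hprod.symm
  have hmne : m ≠ 0 := by
    intro h
    rw [h, mul_zero] at hprod
    exact hφd hprod.symm
  -- reduction: enough to find N with (φ M)^N scalar
  have hred : ∀ N : ℕ, (∃ c : K, (φ.mapMatrix M) ^ N = c • (1 : Matrix (Fin 2) (Fin 2) K)) →
      orderOf (QuotientGroup.mk A : PGL2 F) ∣ N := by
    intro N hN
    apply orderOf_dvd_of_pow_eq_one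
    rw [pgl2_mk_pow_eq_one_iff]
    exact (pow_scalar_iff_map φ M N).mpr hN
  by_cases hlm : l = m
  · -- unipotent case
    left
    apply hred
    refine ⟨l ^ p, ?_⟩
    set B : Matrix (Fin 2) (Fin 2) K := φ.mapMatrix M with hB
    have hCH := cayley_hamilton_fin_two B
    rw [hsum, hdet, ← hlm] at hCH
    have hsq : (B - l • (1 : Matrix (Fin 2) (Fin 2) K)) ^ 2 = 0 := by
      rw [pow_two, Matrix.sub_mul, Matrix.mul_sub, Matrix.mul_sub, ← pow_two, hCH]
      simp only [Matrix.mul_smul, Matrix.smul_mul, Matrix.mul_one, Matrix.one_mul, smul_smul, add_smul]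
      abel
    have hNp : (B - l • (1 : Matrix (Fin 2) (Fin 2) K)) ^ p = 0 := by
      have h2p : 2 + (p - 2) = p := by have := hpp.two_le; omega
      have : (B - l • (1 : Matrix (Fin 2) (Fin 2) K)) ^ p =
          (B - l • (1 : Matrix (Fin 2) (Fin 2) K)) ^ 2 * (B - l • (1 : Matrix (Fin 2) (Fin 2) K)) ^ (p - 2) := by
        rw [← pow_add, h2p]
      rw [this, hsq, zero_mul]
    have hcomm : Commute (B - l • (1 : Matrix (Fin 2) (Fin 2) K)) (l • (1 : Matrix (Fin 2) (Fin 2) K)) := by
      apply Commute.smul_right
      exact Commute.one_right _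
    have : B = (B - l • (1 : Matrix (Fin 2) (Fin 2) K)) + l • (1 : Matrix (Fin 2) (Fin 2) K) := by abel
    rw [this, add_pow_char_of_commute p hcomm, hNp, zero_add, smul_pow, one_pow]
  · right
    by_cases hrat : ∃ l₀ : F, φ l₀ = l
    · -- split case
      left
      obtain ⟨l₀, hl₀⟩ := hrat
      have hl₀ne : l₀ ≠ 0 := by
        rintro rfl
        rw [map_zero] at hl₀
        exact hlne hl₀.symm
      have hm₀ : φ (M.trace - l₀) = m := by
        rw [map_sub, hl₀]
      have hm₀ne : M.trace - l₀ ≠ 0 := by
        intro h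
        rw [h, map_zero] at hm₀
        exact hmne hm₀.symm
      have hpowl : l ^ (q - 1) = 1 := by
        rw [← hl₀, ← map_pow, hq, FiniteField.pow_card_sub_one_eq_one l₀ hl₀ne, map_one]
      have hpowm : m ^ (q - 1) = 1 := by
        rw [← hm₀, ← map_pow, hq, FiniteField.pow_card_sub_one_eq_one _ hm₀ne, map_one]
      apply hred
      refine ⟨l ^ (q - 1), ?_⟩
      apply pow_eq_smul_one_of_pow_eq hlm hsum hdet
      rw [hpowl, hpowm]
    · -- non-split case
      right
      have hfrobl : (FiniteField.Extension.frob F p 2) l = l ^ q := by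
        rw [FiniteField.Extension.frob_apply, Nat.card_eq_fintype_card, hq]
      have hfrobm : (FiniteField.Extension.frob F p 2) m = m ^ q := by
        rw [FiniteField.Extension.frob_apply, Nat.card_eq_fintype_card, hq]
      have hfrob : (l ^ q) ^ 2 - algebraMap F K M.trace * l ^ q + algebraMap F K M.det = 0 := by
        have h1 := congrArg (FiniteField.Extension.frob F p 2) hl
        simp only [map_sub, map_add, map_mul, map_pow, map_zero, AlgEquiv.commutes] at h1
        rw [hfrobl] at h1
        exact h1
      have hlq : l ^ q = m := by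
        have hfac : (l ^ q - l) * (l ^ q - m) = 0 := by
          have : (l ^ q - l) * (l ^ q - m) =
              ((l ^ q) ^ 2 - algebraMap F K M.trace * l ^ q + algebraMap F K M.det) := by
            have hp' : algebraMap F K M.det = l * m := hprod.symm
            rw [hp', hm]; ring
          rw [this, hfrob]
        rcases mul_eq_zero.mp hfac with h | h
        · exfalso
          apply hrat
          have h' : l ^ Fintype.card F = l := by rw [← hq]; exact sub_eq_zero.mp h
          exact exists_algebraMap_eq_of_pow_card_eq l h'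
        · exact sub_eq_zero.mp h
      have hmq : m ^ q = l := by
        rw [← hfrobm, hm, map_sub, hfrobl, hlq]
        have : (FiniteField.Extension.frob F p 2) (φ M.trace) = φ M.trace :=
          AlgEquiv.commutes _ _
        rw [this, hm]; ring
      apply hred
      refine ⟨l ^ (q + 1), ?_⟩
      apply pow_eq_smul_one_of_pow_eq hlm hsum hdet
      rw [pow_succ, pow_succ, hlq, hmq, mul_comm]

end Cfsg.Agent.Lib.Helper86.PG2
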