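import Mathlib

set_option autoImplicit false
set_option linter.unusedSectionVars false
set_option linter.unusedVariables false

/-!
# K-RSU3 leaf L15 (S2283): number theory.  `|F| = q²`, `q ≥ 3`, `q ≠ 5, 8`, `μ` of order `q+1`:
a subset containing `1`, closed under `+` and under multiplication by `μ³`, is everything.
-/

namespace Cfsg.Agent.Lib.Helper86.RSU3

/-- the arithmetic core -/
theorem rsu3L15_arith (q r m : ℕ) (hq : 3 ≤ q) (hq5 : q ≠ 5) (hq8 : q ≠ 8) (hr : 2 ≤ r)
    (hrm : r ^ m = q ^ 2) (hd : (q + 1) / Nat.gcd (q + 1) 3 ∣ r - 1) : m = 1 := by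
  set g := Nat.gcd (q + 1) 3 with hg
  have hg3 : g ≤ 3 := Nat.le_of_dvd (by norm_num) (Nat.gcd_dvd_right _ _)
  have hgpos : 0 < g := Nat.gcd_pos_of_pos_right _ (by norm_num)
  have hgd : g ∣ q + 1 := Nat.gcd_dvd_left _ _
  set d := (q + 1) / g with hdd
  have hdg : d * g = q + 1 := Nat.div_mul_cancel hgd
  have hdle : d ≤ r - 1 := Nat.le_of_dvd (by omega) hd
  have hq3d : q + 1 ≤ 3 * d := by nlinarith
  have hqr : q + 4 ≤ 3 * r := by omega
  rcases Nat.lt_or_ge m 3 with hm | hm
  · interval_cases m
    · -- m = 0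
      exfalso
      rw [pow_zero] at hrm
      nlinarith
    · rfl
    · -- m = 2
      exfalso
      have hrq : r = q := Nat.pow_left_injective (n := 2) (by norm_num) hrm
      subst hrq
      have h1 : d ∣ r + 1 := ⟨g, hdg.symm⟩
      have h2 : d ∣ (r + 1) - (r - 1) := Nat.dvd_sub h1 hd
      have h3 : (r + 1) - (r - 1) = 2 := by omega
      rw [h3] at h2
      have hd2 : d ≤ 2 := Nat.le_of_dvd (by norm_num) h2
      have hr5 : r ≤ 5 := by omega
      interval_cases r
      · -- r = 3: g = gcd 4 3 = 1, d = 4
        have : g = 1 := by rw [hg]; decide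
        rw [this] at hdg
        omega
      · -- r = 4: g = gcd 5 3 = 1, d = 5
        have : g = 1 := by rw [hg]; decide
        rw [this] at hdg
        omega
      · exact hq5 rfl
  · exfalso
    have h3 : r ^ 3 ≤ q ^ 2 := by
      rw [← hrm]
      exact Nat.pow_le_pow_right (by omega) hm
    have hq2 : q ≤ 3 * r - 4 := by omega
    have hr9 : r < 9 := by
      by_contra hcon
      push Not at hcon
      have : q ^ 2 < r ^ 3 := by
        have h5 : q < 3 * r := by omega
        have : q ^ 2 < (3 * r) ^ 2 := Nat.pow_lt_pow_left h5 (by norm_num)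
        nlinarith
      omega
    have hr3 : 3 ≤ r := by omega
    interval_cases r
    · -- r = 3: q ≤ 5, q² ≥ 27
      have : q ≤ 5 := by omega
      nlinarith
    · -- r = 4: q ≤ 8, q² ≥ 64
      have h8 : q ≤ 8 := by omega
      have : 8 ≤ q := by nlinarith
      exact hq8 (by omega)
    · have : q ≤ 11 := by omega
      nlinarith
    · have : q ≤ 14 := by omega
      nlinarith
    · have : q ≤ 17 := by omega
      nlinarith
    · have : q ≤ 20 := by omega
      nlinarith

variable {F : Type*} [Field F] [Fintype F] {q : ℕ}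

theorem span_generic (hq : 3 ≤ q) (hq5 : q ≠ 5) (hq8 : q ≠ 8) (hF : Fintype.card F = q ^ 2)
    (μ : F) (hμ : orderOf μ = q + 1) (S : Set F) (h1 : (1 : F) ∈ S)
    (hadd : ∀ a ∈ S, ∀ b ∈ S, a + b ∈ S) (hmul : ∀ a ∈ S, μ ^ 3 * a ∈ S) : ∀ c : F, c ∈ S := by
  classical
  -- the characteristic
  obtain ⟨p, hchar⟩ := CharP.exists F
  haveI : CharP F p := hchar
  have hp : p.Prime := by
    rcases CharP.char_is_prime_or_zero F p with h | h
    · exact h
    · exfalso
      haveI : CharP F 0 := h ▸ hchar
      haveI : CharZero F := CharP.charP_to_charZero F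
      exact not_finite F
  have hp0 : (p : F) = 0 := CharP.cast_eq_zero F p
  -- `S` is closed under positive multiples, contains `0`, closed under negation
  have hnsmul : ∀ a ∈ S, ∀ n : ℕ, ((n + 1 : ℕ) : F) * a ∈ S := by
    intro a ha n
    induction n with
    | zero => simpa using ha
    | succ n ih =>
      have := hadd _ ih _ ha
      have e : ((n + 1 : ℕ) : F) * a + a = ((n + 1 + 1 : ℕ) : F) * a := by
        push_cast; ring
      rwa [e] at this
  have h0 : (0 : F) ∈ S := by
    have := hnsmul 1 h1 (p - 1)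
    rw [Nat.sub_add_cancel hp.one_le, hp0, zero_mul] at this
    exact this
  have hneg : ∀ a ∈ S, -a ∈ S := by
    intro a ha
    have hp2 : 2 ≤ p := hp.two_le
    have := hnsmul a ha (p - 2)
    have e : ((p - 2 + 1 : ℕ) : F) * a = -a := by
      have e1 : p - 2 + 1 = p - 1 := by omega
      rw [e1, Nat.cast_sub hp.one_le, hp0]
      simp
    rwa [e] at this
  -- the multiplier set is closed under powers
  have hpowmem : ∀ x : F, (∀ a ∈ S, x * a ∈ S) → ∀ n : ℕ, ∀ a ∈ S, x ^ n * a ∈ S := by
    intro x hx n
    induction n with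
    | zero => intro a ha; simpa using ha
    | succ n ih =>
      intro a ha
      rw [pow_succ, mul_assoc]
      exact ih _ (hx a ha)
  -- the multiplier field
  let K : Subfield F :=
    { carrier := {x | ∀ a ∈ S, x * a ∈ S}
      mul_mem' := fun {x y} hx hy a ha => by
        rw [mul_assoc]; exact hx _ (hy a ha)
      one_mem' := fun a ha => by rw [one_mul]; exact ha
      add_mem' := fun {x y} hx hy a ha => by
        rw [add_mul]; exact hadd _ (hx a ha) _ (hy a ha)
      zero_mem' := fun a _ => by rw [zero_mul]; exact h0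
      neg_mem' := fun {x} hx a ha => by
        rw [neg_mul]; exact hneg _ (hx a ha)
      inv_mem' := fun x hx => by
        by_cases hx0 : x = 0
        · rw [hx0, inv_zero]
          intro a _
          rw [zero_mul]; exact h0
        · have hone : x ^ (Fintype.card F - 1) = 1 := FiniteField.pow_card_sub_one_eq_one x hx0
          have hcard2 : 2 ≤ Fintype.card F := by
            rw [hF]; nlinarith
          have e : x⁻¹ = x ^ (Fintype.card F - 2) := by
            apply inv_eq_of_mul_eq_one_left
            rw [← pow_succ]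
            have : Fintype.card F - 2 + 1 = Fintype.card F - 1 := by omega
            rw [this, hone]
          rw [e]
          exact hpowmem x hx _ }
  have hKmem : ∀ x : F, x ∈ K ↔ ∀ a ∈ S, x * a ∈ S := fun x => Iff.rfl
  have hμK : μ ^ 3 ∈ K := (hKmem _).2 hmul
  have hKS : ∀ x ∈ K, x ∈ S := by
    intro x hx
    have := (hKmem x).1 hx 1 h1
    rwa [mul_one] at this
  -- cardinalities
  haveI : Fintype K := Fintype.ofFinite K
  set r := Fintype.card K with hr
  set m := Module.finrank K F with hm
  have hcard : Fintype.card F = r ^ m := Module.card_eq_pow_finrank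
  have hr2 : 2 ≤ r := by
    have : 1 < Fintype.card K := Fintype.one_lt_card
    omega
  have hμ0 : μ ≠ 0 := by
    intro h
    rw [h, orderOf_zero] at hμ
    · omega
  have hμ3 : (⟨μ ^ 3, hμK⟩ : K) ≠ 0 := by
    intro h
    have := congrArg (fun z : K => (z : F)) h
    simp only [ZeroMemClass.coe_zero] at this
    exact hμ0 (pow_eq_zero_iff (by norm_num) |>.1 this)
  have hpow1 : (μ ^ 3) ^ (r - 1) = 1 := by
    have := FiniteField.pow_card_sub_one_eq_one (⟨μ ^ 3, hμK⟩ : K) hμ3
    have := congrArg (fun z : K => (z : F)) this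
    simpa using this
  have hdvd : (q + 1) / Nat.gcd (q + 1) 3 ∣ r - 1 := by
    have := orderOf_dvd_of_pow_eq_one hpow1
    rwa [orderOf_pow' μ (by norm_num : (3 : ℕ) ≠ 0), hμ] at this
  have hm1 : m = 1 := rsu3L15_arith q r m hq hq5 hq8 hr2 (by rw [← hcard, hF]) hdvd
  -- `K` is everything
  have hcardKF : Fintype.card K = Fintype.card F := by
    rw [hcard, hm1, pow_one]
  have hbij : Function.Bijective (fun x : K => (x : F)) :=
    (Fintype.bijective_iff_injective_and_card _).2 ⟨Subtype.val_injective, hcardKF⟩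
  intro c
  obtain ⟨x, hx⟩ := hbij.2 c
  rw [← hx]
  exact hKS _ x.2

end Cfsg.Agent.Lib.Helper86.RSU3
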