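import Mathlib
import Cfsg.Agent.Lib.Helper73.RUDefs
import Cfsg.Agent.Lib.Helper73.RUHub
import Cfsg.Agent.Lib.Helper02.RU4Defs

set_option autoImplicit false

/-!
# K-RU4 leaf H (S2279): the entries of `aMat ^ k` are binomial coefficients
-/

namespace Cfsg.Agent.Lib.Helper86.RU4

open Matrix Cfsg.Agent.Lib.Helper73.RU Cfsg.Agent.Lib.Helper73.RUSpec

theorem aMat_pow_apply (m : ℕ) (F : Type*) [Field F] (k : ℕ) (i j : Fin (m + 3)) :
    (aMat m F ^ k) i j = if i.val ≤ j.val then ((Nat.choose k (j.val - i.val) : ℕ) : F) else 0 := by
  induction k generalizing i j with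
  | zero =>
    rw [pow_zero, Matrix.one_apply]
    by_cases hij : i = j
    · subst hij
      simp
    · rw [if_neg hij]
      by_cases hle : i.val ≤ j.val
      · rw [if_pos hle]
        have hlt : i.val < j.val := lt_of_le_of_ne hle (fun h => hij (Fin.ext h))
        obtain ⟨d, hd⟩ : ∃ d, j.val - i.val = d + 1 := ⟨j.val - i.val - 1, by omega⟩
        rw [hd, Nat.choose_zero_succ, Nat.cast_zero]
      · rw [if_neg hle]
  | succ k ih =>
    rw [pow_succ, Matrix.mul_apply]
    have ha : ∀ l j : Fin (m + 3),
        aMat m F l j = if l = j ∨ l.val + 1 = j.val then 1 else 0 := fun l j => rfl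
    simp only [ha]
    by_cases hj : j.val = 0
    · have hj0 : j = 0 := Fin.ext (by simpa using hj)
      subst hj0
      rw [Finset.sum_eq_single (0 : Fin (m + 3))]
      · rw [if_pos (Or.inl rfl), mul_one, ih]
        by_cases hi : i.val ≤ (0 : Fin (m + 3)).val
        · rw [if_pos hi, if_pos hi]
          have : (0 : Fin (m + 3)).val - i.val = 0 := by
            simp only [Fin.val_zero] at hi ⊢
            omega
          rw [this, Nat.choose_zero_right, Nat.choose_zero_right]
        · rw [if_neg hi, if_neg hi]
      · intro b _ hb
        have : ¬ (b = 0 ∨ b.val + 1 = (0 : Fin (m + 3)).val) := by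
          rintro (h | h)
          · exact hb h
          · simp at h
        rw [if_neg this, mul_zero]
      · intro h
        exact absurd (Finset.mem_univ _) h
    · obtain ⟨j', hj'⟩ : ∃ j' : Fin (m + 3), j'.val + 1 = j.val :=
        ⟨⟨j.val - 1, by omega⟩, by simp only; omega⟩
      have hne : j ≠ j' := by
        intro h
        rw [h] at hj'
        omega
      rw [Finset.sum_eq_add j j' hne]
      · rw [if_pos (Or.inl rfl), if_pos (Or.inr hj'), mul_one, mul_one, ih, ih]
        by_cases h1 : i.val ≤ j'.val
        · have h2 : i.val ≤ j.val := by omega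
          rw [if_pos h1, if_pos h2, if_pos h2]
          obtain ⟨d, hd⟩ : ∃ d, j'.val - i.val = d := ⟨_, rfl⟩
          have hd' : j.val - i.val = d + 1 := by omega
          rw [hd, hd', Nat.choose_succ_succ, Nat.cast_add]
          ring
        · rw [if_neg h1]
          by_cases h2 : i.val ≤ j.val
          · have h3 : j.val - i.val = 0 := by omega
            rw [if_pos h2, if_pos h2, h3, Nat.choose_zero_right, Nat.choose_zero_right, add_zero]
          · rw [if_neg h2, if_neg h2, add_zero]
      · intro c _ hc
        have : ¬ (c = j ∨ c.val + 1 = j.val) := by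
          rintro (h | h)
          · exact hc.1 h
          · exact hc.2 (Fin.ext (by omega))
        rw [if_neg this, mul_zero]
      · intro h
        exact absurd (Finset.mem_univ _) h
      · intro h
        exact absurd (Finset.mem_univ _) h

end Cfsg.Agent.Lib.Helper86.RU4
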