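import Mathlib
import Cfsg.Agent.Lib.Helper73.RUDefs
import Cfsg.Agent.Lib.Helper73.RUHub
import Cfsg.Agent.Lib.Helper02.RU4Defs

set_option autoImplicit false

/-!
# K-RU4 leaf K (S2279): the `c_k`, `k ≤ m+1`, span `{x | x 0 = 0}` (triangular basis)
-/

namespace Cfsg.Agent.Lib.Helper86.RU4

open Matrix Cfsg.Agent.Lib.Helper73.RU Cfsg.Agent.Lib.Helper73.RUSpec Cfsg.Agent.Lib.Helper02.RU4

theorem ru4k_ck_apply {m : ℕ} {F : Type*} [Field F]
    (hH : ∀ (k : ℕ) (i j : Fin (m + 3)),
      (aMat m F ^ k) i j = if i.val ≤ j.val then ((Nat.choose k (j.val - i.val) : ℕ) : F) else 0)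
    (k : ℕ) (i : Fin (m + 3)) : ck m F k i = ((Nat.choose k (m + 2 - i.val) : ℕ) : F) := by
  unfold ck
  have h : ((aMat m F ^ k) *ᵥ (Pi.single (Fin.last (m + 2)) 1)) i =
      (aMat m F ^ k) i (Fin.last (m + 2)) := by
    simp [Matrix.mulVec, dotProduct, Pi.single_apply]
  have hi : i.val ≤ (Fin.last (m + 2)).val := by
    rw [Fin.val_last]
    have := i.isLt
    omega
  rw [h, hH, if_pos hi, Fin.val_last]

theorem tri_fill {m : ℕ} {F : Type*} [Field F]
    (hH : ∀ (k : ℕ) (i j : Fin (m + 3)),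
      (aMat m F ^ k) i j = if i.val ≤ j.val then ((Nat.choose k (j.val - i.val) : ℕ) : F) else 0)
    (M : Set (Fin (m + 3) → F)) (h0 : (0 : Fin (m + 3) → F) ∈ M)
    (hadd : ∀ v w, v ∈ M → w ∈ M → v + w ∈ M) (hneg : ∀ v, v ∈ M → -v ∈ M)
    (hck : ∀ k, k ≤ m + 1 → ∀ s : F, s • ck m F k ∈ M) :
    ∀ x : Fin (m + 3) → F, x 0 = 0 → x ∈ M := by
  have P : ∀ k : ℕ, k ≤ m + 2 → ∀ v : Fin (m + 3) → F,
      (∀ i : Fin (m + 3), i.val + k < m + 3 → v i = 0) → v ∈ M := by
    intro k
    induction k with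
    | zero =>
      intro _ v hv
      have : v = 0 := by
        ext i
        exact hv i (by have := i.isLt; omega)
      rw [this]
      exact h0
    | succ k ih =>
      intro hk v hv
      set i0 : Fin (m + 3) := ⟨m + 2 - k, by omega⟩ with hi0
      set t : F := v i0 with ht
      have hw : v - t • ck m F k ∈ M := by
        apply ih (by omega)
        intro i hi
        rw [Pi.sub_apply, Pi.smul_apply, ru4k_ck_apply hH, smul_eq_mul]
        by_cases hlt : i.val + (k + 1) < m + 3
        · rw [hv i hlt, Nat.choose_eq_zero_of_lt (by omega)]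
          simp
        · have hiv : i.val = m + 2 - k := by omega
          have hii : i = i0 := Fin.ext (by rw [hi0]; exact hiv)
          rw [hii, ← ht, hi0]
          have : m + 2 - (m + 2 - k) = k := by omega
          simp only [this, Nat.choose_self, Nat.cast_one, mul_one, sub_self]
      have := hadd _ _ hw (hck k (by omega) t)
      rwa [sub_add_cancel] at this
  intro x hx
  apply P (m + 2) le_rfl
  intro i hi
  have : i = 0 := Fin.ext (by simp only [Fin.val_zero]; omega)
  rw [this]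
  exact hx

end Cfsg.Agent.Lib.Helper86.RU4
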