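import Mathlib
import Cfsg.Prelude.Def_RootSubgroups
import Cfsg.Agent.Lib.Helper86.SpecialRk1
import Cfsg.Agent.Lib.Helper07.SteinbergLift

/-!
A special rank one pair `(A, B)` with abelian `A`, `B`, and a partner pair `(a, b)` with `a ^ p = 1`:
Steinberg data `t ↦ a ^ t`, `t ↦ b ^ t` over `ZMod p`, the resulting homomorphism
`SL₂(p) → G` with image `⟨a, b⟩`, and its kernel (contained in `{1, h(-1)}`).
-/

set_option autoImplicit false

namespace Cfsg.Agent.Lib.Helper86

open Cfsg Cfsg.Agent.Lib.Helper07 Matrix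

variable {G : Type*} [Group G] {A B : Subgroup G}

section xf
variable (p : ℕ) [Fact p.Prime]

/-- `t ↦ a ^ t` for `t : ZMod p`. -/
def xf (a : G) (t : ZMod p) : G := a ^ t.val

variable {p}

theorem xf_natCast {a : G} (hap : a ^ p = 1) (n : ℕ) : xf p a (n : ZMod p) = a ^ n := by
  unfold xf
  rw [ZMod.val_natCast, ← pow_eq_pow_mod n hap]

theorem xf_add {a : G} (hap : a ^ p = 1) (t u : ZMod p) :
    xf p a t * xf p a u = xf p a (t + u) := by
  unfold xf
  rw [← pow_add, ZMod.val_add, ← pow_eq_pow_mod _ hap]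

theorem xf_zero (a : G) : xf p a 0 = 1 := by
  unfold xf; rw [ZMod.val_zero, pow_zero]

theorem xf_one (a : G) : xf p a 1 = a := by
  unfold xf; rw [ZMod.val_one, pow_one]

theorem xf_neg {a : G} (hap : a ^ p = 1) (t : ZMod p) : xf p a (-t) = (xf p a t)⁻¹ := by
  rw [eq_inv_iff_mul_eq_one, xf_add hap, neg_add_cancel, xf_zero]

theorem xf_pow {a : G} (hap : a ^ p = 1) (t : ZMod p) (n : ℕ) :
    (xf p a t) ^ n = xf p a (t * n) := by
  have h : t * (n : ZMod p) = ((t.val * n : ℕ) : ZMod p) := by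
    rw [Nat.cast_mul, ZMod.natCast_zmod_val]
  rw [h, xf_natCast hap]
  unfold xf
  rw [pow_mul]

theorem xf_pow_prime {a : G} (hap : a ^ p = 1) (t : ZMod p) : (xf p a t) ^ p = 1 := by
  unfold xf
  rw [← pow_mul, mul_comm, pow_mul, hap, one_pow]

theorem xf_eq_one_iff {a : G} (hap : a ^ p = 1) (ha1 : a ≠ 1) (t : ZMod p) :
    xf p a t = 1 ↔ t = 0 := by
  constructor
  · intro h
    unfold xf at h
    have hord : orderOf a = p := orderOf_eq_prime hap ha1
    have hd := orderOf_dvd_of_pow_eq_one h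
    rw [hord] at hd
    have hlt := ZMod.val_lt t
    have h0 : t.val = 0 := Nat.eq_zero_of_dvd_of_lt hd hlt
    exact (ZMod.val_eq_zero t).mp h0
  · rintro rfl; exact xf_zero a

theorem xf_injective {a : G} (hap : a ^ p = 1) (ha1 : a ≠ 1) : Function.Injective (xf p a) := by
  intro t u h
  have h2 : xf p a (t - u) = 1 := by
    rw [sub_eq_add_neg, ← xf_add hap, xf_neg hap, h, mul_inv_cancel]
  exact sub_eq_zero.mp ((xf_eq_one_iff hap ha1 _).mp h2)

theorem xf_mem {a : G} (ha : a ∈ A) (t : ZMod p) : xf p a t ∈ A := A.pow_mem ha _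

/-- `b(a^t) = b(a)^(1/t)`. -/
theorem ptn_xf (hs : IsSpecialRankOnePair A B) (hB : IsMulCommutative B) {a b : G}
    (h1 : Ptn A B a b) (hap : a ^ p = 1) {t : ZMod p} (ht : t ≠ 0) :
    Ptn A B (xf p a t) (xf p b t⁻¹) := by
  have hne : xf p a t ≠ 1 := fun h => ht ((xf_eq_one_iff hap h1.2.1 t).mp h)
  obtain ⟨c, hc⟩ := ptn_exists_left hs.1 (xf_mem h1.1 t) hne
  have hck : c ^ t.val = b := pow_partner hs hB h1 (k := t.val) hc
  have hcp : c ^ p = 1 := (ptn_pow_eq_one_iff hs hc p).mp (xf_pow_prime hap t)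
  have hcb : xf p b t⁻¹ = c := by
    unfold xf
    rw [← hck, ← pow_mul, pow_eq_pow_mod _ hcp, ← ZMod.val_mul, mul_inv_cancel₀ ht, ZMod.val_one,
      pow_one]
  rw [hcb]; exact hc

/-- The Steinberg relation `w(t) x(u) w(t)⁻¹ = y(-u/t²)`. -/
theorem xf_rel (hs : IsSpecialRankOnePair A B) (hB : IsMulCommutative B) {a b : G}
    (h1 : Ptn A B a b) (hap : a ^ p = 1) (t u : ZMod p) (ht : t ≠ 0) :
    (xf p a t * xf p b (-t⁻¹) * xf p a t) * xf p a u *
        (xf p a t * xf p b (-t⁻¹) * xf p a t)⁻¹ = xf p b (-(t⁻¹ ^ 2 * u)) := by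
  have hbp : b ^ p = 1 := (ptn_pow_eq_one_iff hs h1 p).mp hap
  have hP := ptn_xf hs hB h1 hap ht
  have hw : xf p a t * xf p b (-t⁻¹) * xf p a t = wEl (xf p a t) (xf p b t⁻¹) := by
    unfold wEl; rw [xf_neg hbp]
  rw [hw]
  have hu : xf p a u = (xf p a t) ^ (t⁻¹ * u).val := by
    rw [xf_pow hap, ZMod.natCast_zmod_val, ← mul_assoc, mul_inv_cancel₀ ht, one_mul]
  rw [hu, ← conj_pow, wEl_conj_a hs hP, ← xf_neg hbp, xf_pow hbp, ZMod.natCast_zmod_val]
  congr 1; ring

/-- Steinberg data attached to a special rank one pair and a partner pair of exponent `p`. -/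
def rk1StData (hs : IsSpecialRankOnePair A B) (hA : IsMulCommutative A) (hB : IsMulCommutative B)
    {a b : G} (h1 : Ptn A B a b) (hap : a ^ p = 1) : StData (ZMod p) G where
  x := xf p a
  y := xf p b
  x_add := xf_add hap
  y_add := xf_add ((ptn_pow_eq_one_iff hs h1 p).mp hap)
  rel1 := fun t u ht => xf_rel hs hB h1 hap t u ht
  rel2 := fun t u ht => xf_rel (special_symm hs) hA (ptn_swap h1)
    ((ptn_pow_eq_one_iff hs h1 p).mp hap) t u ht

end xf

/-- the natural Steinberg data of `SL₂(K)`. -/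
def sl2Data (K : Type*) [Field K] : StData K (SpecialLinearGroup (Fin 2) K) where
  x := upSL
  y := loSL
  x_add := fun t u => (upSL_add t u).symm
  y_add := fun t u => (loSL_add t u).symm
  rel1 := fun t u ht => by rw [mul_inv_eq_iff_eq_mul]; exact weyl_up t u ht
  rel2 := fun t u ht => by rw [mul_inv_eq_iff_eq_mul]; exact weyl_lo t u ht

theorem sl2Data_gen (K : Type*) [Field K] :
    Subgroup.closure (Set.range (sl2Data K).x ∪ Set.range (sl2Data K).y) = ⊤ := by
  apply eq_top_of_transvection_mem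
  intro i j hij c
  fin_cases i <;> fin_cases j
  · exact absurd rfl hij
  · apply Subgroup.subset_closure
    left
    exact ⟨c, (transvection_zero_one c).symm⟩
  · apply Subgroup.subset_closure
    right
    exact ⟨c, (transvection_one_zero c).symm⟩
  · exact absurd rfl hij

section hom
variable {K : Type*} [Field K] [Finite K] {Γ : Type*} [Group Γ] (D : StData K Γ)

theorem slHom_w (t : K) : D.slHom ((sl2Data K).w t) = D.w t := by
  unfold StData.w
  rw [map_mul, map_mul]
  change D.slHom (upSL t) * D.slHom (loSL (-t⁻¹)) * D.slHom (upSL t) = _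
  rw [StData.slHom_upSL, StData.slHom_loSL]

theorem slHom_h (t : K) : D.slHom ((sl2Data K).h t) = D.h t := by
  unfold StData.h
  rw [map_mul, slHom_w, slHom_w]

theorem slHom_x (t : K) : D.slHom ((sl2Data K).x t) = D.x t := StData.slHom_upSL D t

theorem slHom_y (t : K) : D.slHom ((sl2Data K).y t) = D.y t := StData.slHom_loSL D t

theorem slHom_range :
    D.slHom.range = Subgroup.closure (Set.range D.x ∪ Set.range D.y) := by
  rw [MonoidHom.range_eq_map, ← sl2Data_gen K, MonoidHom.map_closure]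
  congr 1
  ext g
  constructor
  · rintro ⟨z, (⟨t, rfl⟩ | ⟨t, rfl⟩), rfl⟩
    · left; exact ⟨t, (slHom_x D t).symm⟩
    · right; exact ⟨t, (slHom_y D t).symm⟩
  · rintro (⟨t, rfl⟩ | ⟨t, rfl⟩)
    · exact ⟨_, Or.inl ⟨t, rfl⟩, slHom_x D t⟩
    · exact ⟨_, Or.inr ⟨t, rfl⟩, slHom_y D t⟩

end hom

section main
variable {p : ℕ} [Fact p.Prime]
variable (hs : IsSpecialRankOnePair A B) (hA : IsMulCommutative A) (hB : IsMulCommutative B)
    {a b : G} (h1 : Ptn A B a b) (hap : a ^ p = 1)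

theorem rk1StData_w_swaps {t : ZMod p} (ht : t ≠ 0) :
    Swaps A B ((rk1StData hs hA hB h1 hap).w t) := by
  have hbp : b ^ p = 1 := (ptn_pow_eq_one_iff hs h1 p).mp hap
  have hP := ptn_xf hs hB h1 hap ht
  have hw : (rk1StData hs hA hB h1 hap).w t = wEl (xf p a t) (xf p b t⁻¹) := by
    unfold StData.w wEl
    change xf p a t * xf p b (-t⁻¹) * xf p a t = _
    rw [xf_neg hbp]
  rw [hw]
  exact wEl_swaps hs hP

theorem rk1StData_h_normalizes {t : ZMod p} (ht : t ≠ 0) :
    conjBy A ((rk1StData hs hA hB h1 hap).h t) = A ∧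
      conjBy B ((rk1StData hs hA hB h1 hap).h t) = B := by
  have hm1 : (-1 : ZMod p) ≠ 0 := neg_ne_zero.mpr one_ne_zero
  have s1 := rk1StData_w_swaps hs hA hB h1 hap ht
  have s2 := rk1StData_w_swaps hs hA hB h1 hap hm1
  unfold StData.h
  constructor
  · rw [← conjBy_conjBy, s2.1, s1.2]
  · rw [← conjBy_conjBy, s2.2, s1.1]

/-- The kernel of `SL₂(p) → ⟨a, b⟩` lies in `{1, h(-1)}`. -/
theorem rk1_slHom_ker {g : SpecialLinearGroup (Fin 2) (ZMod p)}
    (hg : (rk1StData hs hA hB h1 hap).slHom g = 1) :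
    g = 1 ∨ g = (sl2Data (ZMod p)).h (-1) := by
  have hbp : b ^ p = 1 := (ptn_pow_eq_one_iff hs h1 p).mp hap
  obtain ⟨D, hD⟩ : ∃ D, D = rk1StData hs hA hB h1 hap := ⟨_, rfl⟩
  rw [← hD] at hg
  have hx : ∀ t, D.x t = xf p a t := fun t => by rw [hD]; rfl
  rcases (sl2Data (ZMod p)).mem_bruhat (sl2Data_gen _) g with ⟨s, t, ht, rfl⟩ | ⟨s, t, r, ht, rfl⟩
  · rw [map_mul, slHom_x, slHom_h] at hg
    have hN := rk1StData_h_normalizes hs hA hB h1 hap ht
    rw [← hD] at hN
    -- `D.x s ∈ A` normalizes `B`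
    have hxs : D.x s = (D.h t)⁻¹ := eq_inv_of_mul_eq_one_left hg
    have hmem : D.x s ∈ A ⊓ Subgroup.normalizer (B : Set G) := by
      refine ⟨by rw [hx]; exact xf_mem h1.1 s, ?_⟩
      rw [hxs]
      apply Subgroup.inv_mem
      exact mem_normalizer_iff_conjBy.mpr hN.2
    rw [rk1_inf_normalizer hs.1, Subgroup.mem_bot] at hmem
    have hs0 : s = 0 := by
      rw [hx] at hmem
      exact (xf_eq_one_iff hap h1.2.1 s).mp hmem
    rw [hmem, one_mul] at hg
    have hc := D.h_conj_x ht 1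
    rw [hg, one_mul, inv_one, mul_one, hx, hx] at hc
    have ht2 : t ^ 2 = 1 := by
      have := xf_injective hap h1.2.1 hc
      rw [mul_one] at this
      exact this.symm
    have ht1 : t = 1 ∨ t = -1 := by
      have h : t * t = 1 := by rw [← sq]; exact ht2
      exact mul_self_eq_one_iff.mp h
    subst hs0
    rw [(sl2Data (ZMod p)).x_zero, one_mul]
    rcases ht1 with rfl | rfl
    · left; exact (sl2Data (ZMod p)).h_one
    · right; rfl
  · exfalso
    rw [map_mul, map_mul, map_mul, slHom_x, slHom_h, slHom_w, slHom_x] at hg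
    have hN := rk1StData_h_normalizes hs hA hB h1 hap ht
    have hW := rk1StData_w_swaps hs hA hB h1 hap (one_ne_zero (α := ZMod p))
    rw [← hD] at hN hW
    have e : D.h t * D.w 1 = (D.x s)⁻¹ * (D.x r)⁻¹ := by
      have : D.h t * D.w 1 = (D.x s)⁻¹ * (D.x s * D.h t * D.w 1 * D.x r) * (D.x r)⁻¹ := by group
      rw [this, hg, mul_one]
    have hmem : D.h t * D.w 1 ∈ A := by
      rw [e, hx, hx]
      exact A.mul_mem (A.inv_mem (xf_mem h1.1 s)) (A.inv_mem (xf_mem h1.1 r))
    have h3 : conjBy A (D.h t * D.w 1) = B := by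
      rw [← conjBy_conjBy, hW.1, hN.2]
    rw [conjBy_self_mem hmem] at h3
    exact hs.1.ne h3

end main

end Cfsg.Agent.Lib.Helper86
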