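import Mathlib
import Cfsg.Prelude.Def_RootSubgroups
import Cfsg.Agent.Lib.Helper86.SL2Rk1

/-!
Special rank one pairs `(A, B)` with abelian `A`, `B` and diagonal subgroup `H`:
`a ^ 6 ∈ [A, H]`, the alternative "exponent `p` or torsion free",
`[A, H] ≤ ⟨z⟩` with `z` of prime order forces `A = ⟨z⟩`, and `3 < |A| → 3 < |[A, H]|`.
-/

set_option autoImplicit false

namespace Cfsg.Agent.Lib.Helper86

open Cfsg

variable {G : Type*} [Group G] {A B : Subgroup G}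

theorem mem_diag_iff {g : G} :
    g ∈ rankOneDiagonal A B ↔ g ∈ A ⊔ B ∧ conjBy A g = A ∧ conjBy B g = B := by
  unfold rankOneDiagonal
  rw [Subgroup.mem_inf, Subgroup.mem_inf, mem_normalizer_iff_conjBy, mem_normalizer_iff_conjBy,
    and_assoc]

theorem wEl_mem_sup {a b : G} (ha : a ∈ A) (hb : b ∈ B) : wEl a b ∈ A ⊔ B := by
  unfold wEl
  exact Subgroup.mul_mem _ (Subgroup.mul_mem _ (Subgroup.mem_sup_left ha)
    (Subgroup.mem_sup_right (B.inv_mem hb))) (Subgroup.mem_sup_left ha)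

theorem swaps_mul_inv_mem_diag {n₁ n₂ : G} (h1 : Swaps A B n₁) (h2 : Swaps A B n₂)
    (m1 : n₁ ∈ A ⊔ B) (m2 : n₂ ∈ A ⊔ B) : n₁ * n₂⁻¹ ∈ rankOneDiagonal A B := by
  rw [mem_diag_iff]
  have h2' := swaps_inv h2
  refine ⟨Subgroup.mul_mem _ m1 (Subgroup.inv_mem _ m2), ?_, ?_⟩
  · rw [← conjBy_conjBy, h2'.1, h1.2]
  · rw [← conjBy_conjBy, h2'.2, h1.1]

theorem conj_mul_inv_mem_comm_diag {h x : G} (hh : h ∈ rankOneDiagonal A B) (hx : x ∈ A) :
    h * x * h⁻¹ * x⁻¹ ∈ ⁅A, rankOneDiagonal A B⁆ := by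
  rw [Subgroup.commutator_comm, ← commutatorElement_def]
  exact Subgroup.commutator_mem_commutator hh hx

theorem comm_diag_le (A B : Subgroup G) : ⁅A, rankOneDiagonal A B⁆ ≤ A := by
  rw [Subgroup.commutator_le]
  intro a ha h hh
  have hn : conjBy A h = A := (mem_diag_iff.mp hh).2.1
  have h1 : h * a⁻¹ * h⁻¹ ∈ A := by
    have := conj_mem_conjBy (g := h) (A.inv_mem ha)
    rwa [hn] at this
  rw [commutatorElement_def]
  have e : a * h * a⁻¹ * h⁻¹ = a * (h * a⁻¹ * h⁻¹) := by group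
  rw [e]; exact A.mul_mem ha h1

theorem ptn_conj_eq (hs : IsSpecialRankOnePair A B) {a b : G} (h1 : Ptn A B a b) :
    conjBy A b = conjBy B a := by
  have := (ptn_inv hs h1).2.2.2.2
  rwa [inv_inv, inv_inv] at this

/-- `(a²)³ ∈ [A, H]`. -/
theorem sq_cube_mem_comm_diag (hs : IsSpecialRankOnePair A B) (hB : IsMulCommutative B) {a : G}
    (ha : a ∈ A) (ha2 : a ^ 2 ≠ 1) : (a ^ 2) ^ 3 ∈ ⁅A, rankOneDiagonal A B⁆ := by
  have ha1 : a ≠ 1 := by rintro rfl; simp at ha2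
  obtain ⟨b, hb⟩ := ptn_exists_left hs.1 ha ha1
  obtain ⟨c, hc⟩ := ptn_exists_left hs.1 (A.pow_mem ha 2) ha2
  have hcb : c ^ 2 = b := pow_partner hs hB hb hc
  obtain ⟨e, he⟩ : ∃ e, e = a ^ 2 := ⟨_, rfl⟩
  rw [← he] at hc ⊢
  obtain ⟨h, hh⟩ : ∃ h, h = wEl e c * (wEl a b)⁻¹ := ⟨_, rfl⟩
  have hH : h ∈ rankOneDiagonal A B := by
    rw [hh]
    exact swaps_mul_inv_mem_diag (wEl_swaps hs hc) (wEl_swaps hs hb)
      (wEl_mem_sup hc.1 hc.2.2.1) (wEl_mem_sup hb.1 hb.2.2.1)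
  have key : h * e * h⁻¹ = e ^ 4 := by
    have e1 : (wEl a b)⁻¹ * e * wEl a b = (c⁻¹) ^ 4 := by
      rw [he, conj_pow_inv, wEl_conj_a' hs hb, ← hcb]
      group
    have e2 : wEl e c * (c⁻¹) ^ 4 * (wEl e c)⁻¹ = e ^ 4 := by
      rw [← conj_pow, wEl_conj_b hs hc]
    calc h * e * h⁻¹ = wEl e c * ((wEl a b)⁻¹ * e * wEl a b) * (wEl e c)⁻¹ := by rw [hh]; group
      _ = e ^ 4 := by rw [e1, e2]
  have h3 := conj_mul_inv_mem_comm_diag hH hc.1
  rw [key] at h3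
  have e3 : e ^ 4 * e⁻¹ = e ^ 3 := by group
  rwa [e3] at h3

/-- Either `A` has prime exponent or `A` is torsion free. -/
theorem rk1_exponent_or_torsion_free (hs : IsSpecialRankOnePair A B) (hA : IsMulCommutative A)
    (hB : IsMulCommutative B) :
    (∃ p : ℕ, p.Prime ∧ ∀ a ∈ A, a ^ p = 1) ∨ (∀ a ∈ A, a ≠ 1 → ¬ IsOfFinOrder a) := by
  have hp := hs.1
  by_cases htors : ∃ a ∈ A, a ≠ 1 ∧ IsOfFinOrder a
  · left
    obtain ⟨a₀, ha₀, ha₀1, hfin⟩ := htors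
    have hm : 0 < orderOf a₀ := hfin.orderOf_pos
    have hm1 : orderOf a₀ ≠ 1 := by rwa [Ne, orderOf_eq_one_iff]
    obtain ⟨p, hp', hpd⟩ := Nat.exists_prime_and_dvd hm1
    obtain ⟨a, haeq⟩ : ∃ a, a = a₀ ^ (orderOf a₀ / p) := ⟨_, rfl⟩
    have hap : orderOf a = p := by rw [haeq]; exact orderOf_pow_orderOf_div hm.ne' hpd
    have haA : a ∈ A := by rw [haeq]; exact A.pow_mem ha₀ _
    have ha1 : a ≠ 1 := by
      intro h0; rw [h0, orderOf_one] at hap; exact hp'.one_lt.ne' hap.symm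
    have hapow : a ^ p = 1 := by rw [← hap]; exact pow_orderOf_eq_one a
    refine ⟨p, hp', ?_⟩
    intro a' ha'
    by_contra hne
    have hcomm : Commute a a' := comm_of_isMulCommutative hA haA ha'
    have haa' : (a * a') ^ p = a' ^ p := by rw [hcomm.mul_pow, hapow, one_mul]
    have ha'1 : a' ≠ 1 := by intro h0; apply hne; rw [h0, one_pow]
    have haa'1 : a * a' ≠ 1 := by
      intro h0; apply hne; rw [← haa', h0, one_pow]
    obtain ⟨d, hd⟩ := ptn_exists_left hp (A.pow_mem ha' p) hne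
    obtain ⟨b', hb'⟩ := ptn_exists_left hp ha' ha'1
    obtain ⟨b'', hb''⟩ := ptn_exists_left hp (A.mul_mem haA ha') haa'1
    have e1 : d ^ p = b' := pow_partner hs hB hb' hd
    have e2 : d ^ p = b'' := pow_partner hs hB hb'' (by rw [haa']; exact hd)
    rw [← e2, e1] at hb''
    have e3 : a' = a * a' := ptn_unique_left hp hb' hb''
    apply ha1
    have := congrArg (fun y => y * a'⁻¹) e3
    simpa using this.symm
  · right
    push Not at htors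
    exact htors

section L1
variable {p : ℕ} [Fact p.Prime]

theorem xf_intCast {a : G} (hap : a ^ p = 1) (k : ℤ) : xf p a (k : ZMod p) = a ^ k := by
  unfold xf
  have h1 : a ^ (p : ℤ) = 1 := by rw [zpow_natCast]; exact hap
  rw [zpow_eq_zpow_emod k h1, ← ZMod.val_intCast, zpow_natCast]

theorem mem_zpowers_iff_xf {a x : G} (hap : a ^ p = 1) :
    x ∈ Subgroup.zpowers a ↔ ∃ t : ZMod p, x = xf p a t := by
  constructor
  · intro hx
    obtain ⟨k, rfl⟩ := Subgroup.mem_zpowers_iff.mp hx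
    exact ⟨(k : ZMod p), (xf_intCast hap k).symm⟩
  · rintro ⟨t, rfl⟩
    exact Subgroup.pow_mem _ (Subgroup.mem_zpowers a) _

/-- If `[A, H] ≤ ⟨z⟩` with `z` of prime order, then `A = ⟨z⟩`. -/
theorem rk1_L1 (hs : IsSpecialRankOnePair A B) (hA : IsMulCommutative A) (hB : IsMulCommutative B)
    {z : G} (hz : z ∈ A) (hz1 : z ≠ 1) (hzp : z ^ p = 1)
    (hyp : ⁅A, rankOneDiagonal A B⁆ ≤ Subgroup.zpowers z) : A ≤ Subgroup.zpowers z := by
  intro a ha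
  by_contra haZ
  have hr := hs.1
  have hZA : Subgroup.zpowers z ≤ A := by rw [Subgroup.zpowers_le]; exact hz
  have ha1 : a ≠ 1 := by rintro rfl; exact haZ (Subgroup.one_mem _)
  obtain ⟨β, hβ⟩ := ptn_exists_left hr hz hz1
  obtain ⟨b, hb⟩ := ptn_exists_left hr ha ha1
  have hβp : β ^ p = 1 := (ptn_pow_eq_one_iff hs hβ p).mp hzp
  obtain ⟨n, hn⟩ : ∃ n, n = wEl a b := ⟨_, rfl⟩
  obtain ⟨n₀, hn₀⟩ : ∃ n, n = wEl z β := ⟨_, rfl⟩
  have sn : Swaps A B n := hn ▸ wEl_swaps hs hb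
  have sn₀ : Swaps A B n₀ := hn₀ ▸ wEl_swaps hs hβ
  have mn : n ∈ A ⊔ B := hn ▸ wEl_mem_sup hb.1 hb.2.2.1
  have mn₀ : n₀ ∈ A ⊔ B := hn₀ ▸ wEl_mem_sup hβ.1 hβ.2.2.1
  -- `N(A)` normalizes `Z`
  have WD : ∀ g ∈ A ⊔ B, conjBy A g = A → ∀ ζ ∈ Subgroup.zpowers z,
      g * ζ * g⁻¹ ∈ Subgroup.zpowers z := by
    intro g hg hgA ζ hζ
    have hC : conjBy B g ∈ unipotentSubgroups A B :=
      unipotent_conjBy_mem (rk1_B_mem_unipotent hr) hg
    have hCne : conjBy B g ≠ A := by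
      intro h0
      rw [← hgA, conjBy_inj] at h0
      exact hr.ne h0.symm
    obtain ⟨a', ha', hCa'⟩ := (rk1_mem_unipotent_ne_iff hr).mp ⟨hC, hCne⟩
    have hh : a'⁻¹ * g ∈ rankOneDiagonal A B := by
      rw [mem_diag_iff]
      refine ⟨Subgroup.mul_mem _ (Subgroup.mem_sup_left (A.inv_mem ha')) hg, ?_, ?_⟩
      · rw [← conjBy_conjBy, hgA, conjBy_self_mem (A.inv_mem ha')]
      · rw [← conjBy_conjBy, hCa', conjBy_conjBy, inv_mul_cancel, conjBy_one]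
    have hζA : ζ ∈ A := hZA hζ
    have h1 := hyp (conj_mul_inv_mem_comm_diag hh hζA)
    have h2 : (a'⁻¹ * g) * ζ * (a'⁻¹ * g)⁻¹ ∈ Subgroup.zpowers z := by
      have := Subgroup.mul_mem _ h1 hζ
      rwa [inv_mul_cancel_right] at this
    have h3 : g * ζ * g⁻¹ = a' * ((a'⁻¹ * g) * ζ * (a'⁻¹ * g)⁻¹) * a'⁻¹ := by group
    rw [h3, comm_of_isMulCommutative hA ha' (hZA h2), mul_inv_cancel_right]
    exact h2
  have WD' : ∀ g₁ ∈ A ⊔ B, ∀ g₂ ∈ A ⊔ B, conjBy A g₁ = conjBy A g₂ →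
      ∀ ζ ∈ Subgroup.zpowers z, ∃ ζ' ∈ Subgroup.zpowers z, g₁ * ζ * g₁⁻¹ = g₂ * ζ' * g₂⁻¹ := by
    intro g₁ hg₁ g₂ hg₂ he ζ hζ
    refine ⟨(g₂⁻¹ * g₁) * ζ * (g₂⁻¹ * g₁)⁻¹, ?_, by group⟩
    apply WD _ (Subgroup.mul_mem _ (Subgroup.inv_mem _ hg₂) hg₁) _ ζ hζ
    rw [← conjBy_conjBy, he, conjBy_conjBy, inv_mul_cancel, conjBy_one]
  -- `n b(c) n⁻¹ ∈ c⁻¹ Z`
  have F2 : ∀ c d : G, Ptn A B c d → c * (n * d * n⁻¹) ∈ Subgroup.zpowers z := by
    intro c d hcd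
    have hh : n * (wEl c d)⁻¹ ∈ rankOneDiagonal A B :=
      swaps_mul_inv_mem_diag sn (wEl_swaps hs hcd) mn (wEl_mem_sup hcd.1 hcd.2.2.1)
    have h1 := hyp (conj_mul_inv_mem_comm_diag hh hcd.1)
    have e1 : (n * (wEl c d)⁻¹) * c * (n * (wEl c d)⁻¹)⁻¹ * c⁻¹
        = n * ((wEl c d)⁻¹ * c * wEl c d) * n⁻¹ * c⁻¹ := by group
    rw [e1, wEl_conj_a' hs hcd] at h1
    have h2 := Subgroup.inv_mem _ h1
    have e2 : (n * d⁻¹ * n⁻¹ * c⁻¹)⁻¹ = c * (n * d * n⁻¹) := by group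
    rwa [e2] at h2
  -- partners of elements of `Z` and of `⟨β⟩`
  have PZ : ∀ t : ZMod p, t ≠ 0 → Ptn A B (xf p z t) (xf p β t⁻¹) :=
    fun t ht => ptn_xf hs hB hβ hzp ht
  -- the element `u = a β a⁻¹`
  have hβeq : β = n₀ * z⁻¹ * n₀⁻¹ := by
    have := wEl_conj_a hs hβ
    rw [← hn₀] at this
    have h2 : n₀ * z⁻¹ * n₀⁻¹ = (n₀ * z * n₀⁻¹)⁻¹ := by group
    rw [h2, this, inv_inv]
  have hnb : n * b = a⁻¹ * n := by
    have := wEl_conj_b hs hb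
    rw [← hn] at this
    have h2 : n * b = (n * b⁻¹ * n⁻¹)⁻¹ * n := by group
    rw [h2, this]
  have hcA : conjBy A (n * a * n₀) = conjBy A (a⁻¹ * n₀) := by
    calc conjBy A (n * a * n₀) = conjBy (conjBy A n₀) (n * a) := (conjBy_conjBy A (n * a) n₀).symm
      _ = conjBy B (n * a) := by rw [sn₀.1]
      _ = conjBy (conjBy B a) n := (conjBy_conjBy B n a).symm
      _ = conjBy (conjBy A b) n := by rw [ptn_conj_eq hs hb]
      _ = conjBy A (n * b) := conjBy_conjBy A n b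
      _ = conjBy A (a⁻¹ * n) := by rw [hnb]
      _ = conjBy (conjBy A n) a⁻¹ := (conjBy_conjBy A a⁻¹ n).symm
      _ = conjBy B a⁻¹ := by rw [sn.1]
      _ = conjBy (conjBy A n₀) a⁻¹ := by rw [sn₀.1]
      _ = conjBy A (a⁻¹ * n₀) := conjBy_conjBy A a⁻¹ n₀
  obtain ⟨ζ', hζ', hu⟩ := WD' (n * a * n₀)
    (Subgroup.mul_mem _ (Subgroup.mul_mem _ mn (Subgroup.mem_sup_left ha)) mn₀)
    (a⁻¹ * n₀) (Subgroup.mul_mem _ (Subgroup.mem_sup_left (A.inv_mem ha)) mn₀) hcA z⁻¹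
    (Subgroup.inv_mem _ (Subgroup.mem_zpowers z))
  -- `β' = n₀ ζ' n₀⁻¹ ∈ ⟨β⟩`
  obtain ⟨t', ht'⟩ := (mem_zpowers_iff_xf hzp).mp hζ'
  obtain ⟨β', hβ'⟩ : ∃ β', β' = n₀ * ζ' * n₀⁻¹ := ⟨_, rfl⟩
  have hβ'x : β' = xf p β (-t') := by
    rw [hβ', ht', xf_neg hβp]
    unfold xf
    rw [← conj_pow, ← inv_pow]
    congr 1
    have := wEl_conj_a hs hβ
    rw [← hn₀] at this
    exact this
  have hβ'B : β' ∈ B := by rw [hβ'x]; exact xf_mem hβ.2.2.1 _
  have hu2 : n * (a * β * a⁻¹) * n⁻¹ = a⁻¹ * β' * a := by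
    have e1 : n * (a * β * a⁻¹) * n⁻¹ = (n * a * n₀) * z⁻¹ * (n * a * n₀)⁻¹ := by
      rw [hβeq]; group
    rw [e1, hu, hβ']; group
  -- the element `c = a z`
  have hc1 : a * z ≠ 1 := by
    intro h0
    apply haZ
    have : a = z⁻¹ := eq_inv_of_mul_eq_one_left h0
    rw [this]; exact Subgroup.inv_mem _ (Subgroup.mem_zpowers z)
  obtain ⟨d, hd⟩ := ptn_exists_left hr (A.mul_mem ha hz) hc1
  obtain ⟨e, he⟩ : ∃ e, e = n * d * n⁻¹ := ⟨_, rfl⟩
  have heA : e ∈ A := by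
    have := conj_mem_conjBy (g := n) hd.2.2.1
    rw [sn.2] at this
    rw [he]; exact this
  have hce : a * z * e ∈ Subgroup.zpowers z := by rw [he]; exact F2 _ _ hd
  have hae : a * e ∈ Subgroup.zpowers z := by
    have h1 := Subgroup.mul_mem _ (Subgroup.inv_mem _ (Subgroup.mem_zpowers z)) hce
    have e1 : z⁻¹ * (a * z * e) = a * e := by
      rw [comm_of_isMulCommutative hA ha hz]; group
    rwa [e1] at h1
  -- evaluate `n u n⁻¹` at `B`
  have E1 : conjBy B (n * (a * β * a⁻¹) * n⁻¹) = conjBy B e := by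
    have sn' := swaps_inv sn
    have e1 : n * d = e * n := by rw [he]; group
    have e0 : conjBy A (a * β * a⁻¹) = conjBy A d := by
      calc conjBy A (a * β * a⁻¹) = conjBy (conjBy A a⁻¹) (a * β) :=
            (conjBy_conjBy A (a * β) a⁻¹).symm
        _ = conjBy A (a * β) := by rw [conjBy_self_mem (A.inv_mem ha)]
        _ = conjBy (conjBy A β) a := (conjBy_conjBy A a β).symm
        _ = conjBy (conjBy B z) a := by rw [ptn_conj_eq hs hβ]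
        _ = conjBy B (a * z) := conjBy_conjBy B a z
        _ = conjBy A d := (ptn_conj_eq hs hd).symm
    calc conjBy B (n * (a * β * a⁻¹) * n⁻¹)
        = conjBy (conjBy B n⁻¹) (n * (a * β * a⁻¹)) := (conjBy_conjBy B _ n⁻¹).symm
      _ = conjBy A (n * (a * β * a⁻¹)) := by rw [sn'.2]
      _ = conjBy (conjBy A (a * β * a⁻¹)) n := (conjBy_conjBy A n _).symm
      _ = conjBy (conjBy A d) n := by rw [e0]
      _ = conjBy A (n * d) := conjBy_conjBy A n d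
      _ = conjBy A (e * n) := by rw [e1]
      _ = conjBy (conjBy A n) e := (conjBy_conjBy A e n).symm
      _ = conjBy B e := by rw [sn.1]
  have E2 : conjBy B (a⁻¹ * β' * a) = conjBy (conjBy A (β' * b)) a⁻¹ := by
    calc conjBy B (a⁻¹ * β' * a) = conjBy (conjBy B a) (a⁻¹ * β') :=
          (conjBy_conjBy B (a⁻¹ * β') a).symm
      _ = conjBy (conjBy A b) (a⁻¹ * β') := by rw [ptn_conj_eq hs hb]
      _ = conjBy A (a⁻¹ * β' * b) := conjBy_conjBy A _ b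
      _ = conjBy A (a⁻¹ * (β' * b)) := by rw [mul_assoc]
      _ = conjBy (conjBy A (β' * b)) a⁻¹ := (conjBy_conjBy A a⁻¹ _).symm
  have E3 : conjBy A (β' * b) = conjBy B (a * e) := by
    have h1 : conjBy (conjBy A (β' * b)) a⁻¹ = conjBy B e := by rw [← E2, ← hu2, E1]
    rw [conjBy_eq_iff, inv_inv, conjBy_conjBy] at h1
    exact h1
  -- hence `b ∈ ⟨β⟩`
  have hbW : ∃ s : ZMod p, b = xf p β s := by
    by_cases h0 : β' * b = 1
    · refine ⟨t', ?_⟩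
      have : b = β'⁻¹ := eq_inv_of_mul_eq_one_right h0
      rw [this, hβ'x, xf_neg hβp, inv_inv]
    · obtain ⟨t'', ht''⟩ := (mem_zpowers_iff_xf hzp).mp hae
      by_cases h00 : t'' = 0
      · exfalso
        rw [ht'', h00, xf_zero, conjBy_one] at E3
        have h2 : conjBy B (β' * b) = B := conjBy_self_mem (B.mul_mem hβ'B hb.2.2.1)
        rw [← h2, conjBy_inj] at E3
        exact hr.ne E3
      · have hP := PZ t'' h00
        rw [← ht''] at hP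
        rw [← ptn_conj_eq hs hP, conjBy_eq_conjBy_iff] at E3
        have h3 : (xf p β t''⁻¹)⁻¹ * (β' * b) ∈ B ⊓ Subgroup.normalizer (A : Set G) :=
          ⟨B.mul_mem (B.inv_mem hP.2.2.1) (B.mul_mem hβ'B hb.2.2.1), E3⟩
        rw [rk1_inf_normalizer' hr, Subgroup.mem_bot] at h3
        refine ⟨t' + t''⁻¹, ?_⟩
        have h4 : b = β'⁻¹ * xf p β t''⁻¹ := by
          have := congrArg (fun y => β'⁻¹ * (xf p β t''⁻¹ * y)) h3
          simp only [mul_one] at this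
          rw [← this]; group
        rw [h4, hβ'x, xf_neg hβp, inv_inv, xf_add hβp]
  obtain ⟨s, hs'⟩ := hbW
  have hs0 : s ≠ 0 := by
    rintro rfl
    rw [xf_zero] at hs'
    exact hb.2.2.2.1 hs'
  have hP := PZ s⁻¹ (inv_ne_zero hs0)
  rw [inv_inv, ← hs'] at hP
  have := ptn_unique_left hr hb hP
  apply haZ
  rw [this]
  exact (mem_zpowers_iff_xf hzp).mpr ⟨_, rfl⟩

end L1

end Cfsg.Agent.Lib.Helper86
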