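import Mathlib
import Cfsg.Prelude.Def_RootSubgroups
import Cfsg.Agent.Lib.Helper86.Rk1Diag

/-!
Special rank one pair with abelian unipotent subgroups: `3 < |A| → 3 < |[A, H]|`.
-/

set_option autoImplicit false

namespace Cfsg.Agent.Lib.Helper86

open Cfsg

variable {G : Type*} [Group G] {A B : Subgroup G}

theorem enat_card_le_three {C : Subgroup G} (h : ENat.card C ≤ 3) :
    Finite C ∧ 0 < Nat.card C ∧ Nat.card C ≤ 3 ∧ ∀ g ∈ C, g ^ Nat.card C = 1 := by
  have hfin : Finite C := ENat.card_lt_top.mp (lt_of_le_of_lt h (ENat.natCast_lt_top 3))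
  have hcardC : Nat.card C ≤ 3 := by
    rw [ENat.card_eq_coe_natCard] at h
    exact_mod_cast h
  refine ⟨hfin, Nat.card_pos, hcardC, ?_⟩
  intro g hg
  have h1 := pow_card_eq_one' (G := C) (x := ⟨g, hg⟩)
  have h2 : (((⟨g, hg⟩ : C) ^ Nat.card C : C) : G) = ((1 : C) : G) := congrArg Subtype.val h1
  rw [Subgroup.coe_pow, Subgroup.coe_one] at h2
  exact h2

theorem comm_diag_card (hs : IsSpecialRankOnePair A B) (hA : IsMulCommutative A)
    (hB : IsMulCommutative B) (hcard : 3 < ENat.card A) :
    3 < ENat.card ↥(⁅A, rankOneDiagonal A B⁆ : Subgroup G) := by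
  by_contra hcon
  rw [not_lt] at hcon
  obtain ⟨C, hC⟩ : ∃ C, C = ⁅A, rankOneDiagonal A B⁆ := ⟨_, rfl⟩
  rw [← hC] at hcon
  obtain ⟨hfin, hCpos, hcardC, hpow⟩ := enat_card_le_three hcon
  have hCA : C ≤ A := hC ▸ comm_diag_le A B
  obtain ⟨a, ha, ha1⟩ := rk1_exists_ne_one hs.1
  rcases rk1_exponent_or_torsion_free hs hA hB with ⟨p, hp, hexp⟩ | htf
  · haveI : Fact p.Prime := ⟨hp⟩
    by_cases hp3 : p ≤ 3
    · obtain ⟨z, hzA, hz1, hCz⟩ : ∃ z ∈ A, z ≠ 1 ∧ C ≤ Subgroup.zpowers z := by
        by_cases hbot : C = ⊥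
        · exact ⟨a, ha, ha1, by rw [hbot]; exact bot_le⟩
        · obtain ⟨z, hz, hz1⟩ : ∃ z ∈ C, z ≠ 1 := by
            by_contra h0
            push Not at h0
            exact hbot ((Subgroup.eq_bot_iff_forall _).mpr h0)
          refine ⟨z, hCA hz, hz1, ?_⟩
          have hzp : z ^ p = 1 := hexp z (hCA hz)
          have hord : orderOf z = p := orderOf_eq_prime hzp hz1
          have hdvd : p ∣ Nat.card C := by
            have h1 := orderOf_dvd_natCard (G := C) ⟨z, hz⟩
            rwa [Subgroup.orderOf_mk, hord] at h1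
          have hle : Subgroup.zpowers z ≤ C := by rw [Subgroup.zpowers_le]; exact hz
          have hcz : Nat.card (Subgroup.zpowers z) = p := by rw [Nat.card_zpowers, hord]
          have hcC : Nat.card C = p := by
            have h2 := hp.two_le
            obtain ⟨k, hk⟩ := hdvd
            have hk1 : k = 1 := by
              rcases k with _ | _ | k
              · omega
              · rfl
              · nlinarith
            rw [hk, hk1, mul_one]
          have h3 := Subgroup.eq_of_le_of_card_ge hle (by rw [hcz, hcC])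
          rw [h3]
      have hzp : z ^ p = 1 := hexp z hzA
      have hAz : A ≤ Subgroup.zpowers z := rk1_L1 hs hA hB hzA hz1 hzp (hC ▸ hCz)
      have hord : orderOf z = p := orderOf_eq_prime hzp hz1
      have hfz : Finite (Subgroup.zpowers z) := by
        apply Nat.finite_of_card_ne_zero
        rw [Nat.card_zpowers, hord]
        exact hp.ne_zero
      have h1 : ENat.card A ≤ ENat.card (Subgroup.zpowers z) :=
        ENat.card_le_card_of_injective (Subgroup.inclusion_injective hAz)
      have h2 : ENat.card (Subgroup.zpowers z) = p := by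
        rw [ENat.card_eq_coe_natCard, Nat.card_zpowers, hord]
      rw [h2] at h1
      have h3 : (p : ℕ∞) ≤ 3 := by exact_mod_cast hp3
      exact absurd hcard (not_lt.mpr (h1.trans h3))
    · push Not at hp3
      have hord : orderOf a = p := orderOf_eq_prime (hexp a ha) ha1
      have ha2 : a ^ 2 ≠ 1 := by
        intro h0
        have := orderOf_dvd_of_pow_eq_one h0
        rw [hord] at this
        have := Nat.le_of_dvd (by norm_num) this
        omega
      have hg := sq_cube_mem_comm_diag hs hB ha ha2
      rw [← hC] at hg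
      have h1 := hpow _ hg
      rw [← pow_mul, ← pow_mul] at h1
      have h2 := orderOf_dvd_of_pow_eq_one h1
      rw [hord] at h2
      rcases (Nat.Prime.dvd_mul hp).mp h2 with h | h
      · have : p ≤ 2 := Nat.le_of_dvd (by norm_num) h
        omega
      · rcases (Nat.Prime.dvd_mul hp).mp h with h | h
        · have : p ≤ 3 := Nat.le_of_dvd (by norm_num) h
          omega
        · have : p ≤ Nat.card C := Nat.le_of_dvd hCpos h
          omega
  · have ha2 : a ^ 2 ≠ 1 := fun h0 =>
      htf a ha ha1 (isOfFinOrder_iff_pow_eq_one.mpr ⟨2, by norm_num, h0⟩)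
    have hg := sq_cube_mem_comm_diag hs hB ha ha2
    rw [← hC] at hg
    have h1 := hpow _ hg
    apply htf a ha ha1
    rw [isOfFinOrder_iff_pow_eq_one]
    refine ⟨2 * 3 * Nat.card C, by positivity, ?_⟩
    rw [pow_mul, pow_mul]; exact h1

end Cfsg.Agent.Lib.Helper86
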