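import Mathlib
import Cfsg.Prelude.Def_RootSubgroups
import Cfsg.Agent.Lib.Helper86.Rk1Card

/-!
A special rank one group `X = ⟨A, B⟩` with abelian unipotent subgroups and `3 < |A|`:
`X = X' A`, `X'` is perfect, and every subgroup of `X'` normalized by `X'` and not central in `X`
is `X'`.
-/

set_option autoImplicit false

namespace Cfsg.Agent.Lib.Helper86

open Cfsg
open scoped commutatorElement

section general
variable {G : Type*} [Group G] {A B : Subgroup G}

theorem conjBy_inf_normal {K : Subgroup G} [hK : K.Normal] (A : Subgroup G) (g : G) :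
    conjBy (A ⊓ K) g = conjBy A g ⊓ K := by
  ext x
  rw [mem_conjBy, Subgroup.mem_inf, Subgroup.mem_inf, mem_conjBy]
  constructor
  · rintro ⟨h1, h2⟩
    refine ⟨h1, ?_⟩
    have := hK.conj_mem _ h2 g
    simpa [mul_assoc] using this
  · rintro ⟨h1, h2⟩
    refine ⟨h1, ?_⟩
    have := hK.conj_mem _ h2 g⁻¹
    simpa [mul_assoc] using this

theorem conjBy_normal {K : Subgroup G} [hK : K.Normal] (g : G) : conjBy K g = K := by
  have := conjBy_inf_normal (K := K) (⊤ : Subgroup G) g
  rw [top_inf_eq] at this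
  rw [this]
  have h2 : conjBy (⊤ : Subgroup G) g = ⊤ := by
    rw [eq_top_iff]
    intro x _
    rw [mem_conjBy]; exact Subgroup.mem_top _
  rw [h2, top_inf_eq]

theorem ptn_inf (hs : IsSpecialRankOnePair A B) {K : Subgroup G} [hK : K.Normal] {a b : G}
    (h1 : Ptn A B a b) (haK : a ∈ K) : Ptn (A ⊓ K) (B ⊓ K) a b := by
  have hbK : b ∈ K := by
    have h2 := wEl_conj_a hs h1
    have h3 := hK.conj_mem _ haK (wEl a b)
    rw [h2] at h3
    simpa using K.inv_mem h3
  refine ⟨⟨h1.1, haK⟩, h1.2.1, ⟨h1.2.2.1, hbK⟩, h1.2.2.2.1, ?_⟩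
  rw [conjBy_inf_normal, conjBy_inf_normal, h1.2.2.2.2]

theorem ptn_inf' (hs : IsSpecialRankOnePair A B) {K : Subgroup G} [hK : K.Normal] {a b : G}
    (h1 : Ptn A B a b) (hbK : b ∈ K) : Ptn (A ⊓ K) (B ⊓ K) a b := by
  have haK : a ∈ K := by
    have h2 := wEl_conj_b hs h1
    have h3 := hK.conj_mem _ (K.inv_mem hbK) (wEl a b)
    rwa [h2] at h3
  exact ptn_inf hs h1 haK

theorem isMulCommutative_of_le {A C : Subgroup G} (hA : IsMulCommutative A) (hle : C ≤ A) :
    IsMulCommutative C :=
  ⟨⟨fun x y => Subtype.ext (comm_of_isMulCommutative hA (hle x.2) (hle y.2))⟩⟩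

theorem isNilpotent_of_isMulCommutative {C : Subgroup G} (hC : IsMulCommutative C) :
    Group.IsNilpotent C := by
  letI : CommGroup C := { (inferInstance : Group C) with mul_comm := hC.is_comm.comm }
  exact CommGroup.isNilpotent

/-- The pair `(A ∩ K, B ∩ K)` for a normal subgroup `K` meeting `A` non-trivially. -/
theorem rk1_sub_pair (hs : IsSpecialRankOnePair A B) (hA : IsMulCommutative A)
    (hB : IsMulCommutative B) {K : Subgroup G} [hK : K.Normal] (hne : A ⊓ K ≠ ⊥) :
    IsSpecialRankOnePair (A ⊓ K) (B ⊓ K) := by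
  have hr := hs.1
  have hpair : IsRankOnePair (A ⊓ K) (B ⊓ K) := by
    refine ⟨?_, isNilpotent_of_isMulCommutative (isMulCommutative_of_le hA inf_le_left),
      isNilpotent_of_isMulCommutative (isMulCommutative_of_le hB inf_le_left), ?_, ?_⟩
    · intro heq
      apply hne
      rw [eq_bot_iff, ← rk1_inf_eq_bot hr]
      intro x hx
      exact ⟨hx.1, (heq ▸ hx : x ∈ B ⊓ K).1⟩
    · intro a ha ha1
      obtain ⟨b, hb⟩ := ptn_exists_left hr ha.1 ha1
      have := ptn_inf hs hb ha.2
      exact ⟨b, this.2.2.1, this.2.2.2.1, this.2.2.2.2⟩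
    · intro b hb hb1
      obtain ⟨a, ha⟩ := ptn_exists_right hr hb.1 hb1
      have := ptn_inf' hs ha hb.2
      exact ⟨a, this.1, this.2.1, this.2.2.2.2.symm⟩
  refine ⟨hpair, ?_⟩
  intro a ha ha1 b hb hb1 he
  obtain ⟨b', hb'⟩ := ptn_exists_left hr ha.1 ha1
  have h1 := ptn_inf hs hb' ha.2
  have h2 : Ptn (A ⊓ K) (B ⊓ K) a b := ⟨ha, ha1, hb, hb1, he⟩
  have h3 : b' = b := ptn_unique_right hpair h1 h2
  rw [← h3]
  exact ptn_special hs hb'

theorem normalizer_conjBy {K N : Subgroup G} [hK : K.Normal]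
    (hKN : K ≤ Subgroup.normalizer (N : Set G)) (y : G) :
    K ≤ Subgroup.normalizer ((conjBy N y : Subgroup G) : Set G) := by
  intro k hk
  rw [mem_normalizer_iff_conjBy, conjBy_conjBy]
  have h1 : y⁻¹ * k * y ∈ K := by
    have := hK.conj_mem _ hk y⁻¹
    simpa [mul_assoc] using this
  have h2 := mem_normalizer_iff_conjBy.mp (hKN h1)
  have e : k * y = y * (y⁻¹ * k * y) := by group
  rw [e, ← conjBy_conjBy, h2]

end general

section main
variable {X : Type*} [Group X] {A B : Subgroup X}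

theorem rk1_comm_sup (h : IsRankOneGroup X A B) : commutator X ⊔ A = ⊤ := by
  rw [eq_top_iff, ← h.1]
  refine sup_le le_sup_right ?_
  obtain ⟨x, -, hBx⟩ := rk1_B_mem_unipotent h.2
  intro b hb
  rw [hBx, mem_conjBy] at hb
  have e : b = ⁅x, x⁻¹ * b * x⁆ * (x⁻¹ * b * x) := by
    rw [commutatorElement_def]; group
  rw [e]
  refine Subgroup.mul_mem _ (Subgroup.mem_sup_left ?_) (Subgroup.mem_sup_right hb)
  rw [commutator_def]
  exact Subgroup.commutator_mem_commutator (Subgroup.mem_top _) (Subgroup.mem_top _)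

theorem rk1_centralizer_top (h : IsRankOneGroup X A B) :
    Subgroup.centralizer ((A ⊔ B : Subgroup X) : Set X) = Subgroup.center X := by
  rw [h.1, Subgroup.coe_top, Subgroup.centralizer_univ]

theorem rk1_dichotomy (h : IsRankOneGroup X A B) (N : Subgroup X) [hN : N.Normal] :
    N ⊔ A = ⊤ ∨ N ≤ Subgroup.center X := by
  have hNn : A ⊔ B ≤ Subgroup.normalizer (N : Set X) := by
    rw [Subgroup.normalizer_eq_top_iff.mpr hN]; exact le_top
  rcases rk1_normal_dichotomy h.2 hNn (by rw [h.1]; exact le_top) with h1 | h1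
  · left
    rw [eq_top_iff, ← h.1]
    exact sup_le le_sup_right h1
  · right
    rw [← rk1_centralizer_top h]; exact h1

theorem rk1_center_inf (h : IsRankOneGroup X A B) : A ⊓ Subgroup.center X = ⊥ := by
  rw [eq_bot_iff, ← rk1_inf_normalizer h.2]
  refine inf_le_inf_left A ?_
  intro z hz
  apply Subgroup.centralizer_le_normalizer
  exact Subgroup.center_le_centralizer _ hz

/-- `X'` is perfect as soon as it meets `A`. -/
theorem rk1_comm_perfect (h : IsRankOneGroup X A B) (hs : IsSpecialRankOnePair A B)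
    (hA : IsMulCommutative A) (hne : A ⊓ commutator X ≠ ⊥) :
    ⁅commutator X, commutator X⁆ = commutator X := by
  apply le_antisymm (Subgroup.commutator_le_right _ _)
  rcases rk1_dichotomy h ⁅commutator X, commutator X⁆ with h1 | h1
  · exact Subgroup.Normal.commutator_le_of_self_sup_commutative_eq_top h1 hA
  · exfalso
    obtain ⟨a, ha, ha1⟩ : ∃ a ∈ A ⊓ commutator X, a ≠ 1 := by
      by_contra h0
      push Not at h0
      exact hne ((Subgroup.eq_bot_iff_forall _).mpr h0)
    obtain ⟨b, hb⟩ := ptn_exists_left h.2 ha.1 ha1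
    have hb' := ptn_inf hs hb ha.2
    obtain ⟨c, hc⟩ : ∃ c, c = ⁅a⁻¹, b⁻¹⁆ := ⟨_, rfl⟩
    have hcK : c ∈ ⁅commutator X, commutator X⁆ := by
      rw [hc]
      exact Subgroup.commutator_mem_commutator (Subgroup.inv_mem _ ha.2)
        (Subgroup.inv_mem _ hb'.2.2.1.2)
    have hcc : a * c = c * a := by
      have := h1 hcK
      rw [Subgroup.mem_center_iff] at this
      exact this a
    have e1 : b⁻¹ * a * b = a * c := by rw [hc, commutatorElement_def]; group
    have e2 := ptn_special hs hb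
    have e3 : b⁻¹ = a * (a * c) * a⁻¹ := by rw [← e1, e2]; group
    have e4 : a * (a * c) * a⁻¹ = a * c := by
      calc a * (a * c) * a⁻¹ = a * (c * a) * a⁻¹ := by rw [hcc]
        _ = a * c := by group
    rw [e4] at e3
    -- `b⁻¹ = a c` commutes with `a`
    have e5 : b⁻¹ * a * b = a := by
      have : b = (a * c)⁻¹ := by rw [← e3, inv_inv]
      rw [e3, this, mul_assoc a c a, ← hcc]; group
    rw [e5] at e2
    have e6 : b⁻¹ = a := by
      have := congrArg (fun y => a * y * a⁻¹) e2
      simp only [mul_inv_cancel_right] at this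
      rw [this]; group
    have : a ∈ A ⊓ B := ⟨ha.1, by rw [← e6]; exact B.inv_mem hb.2.2.1⟩
    rw [rk1_inf_eq_bot h.2, Subgroup.mem_bot] at this
    exact ha1 this

/-- A subgroup of `X'` normalized by `X'` and meeting `A` is `X'`. -/
theorem rk1_star (h : IsRankOneGroup X A B) (hA : IsMulCommutative A) {N : Subgroup X}
    (hNK : N ≤ commutator X) (hKN : commutator X ≤ Subgroup.normalizer (N : Set X))
    (hne : N ⊓ A ≠ ⊥) : N = commutator X := by
  apply le_antisymm hNK
  obtain ⟨M, hM⟩ : ∃ M, M = Subgroup.normalClosure ((N ⊓ A : Subgroup X) : Set X) := ⟨_, rfl⟩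
  have hMn : M.Normal := hM ▸ Subgroup.normalClosure_normal
  have hMN : M ≤ N := by
    rw [hM, Subgroup.normalClosure, Subgroup.closure_le]
    intro y hy
    obtain ⟨x, hx, hxy⟩ := Group.mem_conjugatesOfSet_iff.mp hy
    obtain ⟨g, rfl⟩ := isConj_iff.mp hxy
    have hg : g ∈ commutator X ⊔ A := by rw [rk1_comm_sup h]; exact Subgroup.mem_top _
    rw [← SetLike.mem_coe, Subgroup.normal_mul] at hg
    obtain ⟨k, hk, a, ha, rfl⟩ := Set.mem_mul.mp hg
    have e : k * a * x * (k * a)⁻¹ = k * (a * x * a⁻¹) * k⁻¹ := by group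
    have e2 : a * x * a⁻¹ = x := by
      rw [comm_of_isMulCommutative hA ha hx.2, mul_inv_cancel_right]
    rw [SetLike.mem_coe, e, e2]
    exact (Subgroup.mem_normalizer_iff.mp (hKN hk) x).mp hx.1
  have hMc : ¬ M ≤ Subgroup.center X := by
    intro h0
    obtain ⟨x, hx, hx1⟩ : ∃ x ∈ N ⊓ A, x ≠ 1 := by
      by_contra h1
      push Not at h1
      exact hne ((Subgroup.eq_bot_iff_forall _).mpr h1)
    have hxM : x ∈ M := by rw [hM]; exact Subgroup.subset_normalClosure hx
    have : x ∈ A ⊓ Subgroup.center X := ⟨hx.2, h0 hxM⟩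
    rw [rk1_center_inf h, Subgroup.mem_bot] at this
    exact hx1 this
  rcases rk1_dichotomy h M with h1 | h1
  · exact (Subgroup.Normal.commutator_le_of_self_sup_commutative_eq_top h1 hA).trans hMN
  · exact absurd h1 hMc

/-- A non-central element moves some conjugate of `A`. -/
theorem rk1_exists_moved (h : IsRankOneGroup X A B) {g : X} (hg : g ∉ Subgroup.center X) :
    ∃ x : X, conjBy (conjBy A x) g ≠ conjBy A x := by
  by_contra hcon
  push Not at hcon
  apply hg
  obtain ⟨M, hM⟩ : ∃ M, M = Subgroup.normalClosure ({g} : Set X) := ⟨_, rfl⟩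
  have hMn : M.Normal := hM ▸ Subgroup.normalClosure_normal
  have hMA : M ≤ Subgroup.normalizer (A : Set X) := by
    rw [hM, Subgroup.normalClosure, Subgroup.closure_le]
    intro y hy
    obtain ⟨x, hx, hxy⟩ := Group.mem_conjugatesOfSet_iff.mp hy
    rw [Set.mem_singleton_iff] at hx
    subst hx
    obtain ⟨c, rfl⟩ := isConj_iff.mp hxy
    rw [SetLike.mem_coe, mem_normalizer_iff_conjBy]
    have e : c * x * c⁻¹ = c * (x * c⁻¹) := by group
    rw [e, ← conjBy_conjBy, ← conjBy_conjBy, hcon c⁻¹, conjBy_conjBy, mul_inv_cancel, conjBy_one]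
  have hNn : A ⊔ B ≤ Subgroup.normalizer (M : Set X) := by
    rw [Subgroup.normalizer_eq_top_iff.mpr hMn]; exact le_top
  have h1 := rk1_central_of_normalizes h.2 hNn hMA
  rw [rk1_centralizer_top h] at h1
  apply h1
  rw [hM]
  exact Subgroup.subset_normalClosure (Set.mem_singleton g)

end main

end Cfsg.Agent.Lib.Helper86
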