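import Mathlib
import Cfsg.Prelude.Def_RootSubgroups
import Cfsg.Prelude.Def_CaseTheorems
import Cfsg.Agent.Lib.Helper86.Rk1Quasi

/-!
A special rank one group `X = ⟨A, B⟩` with abelian unipotent subgroups and `3 < |A|`:
the commutator subgroup `X'` is quasisimple.
-/

set_option autoImplicit false

namespace Cfsg.Agent.Lib.Helper86

open Cfsg
open scoped commutatorElement

variable {X : Type*} [Group X] {A B : Subgroup X}

theorem rk1_inf_comm_card (hs : IsSpecialRankOnePair A B) (hA : IsMulCommutative A)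
    (hB : IsMulCommutative B) (hcard : 3 < ENat.card A) :
    3 < ENat.card ↥(A ⊓ commutator X : Subgroup X) := by
  have h1 := comm_diag_card hs hA hB hcard
  have hle : ⁅A, rankOneDiagonal A B⁆ ≤ A ⊓ commutator X := by
    refine le_inf (comm_diag_le A B) ?_
    rw [commutator_def]
    exact Subgroup.commutator_mono le_top le_top
  exact lt_of_lt_of_le h1 (ENat.card_le_card_of_injective (Subgroup.inclusion_injective hle))

theorem ne_bot_of_three_lt_card {C : Subgroup X} (h : 3 < ENat.card C) : C ≠ ⊥ := by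
  rintro rfl
  have : ENat.card (⊥ : Subgroup X) = 1 := by
    rw [ENat.card_eq_coe_natCard, Subgroup.card_bot]; rfl
  rw [this] at h
  exact absurd h (by decide)

/-- A subgroup of `X'` normalized by `X'` and containing a non-central element is `X'`. -/
theorem rk1_quasi_main (h : IsRankOneGroup X A B) (hs : IsSpecialRankOnePair A B)
    (hA : IsMulCommutative A) (hB : IsMulCommutative B) (hcard : 3 < ENat.card A)
    {N : Subgroup X} (hNK : N ≤ commutator X)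
    (hKN : commutator X ≤ Subgroup.normalizer (N : Set X)) {g : X} (hg : g ∈ N)
    (hgc : g ∉ Subgroup.center X) : N = commutator X := by
  have hr := h.2
  obtain ⟨K, hK⟩ : ∃ K, K = commutator X := ⟨_, rfl⟩
  have hKn : K.Normal := hK ▸ (inferInstance : (commutator X).Normal)
  rw [← hK] at hNK hKN ⊢
  have hcard₁ : 3 < ENat.card ↥(A ⊓ K : Subgroup X) := hK ▸ rk1_inf_comm_card hs hA hB hcard
  have hne₁ : A ⊓ K ≠ ⊥ := ne_bot_of_three_lt_card hcard₁
  have hs₁ : IsSpecialRankOnePair (A ⊓ K) (B ⊓ K) := rk1_sub_pair hs hA hB hne₁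
  have hA₁ : IsMulCommutative ↥(A ⊓ K : Subgroup X) := isMulCommutative_of_le hA inf_le_left
  have hB₁ : IsMulCommutative ↥(B ⊓ K : Subgroup X) := isMulCommutative_of_le hB inf_le_left
  obtain ⟨x, hx⟩ := rk1_exists_moved h hgc
  obtain ⟨a₁, ha₁, ha₁1⟩ : ∃ a ∈ A ⊓ K, a ≠ 1 := by
    by_contra h0
    push Not at h0
    exact hne₁ ((Subgroup.eq_bot_iff_forall _).mpr h0)
  -- the element `p ∈ P = x A x⁻¹`
  obtain ⟨p, hp⟩ : ∃ p, p = x * a₁ * x⁻¹ := ⟨_, rfl⟩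
  have hpP : p ∈ conjBy A x := hp ▸ conj_mem_conjBy ha₁.1
  have hpK : p ∈ K := hp ▸ hKn.conj_mem _ ha₁.2 x
  have hp1 : p ≠ 1 := by
    rw [hp]; intro h0; rw [conj_eq_one_iff] at h0; exact ha₁1 h0
  have hm : p * (g * p⁻¹ * g⁻¹) ∈ N := by
    have h1 := (Subgroup.mem_normalizer_iff.mp (hKN hpK) g).mp hg
    have h2 := N.mul_mem h1 (N.inv_mem hg)
    have e : p * g * p⁻¹ * g⁻¹ = p * (g * p⁻¹ * g⁻¹) := by group
    rwa [e] at h2
  -- move `(P, Q)` to `(A, B)`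
  have hPu : conjBy A x ∈ unipotentSubgroups A B := ⟨x, by rw [h.1]; exact Subgroup.mem_top _, rfl⟩
  have hQu : conjBy (conjBy A x) g ∈ unipotentSubgroups A B :=
    unipotent_conjBy_mem hPu (by rw [h.1]; exact Subgroup.mem_top _)
  obtain ⟨y, -, hyA, hyB⟩ := rk1_two_transitive_aux hr hPu hQu (Ne.symm hx)
  obtain ⟨a₂, ha₂⟩ : ∃ a₂, a₂ = y⁻¹ * p * y := ⟨_, rfl⟩
  obtain ⟨b₂, hb₂⟩ : ∃ b₂, b₂ = y⁻¹ * (g * p⁻¹ * g⁻¹) * y := ⟨_, rfl⟩
  have conjK : ∀ k ∈ K, y⁻¹ * k * y ∈ K := by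
    intro k hk
    have := hKn.conj_mem _ hk y⁻¹
    simpa [mul_assoc] using this
  have ha₂A : a₂ ∈ A ⊓ K := by
    have h1 : a₂ ∈ A := by
      rw [ha₂]
      exact mem_conjBy.mp (by rw [hyA]; exact hpP)
    exact ⟨h1, ha₂ ▸ conjK p hpK⟩
  have hb₂B : b₂ ∈ B ⊓ K := by
    have h1 : b₂ ∈ B := by
      rw [hb₂]
      exact mem_conjBy.mp (by rw [hyB]; exact conj_mem_conjBy ((conjBy A x).inv_mem hpP))
    exact ⟨h1, hb₂ ▸ conjK _ (hKn.conj_mem _ (K.inv_mem hpK) g)⟩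
  have hb₂1 : b₂ ≠ 1 := by
    rw [hb₂]
    intro h0
    have e : y⁻¹ * (g * p⁻¹ * g⁻¹) * y = y⁻¹ * (g * p⁻¹ * g⁻¹) * y⁻¹⁻¹ := by rw [inv_inv]
    rw [e, conj_eq_one_iff, conj_eq_one_iff, inv_eq_one] at h0
    exact hp1 h0
  -- `N' = y⁻¹ N y`
  obtain ⟨N', hN'⟩ : ∃ N', N' = conjBy N y⁻¹ := ⟨_, rfl⟩
  have hN'K : N' ≤ K := by
    rw [hN', ← conjBy_normal (K := K) y⁻¹]
    exact conjBy_mono hNK _
  have hKN' : K ≤ Subgroup.normalizer (N' : Set X) := hN' ▸ normalizer_conjBy hKN y⁻¹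
  have hm' : a₂ * b₂ ∈ N' := by
    rw [hN', mem_conjBy, inv_inv]
    have e : y * (a₂ * b₂) * y⁻¹ = p * (g * p⁻¹ * g⁻¹) := by rw [ha₂, hb₂]; group
    rw [e]; exact hm
  -- the subgroup `N'' = N' ∩ ⟨A₁, B₁⟩`
  have hX₁K : (A ⊓ K) ⊔ (B ⊓ K) ≤ K := sup_le inf_le_right inf_le_right
  obtain ⟨N'', hN''⟩ : ∃ N'', N'' = N' ⊓ ((A ⊓ K) ⊔ (B ⊓ K)) := ⟨_, rfl⟩
  have hNn : (A ⊓ K) ⊔ (B ⊓ K) ≤ Subgroup.normalizer (N'' : Set X) := by
    intro k hk
    rw [Subgroup.mem_normalizer_iff]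
    intro n
    have h1 := Subgroup.mem_normalizer_iff.mp (hKN' (hX₁K hk)) n
    rw [hN'', Subgroup.mem_inf, Subgroup.mem_inf, h1]
    constructor
    · rintro ⟨h2, h3⟩
      exact ⟨h2, Subgroup.mul_mem _ (Subgroup.mul_mem _ hk h3) (Subgroup.inv_mem _ hk)⟩
    · rintro ⟨h2, h3⟩
      refine ⟨h2, ?_⟩
      have := Subgroup.mul_mem _ (Subgroup.mul_mem _ (Subgroup.inv_mem _ hk) h3) hk
      simpa [mul_assoc] using this
  have hNle : N'' ≤ (A ⊓ K) ⊔ (B ⊓ K) := hN'' ▸ inf_le_right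
  have hN'A : N' ⊓ A ≠ ⊥ := by
    rcases rk1_normal_dichotomy hs₁.1 hNn hNle with h1 | h1
    · -- `[A₁, H₁] ≤ N''`
      have hA₁n : (A ⊓ K) ≤ Subgroup.normalizer (N'' : Set X) := le_sup_left.trans hNn
      have hle : ⁅A ⊓ K, rankOneDiagonal (A ⊓ K) (B ⊓ K)⁆ ≤ N'' := by
        rw [Subgroup.commutator_le]
        intro a ha d hd
        have hd1 : d ∈ N'' ⊔ (A ⊓ K) :=
          (sup_le le_sup_right h1) (mem_diag_iff.mp hd).1
        rw [← SetLike.mem_coe, Subgroup.coe_mul_of_right_le_normalizer_left _ _ hA₁n] at hd1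
        obtain ⟨n, hn, a', ha', rfl⟩ := Set.mem_mul.mp hd1
        have e : ⁅a, n * a'⁆ = (a * n * a⁻¹) * n⁻¹ := by
          rw [commutatorElement_def]
          have hc : a' * a⁻¹ = a⁻¹ * a' :=
            comm_of_isMulCommutative hA₁ ha' (Subgroup.inv_mem _ ha)
          calc a * (n * a') * a⁻¹ * (n * a')⁻¹ = a * n * (a' * a⁻¹) * a'⁻¹ * n⁻¹ := by group
            _ = a * n * (a⁻¹ * a') * a'⁻¹ * n⁻¹ := by rw [hc]
            _ = (a * n * a⁻¹) * n⁻¹ := by group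
        rw [e]
        exact N''.mul_mem ((Subgroup.mem_normalizer_iff.mp (hA₁n ha) n).mp hn) (N''.inv_mem hn)
      have hc := comm_diag_card hs₁ hA₁ hB₁ hcard₁
      have hne := ne_bot_of_three_lt_card hc
      intro h0
      apply hne
      rw [eq_bot_iff, ← h0]
      intro w hw
      exact ⟨(hN'' ▸ hle hw : w ∈ N' ⊓ ((A ⊓ K) ⊔ (B ⊓ K))).1, (comm_diag_le _ _ hw).1⟩
    · exfalso
      have hmem : a₂ * b₂ ∈ N'' := by
        rw [hN'']
        exact ⟨hm', Subgroup.mul_mem _ (Subgroup.mem_sup_left ha₂A) (Subgroup.mem_sup_right hb₂B)⟩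
      have hcen := (mem_centralizer_sup_iff.mp (h1 hmem)).1
      have hbc : b₂ ∈ Subgroup.centralizer ((A ⊓ K : Subgroup X) : Set X) := by
        rw [Subgroup.mem_centralizer_iff]
        intro a ha
        have h2 := hcen a ha
        have hc : a * a₂ = a₂ * a := comm_of_isMulCommutative hA₁ ha ha₂A
        have h3 : a₂ * (a * b₂) = a₂ * (b₂ * a) := by
          calc a₂ * (a * b₂) = (a₂ * a) * b₂ := by group
            _ = (a * a₂) * b₂ := by rw [hc]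
            _ = a * (a₂ * b₂) := by group
            _ = a₂ * b₂ * a := h2
            _ = a₂ * (b₂ * a) := by group
        exact mul_left_cancel h3
      have hb₂N : b₂ ∈ (B ⊓ K) ⊓ Subgroup.normalizer ((A ⊓ K : Subgroup X) : Set X) :=
        ⟨hb₂B, Subgroup.centralizer_le_normalizer _ hbc⟩
      rw [rk1_inf_normalizer' hs₁.1, Subgroup.mem_bot] at hb₂N
      exact hb₂1 hb₂N
  have h5 : N' = K := by
    rw [hK] at hN'K hKN' ⊢
    exact rk1_star h hA hN'K hKN' hN'A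
  have h6 : N = conjBy N' y := by
    rw [hN', conjBy_conjBy, mul_inv_cancel, conjBy_one]
  rw [h6, h5, conjBy_normal]

end Cfsg.Agent.Lib.Helper86
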