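import Mathlib
import Cfsg.Prelude.Def_RootSubgroups
import Cfsg.Prelude.Def_CaseTheorems
import Cfsg.Agent.Lib.Helper86.Rk1Quasi2
import Cfsg.Agent.S5022

/-!
Special rank one groups with abelian unipotent subgroups: `X'` quasisimple when `3 < |A|`,
and `X ≅ (P)SL₂(p)` when `|A| = p` is prime.
-/

set_option autoImplicit false

namespace Cfsg.Agent.Lib.Helper86

open Cfsg Matrix
open scoped commutatorElement

variable {X : Type*} [Group X] {A B : Subgroup X}

theorem rk1_comm_quasisimple (h : IsRankOneGroup X A B) (hs : IsSpecialRankOnePair A B)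
    (hA : IsMulCommutative A) (hB : IsMulCommutative B) (hcard : 3 < ENat.card A) :
    IsQuasisimple ↥(commutator X) := by
  have hcard₁ := rk1_inf_comm_card (X := X) hs hA hB hcard
  have hne₁ : A ⊓ commutator X ≠ ⊥ := ne_bot_of_three_lt_card hcard₁
  have hperf : Group.IsPerfect ↥(commutator X) :=
    (Subgroup.isPerfect_iff (H := commutator X)).mpr (rk1_comm_perfect h hs hA hne₁)
  refine ⟨hperf, ?_⟩
  obtain ⟨K, hK⟩ : ∃ K, K = commutator X := ⟨_, rfl⟩
  rw [← hK] at hperf hne₁ ⊢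
  have hcne : Subgroup.center ↥K ≠ ⊤ := by
    intro h3
    have hcomm : IsMulCommutative ↥K := by
      refine ⟨⟨fun x y => ?_⟩⟩
      have hy : y ∈ Subgroup.center ↥K := by rw [h3]; exact Subgroup.mem_top y
      exact (Subgroup.mem_center_iff.mp hy x)
    have hsub : Subsingleton ↥K := Group.IsPerfect.subsingleton_of_isMulCommutative
    apply hne₁
    rw [eq_bot_iff]
    intro x hx
    have : (⟨x, hx.2⟩ : ↥K) = 1 := Subsingleton.elim _ _
    rw [Subgroup.mem_bot]
    exact congrArg Subtype.val this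
  have : Nontrivial (↥K ⧸ Subgroup.center ↥K) := by
    rw [QuotientGroup.nontrivial_iff]
    exact hcne
  refine ⟨?_⟩
  intro M hM
  have hN'n : (M.comap (QuotientGroup.mk' (Subgroup.center ↥K))).Normal := hM.comap _
  obtain ⟨N', hN'⟩ : ∃ N', N' = M.comap (QuotientGroup.mk' (Subgroup.center ↥K)) := ⟨_, rfl⟩
  rw [← hN'] at hN'n
  by_cases hN'c : N' ≤ Subgroup.center ↥K
  · left
    rw [eq_bot_iff]
    intro q hq
    obtain ⟨x, rfl⟩ := QuotientGroup.mk'_surjective (Subgroup.center ↥K) q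
    have hx : x ∈ Subgroup.center ↥K := hN'c (by rw [hN']; exact hq)
    rw [Subgroup.mem_bot]
    exact (QuotientGroup.eq_one_iff x).mpr hx
  · right
    obtain ⟨g', hg', hg'c⟩ := SetLike.not_le_iff_exists.mp hN'c
    obtain ⟨N, hN⟩ : ∃ N, N = N'.map K.subtype := ⟨_, rfl⟩
    have hNK : N ≤ K := by rw [hN]; exact Subgroup.map_subtype_le N'
    have hconj : ∀ k ∈ K, ∀ n ∈ N, k * n * k⁻¹ ∈ N := by
      intro k hk n hn
      rw [hN] at hn ⊢
      obtain ⟨n', hn', rfl⟩ := Subgroup.mem_map.mp hn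
      refine Subgroup.mem_map.mpr ⟨⟨k, hk⟩ * n' * ⟨k, hk⟩⁻¹, hN'n.conj_mem _ hn' _, ?_⟩
      simp
    have hKN : K ≤ Subgroup.normalizer (N : Set X) := by
      intro k hk
      rw [Subgroup.mem_normalizer_iff]
      intro n
      constructor
      · exact hconj k hk n
      · intro h1
        have := hconj k⁻¹ (K.inv_mem hk) _ h1
        simpa [mul_assoc] using this
    have hgN : (g' : X) ∈ N := by
      rw [hN]; exact Subgroup.mem_map.mpr ⟨g', hg', rfl⟩
    have hgc : (g' : X) ∉ Subgroup.center X := by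
      intro h0
      apply hg'c
      rw [Subgroup.mem_center_iff]
      intro y
      apply Subtype.ext
      have := Subgroup.mem_center_iff.mp h0 (y : X)
      simpa using this
    have hmain : N = K := by
      rw [hK] at hNK hKN ⊢
      exact rk1_quasi_main h hs hA hB hcard hNK hKN hgN hgc
    rw [eq_top_iff]
    intro q _
    obtain ⟨x, rfl⟩ := QuotientGroup.mk'_surjective (Subgroup.center ↥K) q
    have hx : (x : X) ∈ N := by rw [hmain]; exact x.2
    rw [hN] at hx
    obtain ⟨x', hx', hxx⟩ := Subgroup.mem_map.mp hx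
    have : x' = x := Subtype.ext hxx
    rw [this, hN'] at hx'
    exact hx'

/-- `|A| = p` prime: `X ≅ SL₂(p)` or `PSL₂(p)`. -/
theorem rk1_small_case (h : IsRankOneGroup X A B) (hs : IsSpecialRankOnePair A B)
    (hab : HasAbelianUnipotents A B) (p : ℕ) [hp : Fact p.Prime] (hcard : Nat.card A = p) :
    Nonempty (X ≃* SpecialLinearGroup (Fin 2) (ZMod p)) ∨
      Nonempty (X ≃* ProjectiveSpecialLinearGroup (Fin 2) (ZMod p)) := by
  have hr := h.2
  obtain ⟨a, ha, ha1⟩ := rk1_exists_ne_one hr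
  have hexp : ∀ a' ∈ A, a' ^ p = 1 := by
    intro a' ha'
    have hfin : Finite A := Nat.finite_of_card_ne_zero (by rw [hcard]; exact hp.out.ne_zero)
    have h1 := pow_card_eq_one' (G := A) (x := ⟨a', ha'⟩)
    rw [hcard] at h1
    have h2 : (((⟨a', ha'⟩ : A) ^ p : A) : X) = ((1 : A) : X) := congrArg Subtype.val h1
    rw [Subgroup.coe_pow, Subgroup.coe_one] at h2
    exact h2
  have hap := hexp a ha
  obtain ⟨b, hb⟩ := ptn_exists_left hr ha ha1
  have hbp : b ^ p = 1 := (ptn_pow_eq_one_iff hs hb p).mp hap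
  have hAz : ∀ a' ∈ A, ∃ t : ZMod p, a' = xf p a t := by
    intro a' ha'
    have h1 : Subgroup.zpowers (⟨a, ha⟩ : A) = ⊤ :=
      zpowers_eq_top_of_prime_card hcard (fun h0 => ha1 (congrArg Subtype.val h0))
    have h2 : (⟨a', ha'⟩ : A) ∈ Subgroup.zpowers (⟨a, ha⟩ : A) := by rw [h1]; exact Subgroup.mem_top _
    obtain ⟨k, hk⟩ := Subgroup.mem_zpowers_iff.mp h2
    have h3 : a ^ k = a' := by
      have := congrArg Subtype.val hk
      simpa using this
    exact ⟨(k : ZMod p), by rw [xf_intCast hap, h3]⟩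
  have htop : Subgroup.closure ({a, b} : Set X) = ⊤ := by
    rw [eq_top_iff, ← h.1]
    have hamem : a ∈ Subgroup.closure ({a, b} : Set X) := Subgroup.subset_closure (by simp)
    have hbmem : b ∈ Subgroup.closure ({a, b} : Set X) := Subgroup.subset_closure (by simp)
    refine sup_le ?_ ?_
    · intro a' ha'
      obtain ⟨t, rfl⟩ := hAz a' ha'
      exact Subgroup.pow_mem _ hamem _
    · intro b' hb'
      by_cases hb'1 : b' = 1
      · rw [hb'1]; exact Subgroup.one_mem _
      obtain ⟨a', ha'⟩ := ptn_exists_right hr hb' hb'1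
      obtain ⟨t, ht⟩ := hAz a' ha'.1
      have ht0 : t ≠ 0 := by
        rintro rfl
        rw [xf_zero] at ht
        exact ha'.2.1 ht
      have hP := ptn_xf hs hab.2 hb hap ht0
      rw [← ht] at hP
      have := ptn_unique_right hr ha' hP
      rw [this]
      exact Subgroup.pow_mem _ hbmem _
  have hel : IsElementaryAbelian p A := ⟨hab.1, hexp⟩
  have e0 : X ≃* ↥(Subgroup.closure ({a, b} : Set X)) :=
    (Subgroup.topEquiv (G := X)).symm.trans (MulEquiv.subgroupCongr htop.symm)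
  rcases Cfsg.Agent.S5022.result h hs hab hel hb.1 hb.2.1 hb.2.2.1 hb.2.2.2.1 hb.2.2.2.2 with
    ⟨⟨e⟩⟩ | ⟨⟨e⟩⟩
  · left; exact ⟨e0.trans e⟩
  · right; exact ⟨e0.trans e⟩

/-- `PSL₂(2) ≅ SL₂(2)`. -/
theorem psl_two_two : Nonempty (ProjectiveSpecialLinearGroup (Fin 2) (ZMod 2) ≃*
    SpecialLinearGroup (Fin 2) (ZMod 2)) := by
  have hc : Subgroup.center (SpecialLinearGroup (Fin 2) (ZMod 2)) = ⊥ := by
    rw [eq_bot_iff]
    intro g hg
    obtain ⟨r, hr, hrg⟩ := Matrix.SpecialLinearGroup.mem_center_iff.mp hg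
    rw [Subgroup.mem_bot]
    have hr1 : r = 1 := by
      rw [Fintype.card_fin] at hr
      have key : ∀ r : ZMod 2, r ^ 2 = 1 → r = 1 := by decide
      exact key r hr
    apply Subtype.ext
    rw [← hrg, hr1]
    simp
  exact ⟨(QuotientGroup.quotientMulEquivOfEq hc).trans (QuotientGroup.quotientBot)⟩

end Cfsg.Agent.Lib.Helper86
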