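import Mathlib
import Cfsg.Prelude.Def_RootSubgroups

set_option autoImplicit false

namespace Cfsg.Agent.Lib.Helper86

section RootInv

variable {G : Type*} [Group G]

theorem ri_orderOf_conj (g x : G) : orderOf (g * x * g⁻¹) = orderOf x := by
  rw [← MulAut.conj_apply, MulEquiv.orderOf_eq]

theorem ri_orderOf_mul_comm (x y : G) : orderOf (x * y) = orderOf (y * x) := by
  have : y * x = x⁻¹ * (x * y) * x⁻¹⁻¹ := by group
  rw [this, ri_orderOf_conj]

theorem ri_closure_normal {K : Set G} (h : ∀ k ∈ K, ∀ g : G, g * k * g⁻¹ ∈ K) :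
    (Subgroup.closure K).Normal := by
  constructor
  intro n hn g
  induction hn using Subgroup.closure_induction with
  | mem z hz => exact Subgroup.subset_closure (h z hz g)
  | one => simp
  | mul a b _ _ ha hb =>
    have : g * (a * b) * g⁻¹ = (g * a * g⁻¹) * (g * b * g⁻¹) := by group
    rw [this]; exact Subgroup.mul_mem _ ha hb
  | inv a _ ha =>
    have : g * a⁻¹ * g⁻¹ = (g * a * g⁻¹)⁻¹ := by group
    rw [this]; exact Subgroup.inv_mem _ ha

variable {D : Set G}

theorem ri_sq (hD : Cfsg.IsRootInvolutionSet D) {d : G} (hd : d ∈ D) : d * d = 1 := by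
  have := hD.orderOf_eq d hd
  rw [← pow_two, ← this]; exact pow_orderOf_eq_one d

theorem ri_inv (hD : Cfsg.IsRootInvolutionSet D) {d : G} (hd : d ∈ D) : d⁻¹ = d :=
  inv_eq_of_mul_eq_one_right (ri_sq hD hd)

theorem ri_ne_one (hD : Cfsg.IsRootInvolutionSet D) {d : G} (hd : d ∈ D) : d ≠ 1 := by
  intro h
  have := hD.orderOf_eq d hd
  rw [h, orderOf_one] at this
  omega

theorem ri_mul_ne_one (hD : Cfsg.IsRootInvolutionSet D) {a b : G} (_ha : a ∈ D) (hb : b ∈ D)
    (hab : a ≠ b) : a * b ≠ 1 := by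
  intro h
  apply hab
  have : a = b⁻¹ := eq_inv_of_mul_eq_one_left h
  rw [this, ri_inv hD hb]

theorem oddAdj_symm {a b : G} (h : Cfsg.OddAdj D a b) : Cfsg.OddAdj D b a :=
  ⟨h.2.1, h.1, h.2.2.1.symm, by rw [ri_orderOf_mul_comm]; exact h.2.2.2⟩

theorem oddAdj_conj (hD : Cfsg.IsRootInvolutionSet D) {a b : G} (h : Cfsg.OddAdj D a b) (g : G) :
    Cfsg.OddAdj D (g * a * g⁻¹) (g * b * g⁻¹) := by
  refine ⟨hD.conj_mem a h.1 g, hD.conj_mem b h.2.1 g, fun e => h.2.2.1 ?_, ?_⟩
  · simpa using e
  · have : g * a * g⁻¹ * (g * b * g⁻¹) = g * (a * b) * g⁻¹ := by group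
    rw [this, ri_orderOf_conj]; exact h.2.2.2

theorem oddLink {u v : G} (hu : u ∈ D) (hv : v ∈ D) (h : Odd (orderOf (u * v))) :
    Relation.ReflTransGen (Cfsg.OddAdj D) u v := by
  by_cases e : u = v
  · rw [e]
  · exact Relation.ReflTransGen.single ⟨hu, hv, e, h⟩

theorem oddReach_symm {a b : G} (h : Relation.ReflTransGen (Cfsg.OddAdj D) a b) :
    Relation.ReflTransGen (Cfsg.OddAdj D) b a := by
  induction h with
  | refl => exact .refl
  | tail _ hbc ih => exact Relation.ReflTransGen.head (oddAdj_symm hbc) ih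

theorem oddComp_eq_of_reach {a b : G} (h : Relation.ReflTransGen (Cfsg.OddAdj D) a b) :
    Cfsg.elemComponentOf (Cfsg.OddAdj D) D a = Cfsg.elemComponentOf (Cfsg.OddAdj D) D b := by
  ext x; constructor
  · rintro ⟨hx, hax⟩; exact ⟨hx, (oddReach_symm h).trans hax⟩
  · rintro ⟨hx, hbx⟩; exact ⟨hx, h.trans hbx⟩

/-- two members of `D` whose product has odd order and which commute are equal -/
theorem ri_eq_of_odd_of_comm (hD : Cfsg.IsRootInvolutionSet D) {a b : G} (ha : a ∈ D) (hb : b ∈ D)
    (hodd : Odd (orderOf (a * b))) (hc : a * b = b * a) : a = b := by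
  by_contra hne
  have h2 : (a * b) ^ 2 = 1 := by
    rw [pow_two]
    calc a * b * (a * b) = a * b * (b * a) := by rw [hc]
      _ = a * (b * b) * a := by simp only [mul_assoc]
      _ = 1 := by rw [ri_sq hD hb, mul_one, ri_sq hD ha]
  have hdvd := orderOf_dvd_of_pow_eq_one h2
  have h1 : orderOf (a * b) = 1 := by
    have hle : orderOf (a * b) ≤ 2 := Nat.le_of_dvd (by norm_num) hdvd
    obtain ⟨k, hk⟩ := hodd
    omega
  exact ri_mul_ne_one hD ha hb hne (orderOf_eq_one_iff.mp h1)

/-- First line lemma: `z, a, a z ∈ D` commuting, `e ∈ D` with `e z` of odd order, `e ≠ z`: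
then `e` does not commute with `a`. -/
theorem ri_line_not_comm (hD : Cfsg.IsRootInvolutionSet D) {z a e : G} (hz : z ∈ D) (ha : a ∈ D)
    (haz : a * z = z * a) (hazD : a * z ∈ D) (he : e ∈ D) (hodd : Odd (orderOf (e * z)))
    (hez : e ≠ z) : e * a ≠ a * e := by
  intro hcomm
  have hm1 : orderOf (e * z) ≠ 1 := by
    intro h1
    exact ri_mul_ne_one hD he hz hez (orderOf_eq_one_iff.mp h1)
  have hc : Commute (e * z) a := by
    show e * z * a = a * (e * z)
    rw [mul_assoc, ← haz, ← mul_assoc, hcomm, mul_assoc]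
  have hcop : Nat.Coprime (orderOf (e * z)) (orderOf a) := by
    rw [hD.orderOf_eq a ha]
    exact Nat.coprime_two_right.mpr hodd
  have hord : orderOf (e * (a * z)) = orderOf (e * z) * 2 := by
    have h := hc.orderOf_mul_eq_mul_orderOf_of_coprime hcop
    rw [hD.orderOf_eq a ha] at h
    have heq : e * (a * z) = e * z * a := by rw [haz, mul_assoc]
    rw [heq]; exact h
  obtain ⟨k, hk⟩ := hodd
  rcases hD.pair e he (a * z) hazD with h | h | ⟨h, _⟩
  · have h2 : (e * (a * z)) ^ 2 = 1 := by
      rw [pow_two]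
      calc e * (a * z) * (e * (a * z)) = e * (a * z) * (a * z * e) := by rw [h]
        _ = e * ((a * z) * (a * z)) * e := by simp only [mul_assoc]
        _ = 1 := by rw [ri_sq hD hazD, mul_one, ri_sq hD he]
    have hdvd := orderOf_dvd_of_pow_eq_one h2
    rw [hord] at hdvd
    have hle : orderOf (e * z) * 2 ≤ 2 := Nat.le_of_dvd (by norm_num) hdvd
    omega
  · rw [hord] at h
    obtain ⟨j, hj⟩ := h
    omega
  · rw [hord] at h
    omega

/-- Second line lemma: in the same situation, `e a` or `e (a z)` has odd order. -/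
theorem ri_line_odd (hD : Cfsg.IsRootInvolutionSet D) {z a e : G} (hz : z ∈ D) (ha : a ∈ D)
    (haz : a * z = z * a) (hazD : a * z ∈ D) (he : e ∈ D) (hodd : Odd (orderOf (e * z)))
    (hez : e ≠ z) : Odd (orderOf (e * a)) ∨ Odd (orderOf (e * (a * z))) := by
  by_contra hcon
  rw [not_or] at hcon
  obtain ⟨h1, h2⟩ := hcon
  have hz2 := ri_sq hD hz
  have he2 := ri_sq hD he
  have hna : e * a ≠ a * e := ri_line_not_comm hD hz ha haz hazD he hodd hez
  have haz' : a * z * z = z * (a * z) := by rw [haz, mul_assoc, ← haz]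
  have hazz : a * z * z = a := by rw [mul_assoc, hz2, mul_one]
  have hnaz : e * (a * z) ≠ a * z * e :=
    ri_line_not_comm hD hz hazD haz' (by rw [hazz]; exact ha) he hodd hez
  have h4a : orderOf (e * a) = 4 := by
    rcases hD.pair e he a ha with h | h | h
    · exact absurd h hna
    · exact absurd h h1
    · exact h.1
  have h4az : orderOf (e * (a * z)) = 4 := by
    rcases hD.pair e he (a * z) hazD with h | h | h
    · exact absurd h hnaz
    · exact absurd h h2
    · exact h.1
  have key : ∀ x ∈ D, orderOf (e * x) = 4 → Commute e (x * e * x⁻¹) := by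
    intro x hx h4
    have hxi := ri_inv hD hx
    have hei := ri_inv hD he
    have h : (e * x) ^ 4 = 1 := by rw [← h4]; exact pow_orderOf_eq_one _
    have h' : e * x * e * x * (e * x * e * x) = 1 := by
      have : (e * x) ^ 4 = e * x * e * x * (e * x * e * x) := by
        simp only [pow_succ, pow_zero, one_mul, mul_assoc]
      rw [← this]; exact h
    have h'' := eq_inv_of_mul_eq_one_left h'
    rw [hxi]
    show e * (x * e * x) = x * e * x * e
    calc e * (x * e * x) = e * x * e * x := by simp only [mul_assoc]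
      _ = (e * x * e * x)⁻¹ := h''
      _ = x * e * x * e := by
        simp only [mul_inv_rev, hxi, hei, mul_assoc]
  have hf : Commute e (a * e * a⁻¹) := key a ha h4a
  have hg : Commute e (a * z * e * (a * z)⁻¹) := key (a * z) hazD h4az
  have hgz : a * z * e * (a * z)⁻¹ = z * (a * e * a⁻¹) * z⁻¹ := by
    rw [haz]; group
  rw [hgz] at hg
  -- conjugate by z⁻¹
  have hg' : Commute (z * e * z) (a * e * a⁻¹) := by
    have := (Commute.conj_iff z⁻¹).mpr hg
    have e1 : z⁻¹ * e * z⁻¹⁻¹ = z * e * z := by rw [inv_inv, ri_inv hD hz]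
    have e2 : z⁻¹ * (z * (a * e * a⁻¹) * z⁻¹) * z⁻¹⁻¹ = a * e * a⁻¹ := by group
    rw [e1, e2] at this
    exact this
  have hsq : Commute (a * e * a⁻¹) ((e * z) ^ 2) := by
    have : (e * z) ^ 2 = e * (z * e * z) := by rw [pow_two]; simp only [mul_assoc]
    rw [this]
    exact Commute.mul_right hf.symm hg'.symm
  obtain ⟨k, hk⟩ := hodd
  have hfez : Commute (a * e * a⁻¹) (e * z) := by
    have h := Commute.pow_right hsq (k + 1)
    have : ((e * z) ^ 2) ^ (k + 1) = e * z := by
      rw [← pow_mul]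
      have : 2 * (k + 1) = orderOf (e * z) + 1 := by omega
      rw [this, pow_succ, pow_orderOf_eq_one, one_mul]
    rw [this] at h
    exact h
  have hfz : Commute (a * e * a⁻¹) z := by
    have h := Commute.mul_right hf.symm hfez
    have : e * (e * z) = z := by rw [← mul_assoc, he2, one_mul]
    rw [this] at h
    exact h
  have hezc : Commute e z := by
    have hz' : a * z * a⁻¹ = z := by rw [haz]; group
    rw [← hz'] at hfz
    exact (Commute.conj_iff a).mp hfz
  exact hez (ri_eq_of_odd_of_comm hD he hz ⟨k, hk⟩ hezc.eq)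

/-- facts about a dihedral pair of order 8: `z = (a b)^2` commutes with `a`, `b`,
`a z = b a b⁻¹`, `b z = a b a⁻¹`. -/
theorem ri_d8_facts (hD : Cfsg.IsRootInvolutionSet D) {a b : G} (ha : a ∈ D) (hb : b ∈ D)
    (h4 : orderOf (a * b) = 4) :
    a * (a * b) ^ 2 = (a * b) ^ 2 * a ∧ b * (a * b) ^ 2 = (a * b) ^ 2 * b ∧
      a * (a * b) ^ 2 = b * a * b⁻¹ ∧ b * (a * b) ^ 2 = a * b * a⁻¹ := by
  have ha2 := ri_sq hD ha
  have hb2 := ri_sq hD hb
  have hai := ri_inv hD ha
  have hbi := ri_inv hD hb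
  have h : (a * b) ^ 4 = 1 := by rw [← h4]; exact pow_orderOf_eq_one _
  have h' : a * b * a * b * (a * b * a * b) = 1 := by
    have : (a * b) ^ 4 = a * b * a * b * (a * b * a * b) := by
      simp only [pow_succ, pow_zero, one_mul, mul_assoc]
    rw [← this]; exact h
  have hz : (a * b) ^ 2 = a * b * a * b := by rw [pow_two]; simp only [mul_assoc]
  have hzinv : a * b * a * b = b * a * b * a := by
    have h'' := eq_inv_of_mul_eq_one_left h'
    rw [h'']
    simp only [mul_inv_rev, hai, hbi, mul_assoc]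
  have e3 : a * (a * b) ^ 2 = b * a * b⁻¹ := by
    rw [hz, hbi]
    calc a * (a * b * a * b) = (a * a) * b * a * b := by simp only [mul_assoc]
      _ = b * a * b := by rw [ha2, one_mul]
  have e4 : b * (a * b) ^ 2 = a * b * a⁻¹ := by
    rw [hz, hzinv, hai]
    calc b * (b * a * b * a) = (b * b) * a * b * a := by simp only [mul_assoc]
      _ = a * b * a := by rw [hb2, one_mul]
  have e1 : a * (a * b) ^ 2 = (a * b) ^ 2 * a := by
    rw [e3, hz, hzinv, hbi]
    calc b * a * b = b * a * b * (a * a) := by rw [ha2, mul_one]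
      _ = b * a * b * a * a := by simp only [mul_assoc]
  have e2 : b * (a * b) ^ 2 = (a * b) ^ 2 * b := by
    rw [e4, hz, hai]
    calc a * b * a = a * b * a * (b * b) := by rw [hb2, mul_one]
      _ = a * b * a * b * b := by simp only [mul_assoc]
  exact ⟨e1, e2, e3, e4⟩

/-- conjugating `e` by an element centralizing `z` -/
theorem ri_conj_keep {z e g : G} (hg : g * z = z * g) (hodd : Odd (orderOf (e * z)))
    (hez : e ≠ z) : Odd (orderOf (g * e * g⁻¹ * z)) ∧ g * e * g⁻¹ ≠ z := by
  have hz' : g * z * g⁻¹ = z := by rw [hg]; group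
  constructor
  · have : g * e * g⁻¹ * z = g * (e * z) * g⁻¹ := by
      conv_lhs => rw [← hz']
      group
    rw [this, ri_orderOf_conj]; exact hodd
  · intro h
    apply hez
    have : e = g⁻¹ * (g * e * g⁻¹) * g := by group
    rw [this, h]
    have : z = g⁻¹ * (g * z * g⁻¹) * g := by group
    conv_rhs => rw [this, hz']

/-- Hexagon lemma: `a, b ∈ D` with `a b` of order 4, `z = (a b)^2`, and `e ∈ D` with `e z` of
odd order, `e ≠ z`.  Then some conjugate `e'` of `e` (still with `e' z` of odd order) has odd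
order products with both `a` and `b`. -/
theorem ri_hexagon (hD : Cfsg.IsRootInvolutionSet D) {a b e : G} (ha : a ∈ D) (hb : b ∈ D)
    (h4 : orderOf (a * b) = 4) (hzD : (a * b) ^ 2 ∈ D) (he : e ∈ D)
    (hodd : Odd (orderOf (e * (a * b) ^ 2))) (hez : e ≠ (a * b) ^ 2) :
    ∃ e' ∈ D, Odd (orderOf (a * e')) ∧ Odd (orderOf (e' * b)) ∧
      Odd (orderOf (e' * (a * b) ^ 2)) ∧ e' ≠ (a * b) ^ 2 := by
  obtain ⟨e1, e2, e3, e4⟩ := ri_d8_facts hD ha hb h4
  have hai := ri_inv hD ha
  have hbi := ri_inv hD hb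
  set z := (a * b) ^ 2 with hzdef
  have hazD : a * z ∈ D := by rw [e3]; exact hD.conj_mem a ha b
  have hbzD : b * z ∈ D := by rw [e4]; exact hD.conj_mem b hb a
  have hgen : ∀ g : G, g * z = z * g → Odd (orderOf ((g⁻¹ * a * g) * e)) →
      Odd (orderOf (e * (g⁻¹ * b * g))) →
      ∃ e' ∈ D, Odd (orderOf (a * e')) ∧ Odd (orderOf (e' * b)) ∧
        Odd (orderOf (e' * z)) ∧ e' ≠ z := by
    intro g hg h1 h2
    obtain ⟨k1, k2⟩ := ri_conj_keep hg hodd hez
    refine ⟨g * e * g⁻¹, hD.conj_mem e he g, ?_, ?_, k1, k2⟩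
    · have : a * (g * e * g⁻¹) = g * ((g⁻¹ * a * g) * e) * g⁻¹ := by group
      rw [this, ri_orderOf_conj]; exact h1
    · have : g * e * g⁻¹ * b = g * (e * (g⁻¹ * b * g)) * g⁻¹ := by group
      rw [this, ri_orderOf_conj]; exact h2
  rcases ri_line_odd hD hzD ha e1 hazD he hodd hez with hA | hA <;>
  rcases ri_line_odd hD hzD hb e2 hbzD he hodd hez with hB | hB
  · -- g = 1
    apply hgen 1 (by simp)
    · simpa [ri_orderOf_mul_comm a e] using hA
    · simpa using hB
  · -- g = a
    apply hgen a e1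
    · have : a⁻¹ * a * a * e = a * e := by group
      rw [this, ri_orderOf_mul_comm]; exact hA
    · have : a⁻¹ * b * a = b * z := by rw [e4, hai]
      rw [this]; exact hB
  · -- g = b
    apply hgen b e2
    · have : b⁻¹ * a * b = a * z := by rw [e3, hbi]
      rw [this, ri_orderOf_mul_comm]; exact hA
    · have : b⁻¹ * b * b = b := by group
      rw [this]; exact hB
  · -- g = a * b
    have hg : a * b * z = z * (a * b) := by
      rw [mul_assoc, e2, ← mul_assoc, e1, mul_assoc]
    apply hgen (a * b) hg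
    · have : (a * b)⁻¹ * a * (a * b) = a * z := by
        rw [e3, mul_inv_rev, hai, hbi]
        have := ri_sq hD ha
        calc b * a * a * (a * b) = b * (a * a) * (a * b) := by simp only [mul_assoc]
          _ = b * a * b := by rw [this, mul_one, mul_assoc]
      rw [this, ri_orderOf_mul_comm]; exact hA
    · have : (a * b)⁻¹ * b * (a * b) = b * z := by
        rw [mul_inv_rev, hai, hbi, hzdef, pow_two]
        simp only [mul_assoc]
      rw [this]; exact hB

end RootInv

end Cfsg.Agent.Lib.Helper86
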