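import Mathlib
import Cfsg.Prelude.Def_RootSubgroups
import Cfsg.Agent.Lib.Helper86.RootInv
import Cfsg.Agent.Lib.Helper06.Dihedral
import Cfsg.Agent.Lib.Helper52.PCore

set_option autoImplicit false

namespace Cfsg.Agent.Lib.Helper86

section RootInv2

variable {G : Type*} [Group G]

/-- closure of a set of pairwise commuting elements of exponent 2 has exponent 2 -/
theorem ri_closure_exp_two {S : Set G} (hsq : ∀ x ∈ S, x * x = 1)
    (hcomm : ∀ x ∈ S, ∀ y ∈ S, x * y = y * x) :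
    (∀ g ∈ Subgroup.closure S, ∀ h ∈ Subgroup.closure S, g * h = h * g) ∧
      ∀ g ∈ Subgroup.closure S, g * g = 1 := by
  have hc1 : Subgroup.closure S ≤ Subgroup.centralizer S :=
    (Subgroup.closure_le _).mpr
      (fun x hx => Subgroup.mem_centralizer_iff.mpr (fun y hy => hcomm y hy x hx))
  have hc2 := Subgroup.closure_le_centralizer_centralizer S
  have hab : ∀ g ∈ Subgroup.closure S, ∀ h ∈ Subgroup.closure S, g * h = h * g := by
    intro g hg h hh
    exact (Subgroup.mem_centralizer_iff.mp (hc2 hh) g (hc1 hg))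
  refine ⟨hab, ?_⟩
  intro g hg
  induction hg using Subgroup.closure_induction with
  | mem x hx => exact hsq x hx
  | one => simp
  | mul a b ha hb iha ihb =>
    calc a * b * (a * b) = a * (b * a) * b := by simp only [mul_assoc]
      _ = a * (a * b) * b := by rw [hab b hb a ha]
      _ = (a * a) * (b * b) := by simp only [mul_assoc]
      _ = 1 := by rw [iha, ihb, one_mul]
  | inv a _ iha =>
    have : a⁻¹ = a := inv_eq_of_mul_eq_one_right iha
    rw [this, iha]

theorem ri_closure_conj_by {K : Set G} (H : Subgroup G)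
    (h : ∀ k ∈ K, ∀ g ∈ H, g * k * g⁻¹ ∈ K) :
    ∀ x ∈ Subgroup.closure K, ∀ g ∈ H, g * x * g⁻¹ ∈ Subgroup.closure K := by
  intro x hx g hg
  induction hx using Subgroup.closure_induction with
  | mem z hz => exact Subgroup.subset_closure (h z hz g hg)
  | one => simp
  | mul a b _ _ ha hb =>
    have : g * (a * b) * g⁻¹ = (g * a * g⁻¹) * (g * b * g⁻¹) := by group
    rw [this]; exact Subgroup.mul_mem _ ha hb
  | inv a _ ha =>
    have : g * a⁻¹ * g⁻¹ = (g * a * g⁻¹)⁻¹ := by group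
    rw [this]; exact Subgroup.inv_mem _ ha

theorem ri_mem_of_sq_mem {x : G} (hodd : Odd (orderOf x)) (H : Subgroup G) (h : x ^ 2 ∈ H) :
    x ∈ H := by
  obtain ⟨k, hk⟩ := hodd
  have : (x ^ 2) ^ (k + 1) = x := by
    rw [← pow_mul]
    have : 2 * (k + 1) = orderOf x + 1 := by omega
    rw [this, pow_succ, pow_orderOf_eq_one, one_mul]
  rw [← this]
  exact H.pow_mem h _

theorem ri_pcore_map_le (p : ℕ) {X : Type*} [Group X] (φ : X ≃* X) :
    (Cfsg.pCore p X).map φ.toMonoidHom ≤ Cfsg.pCore p X := by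
  unfold Cfsg.pCore
  rw [Subgroup.map_le_iff_le_comap]
  apply sSup_le
  rintro A ⟨hAn, hAp⟩
  rw [← Subgroup.map_le_iff_le_comap]
  apply le_sSup
  exact ⟨hAn.map _ φ.surjective, hAp.map _⟩

/-- the `p`-core of a normal subgroup lies in the `p`-core -/
theorem ri_map_pCore_le (p : ℕ) (N : Subgroup G) [N.Normal] :
    (Cfsg.pCore p ↥N).map N.subtype ≤ Cfsg.pCore p G := by
  haveI : (Cfsg.pCore p ↥N).Characteristic :=
    Subgroup.characteristic_iff_map_le.mpr (fun φ => ri_pcore_map_le p φ)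
  have hn : ((Cfsg.pCore p ↥N).map N.subtype).Normal :=
    ConjAct.normal_of_characteristic_of_normal
  exact Cfsg.Agent.Lib.Helper52.le_pCore hn ((Cfsg.Agent.Lib.Helper52.pCore_isPGroup p ↥N).map _)

/-- a `p`-subgroup `R ≤ N` normalized by the normal subgroup `N` lies in the `p`-core of `G` -/
theorem ri_le_pCore_of_normalized (p : ℕ) (N : Subgroup G) [N.Normal] (R : Subgroup G)
    (hRN : R ≤ N) (hR : IsPGroup p R) (hnorm : ∀ x ∈ R, ∀ g ∈ N, g * x * g⁻¹ ∈ R) :
    R ≤ Cfsg.pCore p G := by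
  have hn : (R.subgroupOf N).Normal := by
    constructor
    intro x hx g
    rw [Subgroup.mem_subgroupOf] at hx ⊢
    exact hnorm _ hx _ g.2
  have hp : IsPGroup p (R.subgroupOf N) :=
    hR.comap_of_injective N.subtype N.subtype_injective
  have hle := Cfsg.Agent.Lib.Helper52.le_pCore hn hp
  intro x hx
  apply ri_map_pCore_le p N
  exact ⟨⟨x, hRN hx⟩, hle (Subgroup.mem_subgroupOf.mpr hx), rfl⟩

variable {D : Set G}

theorem ri_conj_of_reach (hD : Cfsg.IsRootInvolutionSet D) {a b : G}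
    (h : Relation.ReflTransGen (Cfsg.OddAdj D) a b) : ∃ g : G, b = g * a * g⁻¹ := by
  induction h with
  | refl => exact ⟨1, by simp⟩
  | tail _ hbc ih =>
    obtain ⟨g, rfl⟩ := ih
    obtain ⟨d, _, hd⟩ := Cfsg.Agent.Lib.Helper06.conj_of_odd (hD.orderOf_eq _ hbc.1)
      (hD.orderOf_eq _ hbc.2.1) hbc.2.2.2
    refine ⟨d * g, ?_⟩
    rw [← hd]; group

/-- two members of `D` with product of odd order whose square lies in a `2`-subgroup are equal -/
theorem ri_eq_of_odd_of_sq_mem (hD : Cfsg.IsRootInvolutionSet D) {P : Subgroup G}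
    (hP : IsPGroup 2 P) {a c : G} (ha : a ∈ D) (hc : c ∈ D) (hodd : Odd (orderOf (a * c)))
    (hmem : (a * c) ^ 2 ∈ P) : a = c := by
  by_contra hne
  obtain ⟨k, hk⟩ := hP ⟨(a * c) ^ 2, hmem⟩
  have hk' : ((a * c) ^ 2) ^ (2 ^ k) = 1 := by
    have := congrArg Subtype.val hk
    simpa using this
  have hd1 : orderOf ((a * c) ^ 2) ∣ 2 ^ k := orderOf_dvd_of_pow_eq_one hk'
  have hd2 : orderOf ((a * c) ^ 2) ∣ orderOf (a * c) := orderOf_pow_dvd 2
  have hcop : Nat.Coprime (orderOf (a * c)) (2 ^ k) :=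
    Nat.Coprime.pow_right k (Nat.coprime_two_right.mpr hodd)
  have h1 : orderOf ((a * c) ^ 2) = 1 := Nat.eq_one_of_dvd_coprimes hcop hd2 hd1
  have h2 : (a * c) ^ 2 = 1 := orderOf_eq_one_iff.mp h1
  have hdvd := orderOf_dvd_of_pow_eq_one h2
  have hle : orderOf (a * c) ≤ 2 := Nat.le_of_dvd (by norm_num) hdvd
  obtain ⟨j, hj⟩ := hodd
  have h3 : orderOf (a * c) = 1 := by omega
  exact ri_mul_ne_one hD ha hc hne (orderOf_eq_one_iff.mp h3)

end RootInv2

end Cfsg.Agent.Lib.Helper86
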