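import Mathlib
import Cfsg.Prelude.Def_RootSubgroups
import Cfsg.Agent.Lib.Helper86.Rk1Quasi2
import Cfsg.Agent.Lib.Helper86.Components
import Cfsg.Agent.S5032
import Cfsg.Agent.S5034

/-!
Normal subgroups of a group generated by a connected set of abstract root subgroups in which
different members have different sets of commuting members: `N ≤ Z(G)` or `G = N A`.
-/

set_option autoImplicit false

namespace Cfsg.Agent.Lib.Helper86

open Cfsg
open scoped commutatorElement

variable {G : Type*} [Group G] {S : Set (Subgroup G)}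

/-- The hypotheses of the quasisimplicity criterion. -/
structure QHyp (S : Set (Subgroup G)) : Prop where
  hS : IsRootSubgroupSet S
  two : ∃ A ∈ S, ∃ B ∈ S, A ≠ B
  conn : IsConnectedFamily (FAdj S) S
  cent : ∀ A ∈ S, ∀ C ∈ S, A ≠ C → centralizingMembers S A ≠ centralizingMembers S C
  card : IsDegenerateRootSet S → ∀ A ∈ S, 3 < ENat.card A
  spec : ∀ A ∈ S, ∀ B ∈ rankOnePartners S A, IsSpecialRankOnePair A B

theorem comm_sup_le {N P : Subgroup G} [hN : N.Normal] (hP : IsMulCommutative P) :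
    ⁅N ⊔ P, N ⊔ P⁆ ≤ N := by
  rw [Subgroup.commutator_le]
  intro x hx y hy
  rw [← SetLike.mem_coe, Subgroup.normal_mul] at hx hy
  obtain ⟨n, hn, p, hp, rfl⟩ := Set.mem_mul.mp hx
  obtain ⟨n', hn', p', hp', rfl⟩ := Set.mem_mul.mp hy
  rw [← QuotientGroup.eq_one_iff (N := N)]
  have h1 : ((n * p : G) : G ⧸ N) = (p : G ⧸ N) := by
    rw [QuotientGroup.mk_mul, (QuotientGroup.eq_one_iff n).mpr hn, one_mul]
  have h2 : ((n' * p' : G) : G ⧸ N) = (p' : G ⧸ N) := by
    rw [QuotientGroup.mk_mul, (QuotientGroup.eq_one_iff n').mpr hn', one_mul]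
  have h3 : ((⁅n * p, n' * p'⁆ : G) : G ⧸ N) = ⁅((n * p : G) : G ⧸ N), ((n' * p' : G) : G ⧸ N)⁆ :=
    map_commutatorElement (QuotientGroup.mk' N) _ _
  rw [h3, h1, h2]
  have h4 : ⁅(p : G ⧸ N), (p' : G ⧸ N)⁆ = ((⁅p, p'⁆ : G) : G ⧸ N) :=
    (map_commutatorElement (QuotientGroup.mk' N) _ _).symm
  rw [h4]
  have h5 : ⁅p, p'⁆ = 1 := by
    rw [commutatorElement_eq_one_iff_commute]
    exact comm_of_isMulCommutative hP hp hp'
  rw [h5]; rfl

theorem rk1_derived_not_central {A B : Subgroup G} (h : IsRankOnePair A B) :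
    ¬ (⁅A ⊔ B, A ⊔ B⁆ ≤ Subgroup.centralizer ((A ⊔ B : Subgroup G) : Set G)) := by
  intro hle
  apply rk1_not_commute h
  intro a ha b hb
  have hz : a ∈ Subgroup.centralizer ((A ⊔ B : Subgroup G) : Set G) := by
    apply rk1_second_center h (Subgroup.mem_sup_left ha)
    intro y hy
    apply hle
    rw [← commutatorElement_def]
    exact Subgroup.commutator_mem_commutator (Subgroup.mem_sup_left ha) hy
  exact ((mem_centralizer_sup_iff.mp hz).2 b hb).symm

theorem isMulCommutative_sup {D A : Subgroup G} (hD : IsMulCommutative D) (hA : IsMulCommutative A)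
    (hc : ∀ d ∈ D, ∀ a ∈ A, d * a = a * d) : IsMulCommutative ↥(D ⊔ A : Subgroup G) := by
  have hle : D ⊔ A ≤ Subgroup.centralizer ((D ⊔ A : Subgroup G) : Set G) := by
    refine sup_le ?_ ?_
    · rw [le_centralizer_sup_iff]
      exact ⟨fun n hn d hd => comm_of_isMulCommutative hD hd hn, fun n hn a ha => (hc n hn a ha).symm⟩
    · rw [le_centralizer_sup_iff]
      exact ⟨fun n hn d hd => hc d hd n hn, fun n hn a ha => comm_of_isMulCommutative hA ha hn⟩
  refine ⟨⟨fun x y => Subtype.ext ?_⟩⟩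
  exact (Subgroup.mem_centralizer_iff.mp (hle x.2) y y.2).symm

namespace QHyp

variable (Q : QHyp S)
include Q

theorem partner {A : Subgroup G} (hA : A ∈ S) : ∃ B ∈ S, IsRankOnePair A B := by
  obtain ⟨A₀, hA₀, B₀, hB₀, hne⟩ := Q.two
  obtain ⟨A', hA', hAA'⟩ : ∃ A' ∈ S, A ≠ A' := by
    by_cases h : A = A₀
    · exact ⟨B₀, hB₀, h ▸ hne⟩
    · exact ⟨A₀, hA₀, h⟩
  have hr := Q.conn A hA A' hA'
  rcases Relation.ReflTransGen.cases_head hr with h | ⟨B, hAB, -⟩
  · exact absurd h hAA'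
  · exact ⟨B, hAB.2.1, hAB.2.2⟩

theorem conjClass : IsConjClassOfSubgroups S :=
  ((Cfsg.Agent.S5032.result Q.hS Q.two).mp Q.conn).1

theorem nondeg (hnd : ¬ IsDegenerateRootSet S) : IsNondegenerateRootSet S := by
  unfold IsDegenerateRootSet at hnd
  push Not at hnd
  obtain ⟨A, hA, B, hB, hc⟩ := hnd
  refine ⟨⟨A, hA, ⁅A, B⁆, hc.1, ?_, ?_⟩, ?_, ⟨A, hA, B, hB, hc⟩⟩
  · intro heq
    -- `A = [A, B]` is central in `⟨A, B⟩`, so `[A, B] = 1`
    apply Q.hS.ne_bot A hA
    have h1 : ⁅A, B⁆ = ⊥ := by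
      rw [commutator_eq_bot_iff_comm]
      intro a ha b hb
      have := hc.2.1 a (heq ▸ ha) b (Subgroup.mem_sup_right hb)
      exact this
    rw [heq, h1]
  · rw [commutator_eq_bot_iff_comm]
    intro a ha c hc'
    exact (hc.2.1 c hc' a (Subgroup.mem_sup_left ha)).symm
  · obtain ⟨B', hB', hr⟩ := Q.partner hA
    exact ⟨A, hA, B', hB', hr⟩

/-- If `G ≠ N A` for all `A`, then `A ∩ N = 1` for all `A`. -/
theorem claim1 (N : Subgroup G) [hN : N.Normal] (hNA : ∀ A ∈ S, N ⊔ A ≠ ⊤) :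
    ∀ A ∈ S, A ⊓ N = ⊥ := by
  intro A hA
  by_contra hne
  have key : ∀ D, Relation.ReflTransGen (FAdj S) A D → D ⊓ N ≠ ⊥ ∧ D ≤ N ⊔ A := by
    intro D hD
    induction hD with
    | refl => exact ⟨hne, le_sup_right⟩
    | @tail D E _ hDE ih =>
      obtain ⟨hDne, hDle⟩ := ih
      obtain ⟨hDS, hES, hr⟩ := hDE
      have hs := Q.spec D hDS E ⟨hES, hr⟩
      obtain ⟨d, hd, hd1⟩ : ∃ d ∈ D ⊓ N, d ≠ 1 := by
        by_contra h0
        push Not at h0
        exact hDne ((Subgroup.eq_bot_iff_forall _).mpr h0)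
      obtain ⟨e, he⟩ := ptn_exists_left hr hd.1 hd1
      have heN : e ∈ N := by
        have h2 := wEl_conj_a hs he
        have h3 := hN.conj_mem _ hd.2 (wEl d e)
        rw [h2] at h3
        simpa using N.inv_mem h3
      refine ⟨fun h0 => he.2.2.2.1 ((Subgroup.eq_bot_iff_forall _).mp h0 e ⟨he.2.2.1, heN⟩), ?_⟩
      have hNn : D ⊔ E ≤ Subgroup.normalizer ((N ⊓ (D ⊔ E) : Subgroup G) : Set G) := by
        intro k hk
        rw [Subgroup.mem_normalizer_iff]
        intro n
        rw [Subgroup.mem_inf, Subgroup.mem_inf]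
        constructor
        · rintro ⟨h2, h3⟩
          exact ⟨hN.conj_mem _ h2 k, Subgroup.mul_mem _ (Subgroup.mul_mem _ hk h3) (Subgroup.inv_mem _ hk)⟩
        · rintro ⟨h2, h3⟩
          constructor
          · have := hN.conj_mem _ h2 k⁻¹
            simpa [mul_assoc] using this
          · have := Subgroup.mul_mem _ (Subgroup.mul_mem _ (Subgroup.inv_mem _ hk) h3) hk
            simpa [mul_assoc] using this
      rcases rk1_normal_dichotomy hr hNn inf_le_right with h1 | h1
      · exact h1.trans (sup_le (inf_le_left.trans le_sup_left) hDle)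
      · exfalso
        have hdc := h1 ⟨hd.2, Subgroup.mem_sup_left hd.1⟩
        have hdn : d ∈ D ⊓ Subgroup.normalizer (E : Set G) := by
          refine ⟨hd.1, Subgroup.centralizer_le_normalizer _ ?_⟩
          rw [Subgroup.mem_centralizer_iff]
          intro y hy
          exact (mem_centralizer_sup_iff.mp hdc).2 y hy
        rw [rk1_inf_normalizer hr, Subgroup.mem_bot] at hdn
        exact hd1 hdn
  apply hNA A hA
  rw [eq_top_iff, ← Q.hS.generates]
  refine iSup₂_le fun D hD => ?_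
  exact (key D (Q.conn A hA D hD)).2

end QHyp

end Cfsg.Agent.Lib.Helper86
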