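import Mathlib
import Cfsg.Prelude.Def_RootSubgroups
import Cfsg.Agent.Lib.Helper86.RootQuasi1
import Cfsg.Agent.Lib.Helper86.LocalSpecial

/-!
The dichotomy for normal subgroups: `N ≤ Z(G)` or `G = N A` for all `A ∈ S`.
-/

set_option autoImplicit false

namespace Cfsg.Agent.Lib.Helper86

open Cfsg
open scoped commutatorElement

variable {G : Type*} [Group G] {S : Set (Subgroup G)}

theorem comm_mem_of_mul {N : Subgroup G} [hN : N.Normal] {n a l : G} (hn : n ∈ N)
    (hal : a * l = l * a) : ⁅n * a, l⁆ ∈ N := by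
  have e : ⁅n * a, l⁆ = n * (l * n⁻¹ * l⁻¹) := by
    rw [commutatorElement_def]
    calc n * a * l * (n * a)⁻¹ * l⁻¹ = n * (a * l) * a⁻¹ * n⁻¹ * l⁻¹ := by group
      _ = n * (l * a) * a⁻¹ * n⁻¹ * l⁻¹ := by rw [hal]
      _ = n * (l * n⁻¹ * l⁻¹) := by group
  rw [e]
  exact N.mul_mem hn (hN.conj_mem _ (N.inv_mem hn) l)

theorem normalizer_inf_sup (N X : Subgroup G) [hN : N.Normal] :
    X ≤ Subgroup.normalizer ((N ⊓ X : Subgroup G) : Set G) := by
  intro k hk
  rw [Subgroup.mem_normalizer_iff]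
  intro n
  rw [Subgroup.mem_inf, Subgroup.mem_inf]
  constructor
  · rintro ⟨h2, h3⟩
    exact ⟨hN.conj_mem _ h2 k, Subgroup.mul_mem _ (Subgroup.mul_mem _ hk h3) (Subgroup.inv_mem _ hk)⟩
  · rintro ⟨h2, h3⟩
    constructor
    · have := hN.conj_mem _ h2 k⁻¹
      simpa [mul_assoc] using this
    · have := Subgroup.mul_mem _ (Subgroup.mul_mem _ (Subgroup.inv_mem _ hk) h3) hk
      simpa [mul_assoc] using this

theorem diag_le_sup (A B : Subgroup G) : rankOneDiagonal A B ≤ A ⊔ B := by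
  unfold rankOneDiagonal
  exact inf_le_left.trans inf_le_left

namespace QHyp

variable (Q : QHyp S)
include Q

theorem claim3 (N : Subgroup G) [hN : N.Normal] (hNA : ∀ A ∈ S, N ⊔ A ≠ ⊤) {A C : Subgroup G}
    (hA : A ∈ S) (hC : C ∈ S) (hle : C ≤ N ⊔ A) : ⁅A, C⁆ = ⊥ := by
  have c1 := Q.claim1 N hNA
  have hAc := Q.hS.commutative A hA
  have hXle : A ⊔ C ≤ N ⊔ A := sup_le le_sup_right hle
  have hder : ⁅A ⊔ C, A ⊔ C⁆ ≤ N := (Subgroup.commutator_mono hXle hXle).trans (comm_sup_le hAc)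
  rcases Q.hS.pair A hA C hC with h | h | h
  · exact h
  · exfalso
    by_cases hdeg : IsDegenerateRootSet S
    · have hcard := Q.card hdeg A hA
      have hs := Q.spec A hA C ⟨hC, h⟩
      have h3 := comm_diag_card hs hAc (Q.hS.commutative C hC) hcard
      apply ne_bot_of_three_lt_card h3
      rw [eq_bot_iff, ← c1 A hA]
      refine le_inf (comm_diag_le A C) ?_
      exact (Subgroup.commutator_mono le_sup_left (diag_le_sup A C)).trans hder
    · have hnd := Q.nondeg hdeg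
      obtain ⟨⟨L, hL, hLC⟩, -⟩ := Cfsg.Agent.S5034.result ⟨Q.hS, Q.conjClass⟩ hnd hA ⟨hC, h⟩
      have hAL : ⁅A, L⁆ = ⊥ := hL.1.2.2
      rw [commutator_eq_bot_iff_comm] at hAL
      have hE := hLC.2
      have hEle : ⁅C, L⁆ ≤ N := by
        rw [Subgroup.commutator_le]
        intro c hc l hl
        have hc' := hle hc
        rw [← SetLike.mem_coe, Subgroup.normal_mul] at hc'
        obtain ⟨n, hn, a, ha, rfl⟩ := Set.mem_mul.mp hc'
        exact comm_mem_of_mul hn (hAL a ha l hl)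
      have h4 := c1 ⁅C, L⁆ hE
      rw [inf_of_le_left hEle] at h4
      exact Q.hS.ne_bot _ hE h4
  · exfalso
    have hE := h.1
    have hEle : ⁅A, C⁆ ≤ N := (Subgroup.commutator_mono le_sup_left le_sup_right).trans hder
    have h4 := c1 ⁅A, C⁆ hE
    rw [inf_of_le_left hEle] at h4
    exact Q.hS.ne_bot _ hE h4

theorem claim4 (N : Subgroup G) [hN : N.Normal] (hNA : ∀ A ∈ S, N ⊔ A ≠ ⊤) {A : Subgroup G}
    (hA : A ∈ S) {n : G} (hn : n ∈ N) :
    centralizingMembers S A ⊆ centralizingMembers S (conjBy A n) := by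
  have c1 := Q.claim1 N hNA
  obtain ⟨C, hCdef⟩ : ∃ C, C = conjBy A n := ⟨_, rfl⟩
  rw [← hCdef]
  have hC : C ∈ S := hCdef ▸ Q.hS.conj_mem A hA n
  have hCle : C ≤ N ⊔ A := by
    rw [hCdef]
    intro c hc
    rw [mem_conjBy] at hc
    have e : c = n * (n⁻¹ * c * n) * n⁻¹ := by group
    rw [e]
    exact Subgroup.mul_mem _ (Subgroup.mul_mem _ (Subgroup.mem_sup_left hn)
      (Subgroup.mem_sup_right hc)) (Subgroup.mem_sup_left (N.inv_mem hn))
  rintro D ⟨hD, hDA⟩
  refine ⟨hD, ?_⟩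
  have hAc := Q.hS.commutative A hA
  have hDc := Q.hS.commutative D hD
  have hcomm : ∀ d ∈ D, ∀ a ∈ A, d * a = a * d := fun d hd a ha =>
    (Subgroup.mem_centralizer_iff.mp (hDA hd) a ha).symm
  have hP : IsMulCommutative ↥(D ⊔ A : Subgroup G) := isMulCommutative_sup hDc hAc hcomm
  have hXle : D ⊔ C ≤ N ⊔ (D ⊔ A) :=
    sup_le (le_sup_left.trans le_sup_right) (hCle.trans (sup_le_sup_left le_sup_right N))
  have hder : ⁅D ⊔ C, D ⊔ C⁆ ≤ N := (Subgroup.commutator_mono hXle hXle).trans (comm_sup_le hP)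
  rcases Q.hS.pair D hD C hC with h | h | h
  · rw [Subgroup.commutator_eq_bot_iff_le_centralizer] at h
    exact h
  · exfalso
    rcases rk1_normal_dichotomy h (normalizer_inf_sup N (D ⊔ C)) inf_le_right with h1 | h1
    · have hCD : C ≤ N ⊔ D := h1.trans (sup_le (inf_le_left.trans le_sup_left) le_sup_right)
      exact rk1_not_comm h (Q.claim3 N hNA hD hC hCD)
    · apply rk1_derived_not_central h
      refine le_trans (le_inf hder ?_) h1
      exact Subgroup.commutator_le_self (D ⊔ C)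
  · exfalso
    have hE := h.1
    have hEle : ⁅D, C⁆ ≤ N := (Subgroup.commutator_mono le_sup_left le_sup_right).trans hder
    have h4 := c1 _ hE
    rw [inf_of_le_left hEle] at h4
    exact Q.hS.ne_bot _ hE h4

/-- Normal subgroups are central or supplement every member of `S`. -/
theorem dichotomy (N : Subgroup G) [hN : N.Normal] :
    N ≤ Subgroup.center G ∨ ∀ A ∈ S, N ⊔ A = ⊤ := by
  by_contra hcon
  push Not at hcon
  obtain ⟨hNc, A₀, hA₀, hA₀N⟩ := hcon
  have hNA : ∀ A ∈ S, N ⊔ A ≠ ⊤ := by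
    intro A hA h0
    obtain ⟨g, hg⟩ := Q.conjClass.2 A₀ hA₀ A hA
    apply hA₀N
    have h1 : conjBy (N ⊔ A₀) g = ⊤ := by rw [conjBy_sup, conjBy_normal, ← hg, h0]
    rw [conjBy_eq_iff] at h1
    rw [h1, conjBy_normal]
  have c1 := Q.claim1 N hNA
  obtain ⟨A, hA, hAN⟩ : ∃ A ∈ S, ¬ A ≤ Subgroup.centralizer (N : Set G) := by
    by_contra h0
    push Not at h0
    apply hNc
    have h1 : (⊤ : Subgroup G) ≤ Subgroup.centralizer (N : Set G) := by
      rw [← Q.hS.generates]; exact iSup₂_le h0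
    intro x hx
    rw [Subgroup.mem_center_iff]
    intro g
    exact Subgroup.mem_centralizer_iff.mp (h1 (Subgroup.mem_top g)) x hx |>.symm
  obtain ⟨n, hn, hnA⟩ : ∃ n ∈ N, conjBy A n ≠ A := by
    by_contra h0
    push Not at h0
    apply hAN
    have h1 : ⁅A, N⁆ ≤ A ⊓ N := by
      refine le_inf ?_ (Subgroup.commutator_le_right A N)
      rw [Subgroup.commutator_le]
      intro a ha m hm
      have h2 := conj_mem_conjBy (g := m) (A.inv_mem ha)
      rw [h0 m hm] at h2
      rw [commutatorElement_def]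
      have e : a * m * a⁻¹ * m⁻¹ = a * (m * a⁻¹ * m⁻¹) := by group
      rw [e]; exact A.mul_mem ha h2
    rw [c1 A hA, le_bot_iff, Subgroup.commutator_eq_bot_iff_le_centralizer] at h1
    exact h1
  have hC := Q.hS.conj_mem A hA n
  have i1 := Q.claim4 N hNA hA hn
  have hback : conjBy (conjBy A n) n⁻¹ = A := by rw [conjBy_conjBy, inv_mul_cancel, conjBy_one]
  have i2 := Q.claim4 N hNA hC (N.inv_mem hn)
  rw [hback] at i2
  exact Q.cent A hA _ hC hnA.symm (Set.Subset.antisymm i1 i2)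

end QHyp

end Cfsg.Agent.Lib.Helper86
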