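import Mathlib
import Cfsg.Prelude.Def_RootSubgroups
import Cfsg.Prelude.Def_CaseTheorems
import Cfsg.Agent.Lib.Helper86.RootQuasi2

/-!
Quasisimplicity of `G'` for a group generated by a connected set of abstract root subgroups
satisfying the hypotheses `QHyp`.
-/

set_option autoImplicit false

namespace Cfsg.Agent.Lib.Helper86

open Cfsg
open scoped commutatorElement

variable {G : Type*} [Group G] {S : Set (Subgroup G)}

theorem special_central_contra {A B K : Subgroup G} [hK : K.Normal]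
    (hs : IsSpecialRankOnePair A B) {a : G} (ha : a ∈ A ⊓ K) (ha1 : a ≠ 1)
    (h1 : ⁅K, K⁆ ≤ Subgroup.center G) : False := by
  obtain ⟨b, hb⟩ := ptn_exists_left hs.1 ha.1 ha1
  have hb' := ptn_inf hs hb ha.2
  obtain ⟨c, hc⟩ : ∃ c, c = ⁅a⁻¹, b⁻¹⁆ := ⟨_, rfl⟩
  have hcK : c ∈ ⁅K, K⁆ := by
    rw [hc]
    exact Subgroup.commutator_mem_commutator (Subgroup.inv_mem _ ha.2)
      (Subgroup.inv_mem _ hb'.2.2.1.2)
  have hcc : a * c = c * a := by
    have := h1 hcK
    rw [Subgroup.mem_center_iff] at this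
    exact this a
  have e1 : b⁻¹ * a * b = a * c := by rw [hc, commutatorElement_def]; group
  have e2 := ptn_special hs hb
  have e3 : b⁻¹ = a * (a * c) * a⁻¹ := by rw [← e1, e2]; group
  have e4 : a * (a * c) * a⁻¹ = a * c := by
    calc a * (a * c) * a⁻¹ = a * (c * a) * a⁻¹ := by rw [hcc]
      _ = a * c := by group
  rw [e4] at e3
  have e5 : b⁻¹ * a * b = a := by
    have : b = (a * c)⁻¹ := by rw [← e3, inv_inv]
    rw [e3, this, mul_assoc a c a, ← hcc]; group
  rw [e5] at e2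
  have e6 : b⁻¹ = a := by
    have := congrArg (fun y => a * y * a⁻¹) e2
    simp only [mul_inv_cancel_right] at this
    rw [this]; group
  have : a ∈ A ⊓ B := ⟨ha.1, by rw [← e6]; exact B.inv_mem hb.2.2.1⟩
  rw [rk1_inf_eq_bot hs.1, Subgroup.mem_bot] at this
  exact ha1 this

/-- The key step: a subgroup `N` normalized by `K` containing `a₁ c₁` meets `A`. -/
theorem pair_quasi_step {A C K N : Subgroup G} [hKn : K.Normal] (hKc : commutator G ≤ K)
    (hs : IsSpecialRankOnePair A C) (hA : IsMulCommutative A) (hC : IsMulCommutative C)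
    (hcard : 3 < ENat.card A) (hKN : K ≤ Subgroup.normalizer (N : Set G))
    {a₁ c₁ : G} (ha₁ : a₁ ∈ A ⊓ K) (hc₁ : c₁ ∈ C ⊓ K) (hc₁1 : c₁ ≠ 1) (hm : a₁ * c₁ ∈ N) :
    N ⊓ A ≠ ⊥ := by
  have hcard₁ : 3 < ENat.card ↥(A ⊓ K : Subgroup G) := by
    have h1 := comm_diag_card hs hA hC hcard
    have hle : ⁅A, rankOneDiagonal A C⁆ ≤ A ⊓ K := by
      refine le_inf (comm_diag_le A C) (le_trans ?_ hKc)
      rw [commutator_def]
      exact Subgroup.commutator_mono le_top le_top
    exact lt_of_lt_of_le h1 (ENat.card_le_card_of_injective (Subgroup.inclusion_injective hle))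
  have hne₁ : A ⊓ K ≠ ⊥ := ne_bot_of_three_lt_card hcard₁
  have hs₁ : IsSpecialRankOnePair (A ⊓ K) (C ⊓ K) := rk1_sub_pair hs hA hC hne₁
  have hA₁ : IsMulCommutative ↥(A ⊓ K : Subgroup G) := isMulCommutative_of_le hA inf_le_left
  have hC₁ : IsMulCommutative ↥(C ⊓ K : Subgroup G) := isMulCommutative_of_le hC inf_le_left
  have hX₁K : (A ⊓ K) ⊔ (C ⊓ K) ≤ K := sup_le inf_le_right inf_le_right
  obtain ⟨N'', hN''⟩ : ∃ N'', N'' = N ⊓ ((A ⊓ K) ⊔ (C ⊓ K)) := ⟨_, rfl⟩
  have hNn : (A ⊓ K) ⊔ (C ⊓ K) ≤ Subgroup.normalizer (N'' : Set G) := by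
    intro k hk
    rw [Subgroup.mem_normalizer_iff]
    intro n
    have h1 := Subgroup.mem_normalizer_iff.mp (hKN (hX₁K hk)) n
    rw [hN'', Subgroup.mem_inf, Subgroup.mem_inf, h1]
    constructor
    · rintro ⟨h2, h3⟩
      exact ⟨h2, Subgroup.mul_mem _ (Subgroup.mul_mem _ hk h3) (Subgroup.inv_mem _ hk)⟩
    · rintro ⟨h2, h3⟩
      refine ⟨h2, ?_⟩
      have := Subgroup.mul_mem _ (Subgroup.mul_mem _ (Subgroup.inv_mem _ hk) h3) hk
      simpa [mul_assoc] using this
  have hNle : N'' ≤ (A ⊓ K) ⊔ (C ⊓ K) := hN'' ▸ inf_le_right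
  rcases rk1_normal_dichotomy hs₁.1 hNn hNle with h1 | h1
  · have hA₁n : (A ⊓ K) ≤ Subgroup.normalizer (N'' : Set G) := le_sup_left.trans hNn
    have hle : ⁅A ⊓ K, rankOneDiagonal (A ⊓ K) (C ⊓ K)⁆ ≤ N'' := by
      rw [Subgroup.commutator_le]
      intro a ha d hd
      have hd1 : d ∈ N'' ⊔ (A ⊓ K) :=
        (sup_le le_sup_right h1) (mem_diag_iff.mp hd).1
      rw [← SetLike.mem_coe, Subgroup.coe_mul_of_right_le_normalizer_left _ _ hA₁n] at hd1
      obtain ⟨n, hn, a', ha', rfl⟩ := Set.mem_mul.mp hd1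
      have e : ⁅a, n * a'⁆ = (a * n * a⁻¹) * n⁻¹ := by
        rw [commutatorElement_def]
        have hc : a' * a⁻¹ = a⁻¹ * a' :=
          comm_of_isMulCommutative hA₁ ha' (Subgroup.inv_mem _ ha)
        calc a * (n * a') * a⁻¹ * (n * a')⁻¹ = a * n * (a' * a⁻¹) * a'⁻¹ * n⁻¹ := by group
          _ = a * n * (a⁻¹ * a') * a'⁻¹ * n⁻¹ := by rw [hc]
          _ = (a * n * a⁻¹) * n⁻¹ := by group
      rw [e]
      exact N''.mul_mem ((Subgroup.mem_normalizer_iff.mp (hA₁n ha) n).mp hn) (N''.inv_mem hn)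
    have hc := comm_diag_card hs₁ hA₁ hC₁ hcard₁
    have hne := ne_bot_of_three_lt_card hc
    intro h0
    apply hne
    rw [eq_bot_iff, ← h0]
    intro w hw
    exact ⟨(hN'' ▸ hle hw : w ∈ N ⊓ ((A ⊓ K) ⊔ (C ⊓ K))).1, (comm_diag_le _ _ hw).1⟩
  · exfalso
    have hmem : a₁ * c₁ ∈ N'' := by
      rw [hN'']
      exact ⟨hm, Subgroup.mul_mem _ (Subgroup.mem_sup_left ha₁) (Subgroup.mem_sup_right hc₁)⟩
    have hcen := (mem_centralizer_sup_iff.mp (h1 hmem)).1
    have hbc : c₁ ∈ Subgroup.centralizer ((A ⊓ K : Subgroup G) : Set G) := by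
      rw [Subgroup.mem_centralizer_iff]
      intro a ha
      have h2 := hcen a ha
      have hc : a * a₁ = a₁ * a := comm_of_isMulCommutative hA₁ ha ha₁
      have h3 : a₁ * (a * c₁) = a₁ * (c₁ * a) := by
        calc a₁ * (a * c₁) = (a₁ * a) * c₁ := by group
          _ = (a * a₁) * c₁ := by rw [hc]
          _ = a * (a₁ * c₁) := by group
          _ = a₁ * c₁ * a := h2
          _ = a₁ * (c₁ * a) := by group
      exact mul_left_cancel h3
    have hb₂N : c₁ ∈ (C ⊓ K) ⊓ Subgroup.normalizer ((A ⊓ K : Subgroup G) : Set G) :=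
      ⟨hc₁, Subgroup.centralizer_le_normalizer _ hbc⟩
    rw [rk1_inf_normalizer' hs₁.1, Subgroup.mem_bot] at hb₂N
    exact hc₁1 hb₂N

namespace QHyp

variable (Q : QHyp S)
include Q

theorem comm_sup {A : Subgroup G} (hA : A ∈ S) : commutator G ⊔ A = ⊤ := by
  rcases Q.dichotomy (commutator G) with h | h
  · exfalso
    obtain ⟨B, hB, hr⟩ := Q.partner hA
    apply rk1_derived_not_central hr
    intro x hx
    have h1 : x ∈ commutator G := by
      rw [commutator_def]; exact Subgroup.commutator_mono le_top le_top hx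
    have h2 := h h1
    rw [Subgroup.mem_centralizer_iff]
    intro y _
    exact Subgroup.mem_center_iff.mp h2 y
  · exact h A hA

theorem center_inf {A : Subgroup G} (hA : A ∈ S) : A ⊓ Subgroup.center G = ⊥ := by
  obtain ⟨B, hB, hr⟩ := Q.partner hA
  rw [eq_bot_iff, ← rk1_inf_normalizer hr]
  refine inf_le_inf_left A ?_
  intro z hz
  apply Subgroup.centralizer_le_normalizer
  exact Subgroup.center_le_centralizer _ hz

theorem perfect_of_le {A : Subgroup G} (hA : A ∈ S) (hle : A ≤ commutator G) :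
    commutator G = ⊤ := by
  rw [eq_top_iff, ← Q.hS.generates]
  refine iSup₂_le fun D hD => ?_
  obtain ⟨g, hg⟩ := Q.conjClass.2 A hA D hD
  rw [hg, ← conjBy_normal (K := commutator G) g]
  exact conjBy_mono hle g

theorem perfect_of_nondeg (hnd : IsNondegenerateRootSet S) : commutator G = ⊤ := by
  obtain ⟨-, -, A, hA, B, hB, hc⟩ := hnd
  apply Q.perfect_of_le hc.1
  rw [commutator_def]; exact Subgroup.commutator_mono le_top le_top

theorem inf_comm_ne_bot {A : Subgroup G} (hA : A ∈ S) : A ⊓ commutator G ≠ ⊥ := by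
  by_cases hdeg : IsDegenerateRootSet S
  · obtain ⟨B, hB, hr⟩ := Q.partner hA
    have hs := Q.spec A hA B ⟨hB, hr⟩
    have h3 := comm_diag_card hs (Q.hS.commutative A hA) (Q.hS.commutative B hB)
      (Q.card hdeg A hA)
    have hne := ne_bot_of_three_lt_card h3
    intro h0
    apply hne
    rw [eq_bot_iff, ← h0]
    refine le_inf (comm_diag_le A B) ?_
    rw [commutator_def]; exact Subgroup.commutator_mono le_top le_top
  · rw [Q.perfect_of_nondeg (Q.nondeg hdeg), inf_top_eq]; exact Q.hS.ne_bot A hA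

theorem exists_inf_comm {A : Subgroup G} (hA : A ∈ S) : ∃ a ∈ A ⊓ commutator G, a ≠ 1 := by
  by_contra h0
  push Not at h0
  exact Q.inf_comm_ne_bot hA ((Subgroup.eq_bot_iff_forall _).mpr h0)

theorem comm_perfect : ⁅commutator G, commutator G⁆ = commutator G := by
  apply le_antisymm (Subgroup.commutator_le_right _ _)
  obtain ⟨A, hA, -⟩ := Q.two
  rcases Q.dichotomy ⁅commutator G, commutator G⁆ with h1 | h1
  · exfalso
    obtain ⟨B, hB, hr⟩ := Q.partner hA
    have hs := Q.spec A hA B ⟨hB, hr⟩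
    obtain ⟨a, ha, ha1⟩ := Q.exists_inf_comm hA
    exact special_central_contra hs ha ha1 h1
  · exact Subgroup.Normal.commutator_le_of_self_sup_commutative_eq_top (h1 A hA)
      (Q.hS.commutative A hA)

theorem star {A : Subgroup G} (hA : A ∈ S) {N : Subgroup G}
    (hNK : N ≤ commutator G) (hKN : commutator G ≤ Subgroup.normalizer (N : Set G))
    (hne : N ⊓ A ≠ ⊥) : N = commutator G := by
  apply le_antisymm hNK
  have hAc := Q.hS.commutative A hA
  obtain ⟨M, hM⟩ : ∃ M, M = Subgroup.normalClosure ((N ⊓ A : Subgroup G) : Set G) := ⟨_, rfl⟩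
  have hMn : M.Normal := hM ▸ Subgroup.normalClosure_normal
  have hMN : M ≤ N := by
    rw [hM, Subgroup.normalClosure, Subgroup.closure_le]
    intro y hy
    obtain ⟨x, hx, hxy⟩ := Group.mem_conjugatesOfSet_iff.mp hy
    obtain ⟨g, rfl⟩ := isConj_iff.mp hxy
    have hg : g ∈ commutator G ⊔ A := by rw [Q.comm_sup hA]; exact Subgroup.mem_top _
    rw [← SetLike.mem_coe, Subgroup.normal_mul] at hg
    obtain ⟨k, hk, a, ha, rfl⟩ := Set.mem_mul.mp hg
    have e : k * a * x * (k * a)⁻¹ = k * (a * x * a⁻¹) * k⁻¹ := by group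
    have e2 : a * x * a⁻¹ = x := by
      rw [comm_of_isMulCommutative hAc ha hx.2, mul_inv_cancel_right]
    rw [SetLike.mem_coe, e, e2]
    exact (Subgroup.mem_normalizer_iff.mp (hKN hk) x).mp hx.1
  have hMc : ¬ M ≤ Subgroup.center G := by
    intro h0
    obtain ⟨x, hx, hx1⟩ : ∃ x ∈ N ⊓ A, x ≠ 1 := by
      by_contra h1
      push Not at h1
      exact hne ((Subgroup.eq_bot_iff_forall _).mpr h1)
    have hxM : x ∈ M := by rw [hM]; exact Subgroup.subset_normalClosure hx
    have : x ∈ A ⊓ Subgroup.center G := ⟨hx.2, h0 hxM⟩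
    rw [Q.center_inf hA, Subgroup.mem_bot] at this
    exact hx1 this
  rcases Q.dichotomy M with h1 | h1
  · exact absurd h1 hMc
  · exact (Subgroup.Normal.commutator_le_of_self_sup_commutative_eq_top (h1 A hA) hAc).trans hMN

theorem exists_moved {g : G} (hg : g ∉ Subgroup.center G) : ∃ A ∈ S, conjBy A g ≠ A := by
  by_contra hcon
  push Not at hcon
  apply hg
  obtain ⟨M, hM⟩ : ∃ M, M = Subgroup.normalClosure ({g} : Set G) := ⟨_, rfl⟩
  have hMn : M.Normal := hM ▸ Subgroup.normalClosure_normal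
  have hMA : ∀ A ∈ S, M ≤ Subgroup.normalizer (A : Set G) := by
    intro A hA
    rw [hM, Subgroup.normalClosure, Subgroup.closure_le]
    intro y hy
    obtain ⟨x, hx, hxy⟩ := Group.mem_conjugatesOfSet_iff.mp hy
    rw [Set.mem_singleton_iff] at hx
    subst hx
    obtain ⟨c, rfl⟩ := isConj_iff.mp hxy
    rw [SetLike.mem_coe, mem_normalizer_iff_conjBy]
    have e : c * x * c⁻¹ = c * (x * c⁻¹) := by group
    rw [e, ← conjBy_conjBy, ← conjBy_conjBy, hcon _ (Q.hS.conj_mem A hA c⁻¹), conjBy_conjBy,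
      mul_inv_cancel, conjBy_one]
  rcases Q.dichotomy M with h1 | h1
  · apply h1
    rw [hM]
    exact Subgroup.subset_normalClosure (Set.mem_singleton g)
  · exfalso
    obtain ⟨A, hA, -⟩ := Q.two
    obtain ⟨B, hB, hr⟩ := Q.partner hA
    have hle : M ⊔ A ≤ Subgroup.normalizer (A : Set G) := sup_le (hMA A hA) Subgroup.le_normalizer
    rw [h1 A hA] at hle
    have hB' : B ≤ B ⊓ Subgroup.normalizer (A : Set G) := le_inf le_rfl (le_top.trans hle)
    rw [rk1_inf_normalizer' hr] at hB'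
    exact rk1_right_ne_bot hr (le_bot_iff.mp hB')

end QHyp

end Cfsg.Agent.Lib.Helper86
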