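import Mathlib
import Cfsg.Prelude.Def_RootSubgroups
import Cfsg.Prelude.Def_CaseTheorems
import Cfsg.Agent.Lib.Helper86.RootQuasi3

/-!
Quasisimplicity of `G'` (continued): the main step and the final statement.
-/

set_option autoImplicit false

namespace Cfsg.Agent.Lib.Helper86

open Cfsg
open scoped commutatorElement

variable {G : Type*} [Group G] {S : Set (Subgroup G)}

/-- From the "main step" to quasisimplicity. -/
theorem quasisimple_of_main {K : Subgroup G} (hperf : ⁅K, K⁆ = K) (hnt : K ≠ ⊥)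
    (main : ∀ N : Subgroup G, N ≤ K → K ≤ Subgroup.normalizer (N : Set G) →
      ∀ g ∈ N, g ∉ Subgroup.center G → N = K) : IsQuasisimple ↥K := by
  have hperf' : Group.IsPerfect ↥K := (Subgroup.isPerfect_iff (H := K)).mpr hperf
  refine ⟨hperf', ?_⟩
  have hcne : Subgroup.center ↥K ≠ ⊤ := by
    intro h3
    have hcomm : IsMulCommutative ↥K := by
      refine ⟨⟨fun x y => ?_⟩⟩
      have hy : y ∈ Subgroup.center ↥K := by rw [h3]; exact Subgroup.mem_top y
      exact (Subgroup.mem_center_iff.mp hy x)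
    have hsub : Subsingleton ↥K := Group.IsPerfect.subsingleton_of_isMulCommutative
    apply hnt
    rw [eq_bot_iff]
    intro x hx
    have : (⟨x, hx⟩ : ↥K) = 1 := Subsingleton.elim _ _
    rw [Subgroup.mem_bot]
    exact congrArg Subtype.val this
  have : Nontrivial (↥K ⧸ Subgroup.center ↥K) := by
    rw [QuotientGroup.nontrivial_iff]
    exact hcne
  refine ⟨?_⟩
  intro M hM
  have hN'n : (M.comap (QuotientGroup.mk' (Subgroup.center ↥K))).Normal := hM.comap _
  obtain ⟨N', hN'⟩ : ∃ N', N' = M.comap (QuotientGroup.mk' (Subgroup.center ↥K)) := ⟨_, rfl⟩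
  rw [← hN'] at hN'n
  by_cases hN'c : N' ≤ Subgroup.center ↥K
  · left
    rw [eq_bot_iff]
    intro q hq
    obtain ⟨x, rfl⟩ := QuotientGroup.mk'_surjective (Subgroup.center ↥K) q
    have hx : x ∈ Subgroup.center ↥K := hN'c (by rw [hN']; exact hq)
    rw [Subgroup.mem_bot]
    exact (QuotientGroup.eq_one_iff x).mpr hx
  · right
    obtain ⟨g', hg', hg'c⟩ := SetLike.not_le_iff_exists.mp hN'c
    obtain ⟨N, hN⟩ : ∃ N, N = N'.map K.subtype := ⟨_, rfl⟩
    have hNK : N ≤ K := by rw [hN]; exact Subgroup.map_subtype_le N'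
    have hconj : ∀ k ∈ K, ∀ n ∈ N, k * n * k⁻¹ ∈ N := by
      intro k hk n hn
      rw [hN] at hn ⊢
      obtain ⟨n', hn', rfl⟩ := Subgroup.mem_map.mp hn
      refine Subgroup.mem_map.mpr ⟨⟨k, hk⟩ * n' * ⟨k, hk⟩⁻¹, hN'n.conj_mem _ hn' _, ?_⟩
      simp
    have hKN : K ≤ Subgroup.normalizer (N : Set G) := by
      intro k hk
      rw [Subgroup.mem_normalizer_iff]
      intro n
      constructor
      · exact hconj k hk n
      · intro h1
        have := hconj k⁻¹ (K.inv_mem hk) _ h1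
        simpa [mul_assoc] using this
    have hgN : (g' : G) ∈ N := by
      rw [hN]; exact Subgroup.mem_map.mpr ⟨g', hg', rfl⟩
    have hgc : (g' : G) ∉ Subgroup.center G := by
      intro h0
      apply hg'c
      rw [Subgroup.mem_center_iff]
      intro y
      apply Subtype.ext
      have := Subgroup.mem_center_iff.mp h0 (y : G)
      simpa using this
    have hmain : N = K := main N hNK hKN _ hgN hgc
    rw [eq_top_iff]
    intro q _
    obtain ⟨x, rfl⟩ := QuotientGroup.mk'_surjective (Subgroup.center ↥K) q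
    have hx : (x : G) ∈ N := by rw [hmain]; exact x.2
    rw [hN] at hx
    obtain ⟨x', hx', hxx⟩ := Subgroup.mem_map.mp hx
    have : x' = x := Subtype.ext hxx
    rw [this, hN'] at hx'
    exact hx'

namespace QHyp

variable (Q : QHyp S)
include Q

/-- The commuting case of the main step. -/
theorem comm_step (hdeg : IsDegenerateRootSet S) {N : Subgroup G} (hNK : N ≤ commutator G)
    (hKN : commutator G ≤ Subgroup.normalizer (N : Set G)) {D P : Subgroup G} (hD : D ∈ S)
    (hP : P ∈ S) (hDP : ¬ D ≤ Subgroup.centralizer (P : Set G)) {x w : G}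
    (hx : x ∈ P ⊓ commutator G) (hx1 : x ≠ 1) (hwD : ∀ d ∈ D, d * w = w * d)
    (hm : x * w ∈ N) : N = commutator G := by
  have hKn : (commutator G).Normal := inferInstance
  have h : IsRankOnePair D P := by
    rcases Q.hS.pair D hD P hP with h | h | h
    · rw [Subgroup.commutator_eq_bot_iff_le_centralizer] at h
      exact absurd h hDP
    · exact h
    · exact absurd h (hdeg D hD P hP)
  obtain ⟨d₁, hd₁, hd₁1⟩ := Q.exists_inf_comm hD
  have hy : d₁ * (x * d₁⁻¹ * x⁻¹) ∈ N := by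
    have h1 := (Subgroup.mem_normalizer_iff.mp (hKN hd₁.2) (x * w)).mp hm
    have h2 := N.mul_mem h1 (N.inv_mem hm)
    have hw : w * d₁⁻¹ = d₁⁻¹ * w := (hwD d₁⁻¹ (D.inv_mem hd₁.1)).symm
    have e : d₁ * (x * w) * d₁⁻¹ * (x * w)⁻¹ = d₁ * (x * d₁⁻¹ * x⁻¹) := by
      calc d₁ * (x * w) * d₁⁻¹ * (x * w)⁻¹ = d₁ * x * (w * d₁⁻¹) * w⁻¹ * x⁻¹ := by group
        _ = d₁ * x * (d₁⁻¹ * w) * w⁻¹ * x⁻¹ := by rw [hw]
        _ = d₁ * (x * d₁⁻¹ * x⁻¹) := by group
    rwa [e] at h2
  have hD'ne : conjBy D x ≠ D := rk1_not_normalize (RankOnePair_symm h) hx.1 hx1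
  have hD'S : conjBy D x ∈ S := Q.hS.conj_mem D hD x
  have hr' : IsRankOnePair D (conjBy D x) := by
    have hu1 : D ∈ unipotentSubgroups D P := rk1_A_mem_unipotent D P
    have hu2 : conjBy D x ∈ unipotentSubgroups D P := ⟨x, Subgroup.mem_sup_right hx.1, rfl⟩
    obtain ⟨y, -, hy1, hy2⟩ := rk1_two_transitive_aux h hu1 hu2 hD'ne.symm
    have := rk1_conj h y
    rwa [hy1, hy2] at this
  have hs' := Q.spec D hD _ ⟨hD'S, hr'⟩
  have hc₁ : x * d₁⁻¹ * x⁻¹ ∈ conjBy D x ⊓ commutator G :=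
    ⟨conj_mem_conjBy (D.inv_mem hd₁.1), hKn.conj_mem _ (Subgroup.inv_mem _ hd₁.2) x⟩
  have hc₁1 : x * d₁⁻¹ * x⁻¹ ≠ 1 := by
    intro h0
    rw [conj_eq_one_iff, inv_eq_one] at h0
    exact hd₁1 h0
  have h3 := pair_quasi_step (K := commutator G) le_rfl hs' (Q.hS.commutative D hD)
    (Q.hS.commutative _ hD'S) (Q.card hdeg D hD) hKN hd₁ hc₁ hc₁1 hy
  exact Q.star hD hNK hKN h3

/-- The main step. -/
theorem quasi_main {N : Subgroup G} (hNK : N ≤ commutator G)
    (hKN : commutator G ≤ Subgroup.normalizer (N : Set G)) {g : G} (hg : g ∈ N)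
    (hgc : g ∉ Subgroup.center G) : N = commutator G := by
  have hKn : (commutator G).Normal := inferInstance
  by_cases hdeg : IsDegenerateRootSet S
  swap
  · have hK := Q.perfect_of_nondeg (Q.nondeg hdeg)
    have hNn : N.Normal := by
      rw [← Subgroup.normalizer_eq_top_iff]
      rw [hK] at hKN
      exact top_le_iff.mp hKN
    obtain ⟨A, hA, -⟩ := Q.two
    rcases Q.dichotomy N with h1 | h1
    · exact absurd (h1 hg) hgc
    · exact le_antisymm hNK (Subgroup.Normal.commutator_le_of_self_sup_commutative_eq_top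
        (h1 A hA) (Q.hS.commutative A hA))
  · obtain ⟨A, hA, hmoved⟩ := Q.exists_moved hgc
    obtain ⟨a₁, ha₁, ha₁1⟩ := Q.exists_inf_comm hA
    have hC : conjBy A g ∈ S := Q.hS.conj_mem A hA g
    have hAc := Q.hS.commutative A hA
    have hCc := Q.hS.commutative _ hC
    have hc₁ : g * a₁⁻¹ * g⁻¹ ∈ conjBy A g ⊓ commutator G :=
      ⟨conj_mem_conjBy (A.inv_mem ha₁.1), hKn.conj_mem _ (Subgroup.inv_mem _ ha₁.2) g⟩
    have hc₁1 : g * a₁⁻¹ * g⁻¹ ≠ 1 := by
      intro h0
      rw [conj_eq_one_iff, inv_eq_one] at h0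
      exact ha₁1 h0
    have hm : a₁ * (g * a₁⁻¹ * g⁻¹) ∈ N := by
      have h1 := (Subgroup.mem_normalizer_iff.mp (hKN ha₁.2) g).mp hg
      have h2 := N.mul_mem h1 (N.inv_mem hg)
      have e : a₁ * g * a₁⁻¹ * g⁻¹ = a₁ * (g * a₁⁻¹ * g⁻¹) := by group
      rwa [e] at h2
    rcases Q.hS.pair A hA _ hC with h | h | h
    · -- the commuting case
      rw [commutator_eq_bot_iff_comm] at h
      have hcomm : a₁ * (g * a₁⁻¹ * g⁻¹) = (g * a₁⁻¹ * g⁻¹) * a₁ := h a₁ ha₁.1 _ hc₁.1
      have hneq := Q.cent A hA _ hC hmoved.symm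
      have hsub : ¬ (centralizingMembers S A ⊆ centralizingMembers S (conjBy A g)) ∨
          ¬ (centralizingMembers S (conjBy A g) ⊆ centralizingMembers S A) := by
        by_contra h0
        push Not at h0
        exact hneq (Set.Subset.antisymm h0.1 h0.2)
      rcases hsub with h1 | h1
      · obtain ⟨D, hD1, hD2⟩ := Set.not_subset.mp h1
        have hDC : ¬ D ≤ Subgroup.centralizer ((conjBy A g : Subgroup G) : Set G) :=
          fun h0 => hD2 ⟨hD1.1, h0⟩
        have hwD : ∀ d ∈ D, d * a₁ = a₁ * d := fun d hd =>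
          (Subgroup.mem_centralizer_iff.mp (hD1.2 hd) a₁ ha₁.1).symm
        rw [hcomm] at hm
        exact Q.comm_step hdeg hNK hKN hD1.1 hC hDC hc₁ hc₁1 hwD hm
      · obtain ⟨D, hD1, hD2⟩ := Set.not_subset.mp h1
        have hDA : ¬ D ≤ Subgroup.centralizer (A : Set G) := fun h0 => hD2 ⟨hD1.1, h0⟩
        have hwD : ∀ d ∈ D, d * (g * a₁⁻¹ * g⁻¹) = (g * a₁⁻¹ * g⁻¹) * d := fun d hd =>
          (Subgroup.mem_centralizer_iff.mp (hD1.2 hd) _ hc₁.1).symm
        exact Q.comm_step hdeg hNK hKN hD1.1 hA hDA ha₁ ha₁1 hwD hm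
    · have hs := Q.spec A hA _ ⟨hC, h⟩
      have h3 := pair_quasi_step (K := commutator G) le_rfl hs hAc hCc (Q.card hdeg A hA) hKN
        ha₁ hc₁ hc₁1 hm
      exact Q.star hA hNK hKN h3
    · exact absurd h (hdeg A hA _ hC)

theorem comm_quasisimple : IsQuasisimple ↥(commutator G) := by
  obtain ⟨A, hA, -⟩ := Q.two
  refine quasisimple_of_main Q.comm_perfect ?_ ?_
  · intro h0
    apply Q.inf_comm_ne_bot hA
    rw [h0, inf_bot_eq]
  · intro N hNK hKN g hg hgc
    exact Q.quasi_main hNK hKN hg hgc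

end QHyp

end Cfsg.Agent.Lib.Helper86
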