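import Mathlib
import Cfsg.Agent.Lib.Helper89.GL2Essential

set_option autoImplicit false

/-!
# K-S5289-G (architect helper89): `p`-subgroups of `Aut(C_p × C_p)` have order dividing `p`
-/

namespace Cfsg.Agent.Lib.Helper86.S5289

open Cfsg.Agent.Lib.Helper89

/-- K-S5289-G. -/
theorem card_pSubgroup_mulAut_sq_dvd {E : Type*} [Group E] [Finite E] {p : ℕ} [Fact p.Prime]
    (hcomm : ∀ a b : E, a * b = b * a) (hexp : ∀ a : E, a ^ p = 1) (hcard : Nat.card E = p ^ 2)
    (H : Subgroup (MulAut E)) (hH : IsPGroup p H) : Nat.card H ∣ p := by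
  obtain ⟨e⟩ := exists_mulAut_equiv_GL (p := p) (r := 2) hcomm hexp hcard
  have hHe : IsPGroup p (H.map e.toMonoidHom) := hH.map _
  obtain ⟨Q, hQ⟩ := hHe.exists_le_sylow
  have h1 : Nat.card (H.map e.toMonoidHom) = Nat.card H :=
    Subgroup.card_map_of_injective e.injective
  rw [← h1]
  have h2 := Subgroup.card_dvd_of_le hQ
  have h3 : Nat.card (Q : Subgroup (GL (Fin 2) (ZMod p))) = p := card_sylow_GL2 p Q
  exact h2.trans (dvd_of_eq h3)

end Cfsg.Agent.Lib.Helper86.S5289
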