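import Mathlib
import Cfsg.Prelude.Def_GeometricClasses
import Cfsg.Agent.Lib.Helper73.SU6Defs
import Cfsg.Agent.Lib.Helper36.F4

/-!
K-SU6-F3 (keystone 580203, architect helper73): over the field with four elements the involution `t = 1 + J`
(`J` the all-ones `6 × 6` matrix) lies in `SU_6(2)`, preserves the set of root vectors and is not monomial.
The root set is checked on the computable field `Helper36.F4` by `decide`.
-/

set_option autoImplicit false

namespace Cfsg.Agent.Lib.Helper86.SU6K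

open Cfsg Cfsg.Geo Cfsg.Agent.Lib.Helper73.SU6 Cfsg.Agent.Lib.Helper36
open scoped Matrix MatrixGroups

/-- the map `x ↦ x + (∑ x) • 1` -/
def tmap {R : Type*} [AddCommMonoid R] (x : Fin 6 → R) : Fin 6 → R := fun i => x i + ∑ j, x j

/-- decidable version of `IsRoot` over `F4` -/
def IsRootD (x : Fin 6 → F4) : Prop :=
  (Finset.univ.filter fun i => x i ≠ 0).card = 2 ∨ ((∀ i, x i ≠ 0) ∧ ∏ i, x i = 1)

instance : DecidablePred IsRootD := fun x => by unfold IsRootD; infer_instance

set_option maxRecDepth 100000 in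
/-- the 4096-case check (about 40 s) -/
theorem root_F4 : ∀ x0 x1 x2 x3 x4 x5 : F4,
    IsRootD ![x0, x1, x2, x3, x4, x5] → IsRootD (tmap ![x0, x1, x2, x3, x4, x5]) := by decide

theorem root_F4' (y : Fin 6 → F4) (h : IsRootD y) : IsRootD (tmap y) := by
  have hy : y = ![y 0, y 1, y 2, y 3, y 4, y 5] := by
    funext i; fin_cases i <;> rfl
  rw [hy] at h ⊢
  exact root_F4 _ _ _ _ _ _ h

variable {F : Type*} [Field F]

theorem isRoot_iff_isRootD (e : F ≃+* F4) (x : Fin 6 → F) : IsRoot x ↔ IsRootD (fun i => e (x i)) := by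
  classical
  unfold IsRoot IsRootD
  have h1 : Set.ncard {i : Fin 6 | x i ≠ 0} = (Finset.univ.filter fun i => e (x i) ≠ 0).card := by
    rw [← Set.ncard_coe_finset]
    congr 1
    ext i
    simp
  have h2 : (∀ i, x i ≠ 0) ↔ ∀ i, e (x i) ≠ 0 := by
    simp
  have h3 : ∏ i, x i = 1 ↔ ∏ i, e (x i) = 1 := by
    rw [← map_prod, map_eq_one_iff e e.injective]
  rw [h1, h2, h3]

theorem map_tmap (e : F ≃+* F4) (x : Fin 6 → F) :
    (fun i => e (tmap x i)) = tmap (fun i => e (x i)) := by
  funext i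
  simp [tmap, map_add, map_sum]

theorem isRoot_tmap [Fintype F] (hF : Fintype.card F = 4) (x : Fin 6 → F) (h : IsRoot x) :
    IsRoot (tmap x) := by
  let e : F ≃+* F4 := FiniteField.ringEquivOfCardEq (hF.trans F4.card_eq.symm)
  rw [isRoot_iff_isRootD e] at h ⊢
  rw [map_tmap]
  exact root_F4' _ h


section mat

variable [Fintype F]

theorem two_eq_zero_of_card (hF : Fintype.card F = 4) : (2 : F) = 0 := by
  have e2 := FiniteField.pow_card (2 : F)
  have e3 := FiniteField.pow_card (3 : F)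
  rw [hF] at e2 e3
  linear_combination (-11 : F) * e2 + 2 * e3

/-- the matrix `1 + J`, `J` the all-ones matrix -/
def tMat (F : Type*) [Field F] : Matrix (Fin 6) (Fin 6) F := 1 + Matrix.of fun _ _ => 1

omit [Fintype F] in
theorem tMat_mulVec (x : Fin 6 → F) : tMat F *ᵥ x = tmap x := by
  unfold tMat
  rw [Matrix.add_mulVec, Matrix.one_mulVec]
  funext i
  simp [Matrix.mulVec, dotProduct, tmap]

theorem tMat_mul_self (hF : Fintype.card F = 4) : tMat F * tMat F = 1 := by
  have h2 := two_eq_zero_of_card hF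
  have hJ : (Matrix.of fun _ _ => (1 : F) : Matrix (Fin 6) (Fin 6) F) * (Matrix.of fun _ _ => (1 : F)) = 0 := by
    ext i k
    simp [Matrix.mul_apply]
    linear_combination (3 : F) * h2
  unfold tMat
  rw [mul_add, add_mul, add_mul, hJ, one_mul, mul_one, one_mul, add_zero, add_assoc,
    ← two_smul F (Matrix.of fun _ _ => (1 : F) : Matrix (Fin 6) (Fin 6) F), h2, zero_smul, add_zero]

/-- `t` as an element of `GL` -/
def tGL (hF : Fintype.card F = 4) : GL (Fin 6) F :=
  ⟨tMat F, tMat F, tMat_mul_self hF, tMat_mul_self hF⟩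

theorem tGL_val (hF : Fintype.card F = 4) : ((tGL hF : GL (Fin 6) F) : Matrix (Fin 6) (Fin 6) F) = tMat F := rfl

theorem tMat_det (hF : Fintype.card F = 4) : (tMat F).det = 1 := by
  have h2 := two_eq_zero_of_card hF
  have h := congrArg Matrix.det (tMat_mul_self hF)
  rw [Matrix.det_mul, Matrix.det_one] at h
  have h3 : ((tMat F).det - 1) * ((tMat F).det - 1) = 0 := by
    linear_combination h + (1 - (tMat F).det) * h2
  rcases mul_self_eq_zero.mp h3 with h4
  exact sub_eq_zero.mp h4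

theorem herm_tmap (hF : Fintype.card F = 4) (x y : Fin 6 → F) :
    hermForm 6 F 2 (tmap x) (tmap y) = hermForm 6 F 2 x y := by
  have h2 := two_eq_zero_of_card hF
  have : CharP F 2 := CharTwo.of_one_ne_zero_of_two_eq_zero one_ne_zero h2
  have hsq : ∑ i, y i ^ 2 = (∑ i, y i) ^ 2 := (sum_pow_char 2 Finset.univ y).symm
  unfold hermForm tmap
  have h1 : ∀ i, (x i + ∑ j, x j) * (y i + ∑ j, y j) ^ 2
      = x i * y i ^ 2 + x i * (∑ j, y j) ^ 2 + (∑ j, x j) * y i ^ 2 + (∑ j, x j) * (∑ j, y j) ^ 2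
        + (x i + ∑ j, x j) * (y i) * (∑ j, y j) * 2 := by
    intro i; ring
  simp only [h1, h2, mul_zero, add_zero]
  rw [Finset.sum_add_distrib, Finset.sum_add_distrib, Finset.sum_add_distrib, ← Finset.sum_mul,
    ← Finset.mul_sum, hsq, Finset.sum_const, Finset.card_univ, Fintype.card_fin, nsmul_eq_mul]
  push_cast
  linear_combination (4 * (∑ j, x j) * (∑ j, y j) ^ 2) * h2

theorem tmap_tmap (hF : Fintype.card F = 4) (x : Fin 6 → F) : tmap (tmap x) = x := by
  rw [← tMat_mulVec, ← tMat_mulVec, Matrix.mulVec_mulVec, tMat_mul_self hF, Matrix.one_mulVec]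

/-- K-SU6-F3 -/
theorem exists_extra (hF : Fintype.card F = 4) :
    ∃ t : GL (Fin 6) F, t ∈ GU 6 F 2 ⊓ specialLinear (Fin 6) F ∧ t ∈ rootStab F ∧
      t ∉ decompositionStabilizer (stdFrame F 6) := by
  have h2 := two_eq_zero_of_card hF
  refine ⟨tGL hF, ⟨?_, ?_⟩, ?_, ?_⟩
  · -- unitary
    intro x y
    change hermForm 6 F 2 (tMat F *ᵥ x) (tMat F *ᵥ y) = hermForm 6 F 2 x y
    rw [tMat_mulVec, tMat_mulVec, herm_tmap hF]
  · -- det 1
    refine MonoidHom.mem_ker.mpr (Units.ext ?_)
    rw [Matrix.GeneralLinearGroup.val_det_apply]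
    exact tMat_det hF
  · -- roots
    rw [mem_rootStab_iff]
    intro x
    rw [tGL_val, tMat_mulVec]
    refine ⟨fun h => ?_, isRoot_tmap hF x⟩
    have := isRoot_tmap hF _ h
    rwa [tmap_tmap hF] at this
  · -- not monomial
    rintro ⟨σ, hσ⟩
    have h0 : tmap (Pi.single (0 : Fin 6) (1 : F)) ∈ stdFrame F 6 (σ 0) := by
      rw [← hσ 0, ← tMat_mulVec]
      exact Submodule.mem_map_of_mem (f := Matrix.toLin' (tMat F))
        (Submodule.subset_span (Set.mem_singleton _))
    obtain ⟨c, hc⟩ := Submodule.mem_span_singleton.mp h0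
    have hs : ∑ j, (Pi.single (0 : Fin 6) (1 : F)) j = 1 := by
      rw [Finset.sum_pi_single']; simp
    obtain ⟨j, hj0, hjσ⟩ : ∃ j : Fin 6, j ≠ 0 ∧ j ≠ σ 0 := by
      by_cases h1 : σ 0 = 1
      · exact ⟨2, by decide, by rw [h1]; decide⟩
      · exact ⟨1, by decide, fun h => h1 h.symm⟩
    have := congrFun hc j
    rw [Pi.smul_apply, Pi.single_eq_of_ne hjσ, smul_zero] at this
    simp only [tmap] at this
    rw [hs, Pi.single_eq_of_ne hj0, zero_add] at this
    exact zero_ne_one this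

end mat

end Cfsg.Agent.Lib.Helper86.SU6K
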