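import Mathlib
import Cfsg.Prelude.Def_RootSubgroups
import Cfsg.Agent.Lib.Helper86.LocalSpecial
import Cfsg.Agent.Lib.Helper86.Lines3

/-!
Siegel elements.  If `E, F` commute and both are rank one partners of `A`, and `a ∈ A#` has
partners `e ∈ E`, `f ∈ F`, then the conjugate of `A` by `e f⁻¹` commutes with `A`.  In the situation
`F = g⁻¹ E g` with `g` centralizing `A` this is used to show that `A` is generated by
conjugates of `A` commuting with `A` (as soon as `E` has three elements all of whose partial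
products are non trivial).
-/

set_option autoImplicit false

namespace Cfsg.Agent.Lib.Helper86

open Cfsg

variable {G : Type*} [Group G]

theorem ptn_conj {A B : Subgroup G} {a b : G} (h : Ptn A B a b) (x : G) :
    Ptn (conjBy A x) (conjBy B x) (x * a * x⁻¹) (x * b * x⁻¹) := by
  obtain ⟨ha, ha1, hb, hb1, he⟩ := h
  refine ⟨conj_mem_conjBy ha, ?_, conj_mem_conjBy hb, ?_, ?_⟩
  · intro h0; rw [conj_eq_one_iff] at h0; exact ha1 h0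
  · intro h0; rw [conj_eq_one_iff] at h0; exact hb1 h0
  · have e1 : (x * b * x⁻¹)⁻¹ * x = x * b⁻¹ := by group
    have e2 : (x * a * x⁻¹)⁻¹ * x = x * a⁻¹ := by group
    rw [conjBy_conjBy, conjBy_conjBy, e1, e2, ← conjBy_conjBy, he, conjBy_conjBy]

theorem siegel_aux {A E F : Subgroup G} {a e f : G} (h1 : Ptn A E a e) (h2 : Ptn A F a f) :
    conjBy A (e * f⁻¹)⁻¹ = conjBy E (f * a⁻¹) ∧ A = conjBy F (f * a⁻¹) := by
  constructor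
  · have e1 : (e * f⁻¹)⁻¹ = f * e⁻¹ := by group
    rw [e1, ← conjBy_conjBy, h1.2.2.2.2, conjBy_conjBy]
  · rw [← conjBy_conjBy, ← h2.2.2.2.2, conjBy_conjBy, mul_inv_cancel, conjBy_one]

theorem siegel_comm {A E F : Subgroup G} {a e f : G} (h1 : Ptn A E a e) (h2 : Ptn A F a f)
    (hEF : ⁅E, F⁆ = ⊥) : ⁅conjBy A (e * f⁻¹)⁻¹, A⁆ = ⊥ := by
  obtain ⟨e1, e2⟩ := siegel_aux h1 h2
  rw [e1]
  conv_lhs => rw [e2]
  rw [conjBy_commutator, hEF, conjBy_bot]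

theorem siegel_ne {A E F : Subgroup G} {a e f : G} (h1 : Ptn A E a e) (h2 : Ptn A F a f)
    (hne : E ≠ F) : conjBy A (e * f⁻¹)⁻¹ ≠ A := by
  obtain ⟨e1, e2⟩ := siegel_aux h1 h2
  intro h
  rw [e1] at h
  apply hne
  have : conjBy E (f * a⁻¹) = conjBy F (f * a⁻¹) := h.trans e2
  exact conjBy_inj.mp this

/-- The key identity: pure group theory. -/
theorem spade {a e g : G} (hga : g * a = a * g) (hef : e * cj g e = cj g e * e)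
    (hsp : e⁻¹ * a * e = a⁻¹ * e⁻¹ * a) :
    cj (a * (cj (e * (cj g e)⁻¹) a)⁻¹) e = cj g e := by
  obtain ⟨f, hf⟩ : ∃ f, f = cj g e := ⟨_, rfl⟩
  rw [← hf] at hef ⊢
  obtain ⟨a', ha'⟩ : ∃ a', a' = cj (e * f⁻¹) a := ⟨_, rfl⟩
  rw [← ha']
  have hga' : g⁻¹ * a * g = a := by
    calc g⁻¹ * a * g = g⁻¹ * (a * g) := by group
      _ = g⁻¹ * (g * a) := by rw [hga]
      _ = a := by group
  -- step 1
  have s1 : f⁻¹ * a * f = a⁻¹ * f⁻¹ * a := by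
    calc f⁻¹ * a * f = g⁻¹ * (e⁻¹ * (g * a * g⁻¹) * e) * g := by rw [hf]; unfold cj; group
      _ = g⁻¹ * (e⁻¹ * a * e) * g := by
          have : g * a * g⁻¹ = a := by rw [hga]; group
          rw [this]
      _ = g⁻¹ * (a⁻¹ * e⁻¹ * a) * g := by rw [hsp]
      _ = (g⁻¹ * a * g)⁻¹ * (g⁻¹ * e * g)⁻¹ * (g⁻¹ * a * g) := by group
      _ = a⁻¹ * f⁻¹ * a := by rw [hga', hf]; rfl
  -- step 2
  have s2 : f⁻¹ * a' * f = e⁻¹ * a * e := by rw [ha']; unfold cj; group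
  -- γ commutes with f
  have hγf : (e * f⁻¹)⁻¹ * f * (e * f⁻¹) = f := by
    calc (e * f⁻¹)⁻¹ * f * (e * f⁻¹) = f * e⁻¹ * (f * e) * f⁻¹ := by group
      _ = f * e⁻¹ * (e * f) * f⁻¹ := by rw [hef]
      _ = f := by group
  -- step 3
  have s3 : f⁻¹ * a' * f = a'⁻¹ * f⁻¹ * a' := by
    calc f⁻¹ * a' * f
        = ((e * f⁻¹)⁻¹ * f * (e * f⁻¹))⁻¹ * a' * ((e * f⁻¹)⁻¹ * f * (e * f⁻¹)) := by rw [hγf]
      _ = (e * f⁻¹)⁻¹ * (f⁻¹ * a * f) * (e * f⁻¹) := by rw [ha']; unfold cj; group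
      _ = (e * f⁻¹)⁻¹ * (a⁻¹ * f⁻¹ * a) * (e * f⁻¹) := by rw [s1]
      _ = a'⁻¹ * ((e * f⁻¹)⁻¹ * f * (e * f⁻¹))⁻¹ * a' := by rw [ha']; unfold cj; group
      _ = a'⁻¹ * f⁻¹ * a' := by rw [hγf]
  have s4 : a'⁻¹ * f⁻¹ * a' = a⁻¹ * e⁻¹ * a := by rw [← s3, s2, hsp]
  have s5 : f = a' * a⁻¹ * e * a * a'⁻¹ := by
    calc f = (a' * (a'⁻¹ * f⁻¹ * a') * a'⁻¹)⁻¹ := by group
      _ = (a' * (a⁻¹ * e⁻¹ * a) * a'⁻¹)⁻¹ := by rw [s4]
      _ = a' * a⁻¹ * e * a * a'⁻¹ := by group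
  rw [s5]; unfold cj; group


theorem closure_comm' {k : Set G} (h : ∀ x ∈ k, ∀ y ∈ k, x * y = y * x) {z z' : G}
    (hz : z ∈ Subgroup.closure k) (hz' : z' ∈ Subgroup.closure k) : z * z' = z' * z := by
  have step1 : Subgroup.closure k ≤ Subgroup.centralizer k := by
    rw [Subgroup.closure_le]
    intro x hx
    rw [SetLike.mem_coe, Subgroup.mem_centralizer_iff]
    intro y hy
    exact h y hy x hx
  have step2 : Subgroup.closure k ≤ Subgroup.centralizer (Subgroup.closure k : Set G) := by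
    rw [Subgroup.closure_le]
    intro x hx
    rw [SetLike.mem_coe, Subgroup.mem_centralizer_iff]
    intro y hy
    exact (Subgroup.mem_centralizer_iff.mp (step1 hy) x hx).symm
  exact (Subgroup.mem_centralizer_iff.mp (step2 hz') z hz)

/-- Main theorem on Siegel elements. -/
theorem siegel_main {A E : Subgroup G} (hs : IsSpecialRankOnePair A E)
    (hA : IsMulCommutative A) (hE : IsMulCommutative E) {g : G}
    (hgA : ∀ a ∈ A, g * a = a * g)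
    (hEF : ⁅E, conjBy E g⁻¹⁆ = ⊥) (hne : E ≠ conjBy E g⁻¹)
    {e₂ e₃ e₄ : G} (h2 : e₂ ∈ E) (h3 : e₃ ∈ E) (h4 : e₄ ∈ E)
    (n2 : e₂ ≠ 1) (n3 : e₃ ≠ 1) (n4 : e₄ ≠ 1) (n23 : e₂ * e₃ ≠ 1) (n24 : e₂ * e₄ ≠ 1)
    (n34 : e₃ * e₄ ≠ 1) (n234 : e₂ * (e₃ * e₄) ≠ 1)
    (K : Subgroup G)
    (hK : ∀ x : G, ⁅conjBy A x⁻¹, A⁆ = ⊥ → conjBy A x⁻¹ ≠ A → conjBy A x⁻¹ ≤ K) : A ≤ K := by
  intro a₁ ha₁
  have hEFc : ∀ x ∈ E, ∀ y ∈ conjBy E g⁻¹, x * y = y * x := commutator_eq_bot_iff_comm.mp hEF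
  have hFmem : ∀ x ∈ E, cj g x ∈ conjBy E g⁻¹ := by
    intro x hx
    have := conj_mem_conjBy (g := g⁻¹) hx
    simpa [cj] using this
  have hgA' : ∀ a ∈ A, cj g a = a := fun a ha => cj_eq_self_iff.mpr (hgA a ha).symm
  have hAg : conjBy A g⁻¹ = A := by
    apply conjBy_eq_of_commute
    intro x hx
    have := hgA x hx
    calc x * g⁻¹ = g⁻¹ * (g * x) * g⁻¹ := by group
      _ = g⁻¹ * (x * g) * g⁻¹ := by rw [this]
      _ = g⁻¹ * x := by group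
  -- the map κ
  obtain ⟨κ, hκ⟩ : ∃ κ : G → G, ∀ x, κ x = x * (cj g x)⁻¹ := ⟨fun x => x * (cj g x)⁻¹, fun _ => rfl⟩
  have cFF : ∀ x ∈ E, ∀ y ∈ E, cj g x * cj g y = cj g y * cj g x := by
    intro x hx y hy
    rw [← cj_mul, ← cj_mul, comm_of_isMulCommutative hE hx hy]
  have κ_mul : ∀ x ∈ E, ∀ y ∈ E, κ (x * y) = κ x * κ y := by
    intro x hx y hy
    rw [hκ, hκ, hκ, cj_mul, mul_inv_rev]
    have c1 : (cj g x)⁻¹ * y = y * (cj g x)⁻¹ :=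
      (hEFc y hy _ (Subgroup.inv_mem _ (hFmem x hx))).symm
    have c2 : (cj g y)⁻¹ * (cj g x)⁻¹ = (cj g x)⁻¹ * (cj g y)⁻¹ := by
      rw [← mul_inv_rev, ← mul_inv_rev, cFF x hx y hy]
    calc x * y * ((cj g y)⁻¹ * (cj g x)⁻¹) = x * y * ((cj g x)⁻¹ * (cj g y)⁻¹) := by rw [c2]
      _ = x * (y * (cj g x)⁻¹) * (cj g y)⁻¹ := by group
      _ = x * ((cj g x)⁻¹ * y) * (cj g y)⁻¹ := by rw [c1]
      _ = x * (cj g x)⁻¹ * (y * (cj g y)⁻¹) := by group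
  have κE : ∀ x ∈ E, ∀ y ∈ E, cj (κ x) y = y := by
    intro x hx y hy
    rw [cj_eq_self_iff, hκ]
    have c1 : y * (cj g x)⁻¹ = (cj g x)⁻¹ * y := hEFc y hy _ (Subgroup.inv_mem _ (hFmem x hx))
    calc y * (x * (cj g x)⁻¹) = (y * x) * (cj g x)⁻¹ := by group
      _ = (x * y) * (cj g x)⁻¹ := by rw [comm_of_isMulCommutative hE hy hx]
      _ = x * (y * (cj g x)⁻¹) := by group
      _ = x * ((cj g x)⁻¹ * y) := by rw [c1]
      _ = x * (cj g x)⁻¹ * y := by group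
  -- Step B
  have stepB : ∀ e' ∈ E, e' ≠ 1 → ∃ a', Ptn A E a' e' ∧ Ptn A (conjBy E g⁻¹) a' (cj g e') ∧
      ⁅conjBy A (κ e')⁻¹, A⁆ = ⊥ ∧ conjBy A (κ e')⁻¹ ≠ A := by
    intro e' he' he'1
    obtain ⟨a', hp⟩ := ptn_exists_right hs.1 he' he'1
    have hp' : Ptn A (conjBy E g⁻¹) a' (cj g e') := by
      have := ptn_conj hp g⁻¹
      rw [hAg] at this
      have e1 : g⁻¹ * a' * g⁻¹⁻¹ = a' := by
        have := hgA' a' hp.1
        simpa [cj] using this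
      have e2 : g⁻¹ * e' * g⁻¹⁻¹ = cj g e' := by simp [cj]
      rwa [e1, e2] at this
    rw [hκ]
    exact ⟨a', hp, hp', siegel_comm hp hp' hEF, siegel_ne hp hp' hne⟩
  have inK : ∀ e' ∈ E, e' ≠ 1 → ∀ y ∈ A, cj (κ e') y ∈ K := by
    intro e' he' he'1 y hy
    obtain ⟨a', -, -, hc, hn⟩ := stepB e' he' he'1
    apply hK (κ e') hc hn
    have := conj_mem_conjBy (g := (κ e')⁻¹) hy
    simpa [cj] using this
  -- Step D
  obtain ⟨a₂, hp2, hp2', hc2, hn2⟩ := stepB e₂ h2 n2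
  have hAA₂ : ∀ x ∈ A, ∀ y ∈ A, cj (κ e₂) x * y = y * cj (κ e₂) x := by
    intro x hx y hy
    have h := commutator_eq_bot_iff_comm.mp hc2
    apply h _ _ y hy
    have := conj_mem_conjBy (g := (κ e₂)⁻¹) hx
    simpa [cj] using this
  obtain ⟨κ', hκ'⟩ : ∃ κ' : G → G, ∀ y, κ' y = y * (cj (κ e₂) y)⁻¹ :=
    ⟨fun y => y * (cj (κ e₂) y)⁻¹, fun _ => rfl⟩
  have cAA : ∀ x ∈ A, ∀ y ∈ A, cj (κ e₂) x * cj (κ e₂) y = cj (κ e₂) y * cj (κ e₂) x := by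
    intro x hx y hy
    rw [← cj_mul, ← cj_mul, comm_of_isMulCommutative hA hx hy]
  have κ'_mul : ∀ x ∈ A, ∀ y ∈ A, κ' (x * y) = κ' x * κ' y := by
    intro x hx y hy
    rw [hκ', hκ', hκ', cj_mul, mul_inv_rev]
    have c1 : (cj (κ e₂) x)⁻¹ * y = y * (cj (κ e₂) x)⁻¹ := by
      have := hAA₂ x hx y hy
      calc (cj (κ e₂) x)⁻¹ * y = (cj (κ e₂) x)⁻¹ * (y * cj (κ e₂) x) * (cj (κ e₂) x)⁻¹ := by group
        _ = (cj (κ e₂) x)⁻¹ * (cj (κ e₂) x * y) * (cj (κ e₂) x)⁻¹ := by rw [this]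
        _ = y * (cj (κ e₂) x)⁻¹ := by group
    have c2 : (cj (κ e₂) y)⁻¹ * (cj (κ e₂) x)⁻¹ = (cj (κ e₂) x)⁻¹ * (cj (κ e₂) y)⁻¹ := by
      rw [← mul_inv_rev, ← mul_inv_rev, cAA x hx y hy]
    calc x * y * ((cj (κ e₂) y)⁻¹ * (cj (κ e₂) x)⁻¹)
        = x * y * ((cj (κ e₂) x)⁻¹ * (cj (κ e₂) y)⁻¹) := by rw [c2]
      _ = x * (y * (cj (κ e₂) x)⁻¹) * (cj (κ e₂) y)⁻¹ := by group
      _ = x * ((cj (κ e₂) x)⁻¹ * y) * (cj (κ e₂) y)⁻¹ := by rw [c1]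
      _ = x * (cj (κ e₂) x)⁻¹ * (y * (cj (κ e₂) y)⁻¹) := by group
  have κ'_one : κ' 1 = 1 := by rw [hκ']; unfold cj; group
  have κ'A : ∀ x ∈ A, ∀ y ∈ A, cj (κ' x) y = y := by
    intro x hx y hy
    rw [cj_eq_self_iff, hκ']
    have c1 : y * (cj (κ e₂) x)⁻¹ = (cj (κ e₂) x)⁻¹ * y := by
      have := hAA₂ x hx y hy
      calc y * (cj (κ e₂) x)⁻¹ = (cj (κ e₂) x)⁻¹ * (cj (κ e₂) x * y) * (cj (κ e₂) x)⁻¹ := by group
        _ = (cj (κ e₂) x)⁻¹ * (y * cj (κ e₂) x) * (cj (κ e₂) x)⁻¹ := by rw [this]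
        _ = (cj (κ e₂) x)⁻¹ * y := by group
    calc y * (x * (cj (κ e₂) x)⁻¹) = (y * x) * (cj (κ e₂) x)⁻¹ := by group
      _ = (x * y) * (cj (κ e₂) x)⁻¹ := by rw [comm_of_isMulCommutative hA hy hx]
      _ = x * (y * (cj (κ e₂) x)⁻¹) := by group
      _ = x * ((cj (κ e₂) x)⁻¹ * y) := by rw [c1]
      _ = x * (cj (κ e₂) x)⁻¹ * y := by group
  have hγ₂E : conjBy E (κ e₂)⁻¹ = E := by
    apply conjBy_eq_of_commute
    intro x hx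
    have := cj_eq_self_iff.mp (κE e₂ h2 x hx)
    calc x * (κ e₂)⁻¹ = (κ e₂)⁻¹ * (κ e₂ * x) * (κ e₂)⁻¹ := by group
      _ = (κ e₂)⁻¹ * (x * κ e₂) * (κ e₂)⁻¹ := by rw [this]
      _ = (κ e₂)⁻¹ * x := by group
  have D2 : ∀ y ∈ A, ∀ x ∈ E, ∀ x' ∈ E, cj (κ' y) x * x' = x' * cj (κ' y) x := by
    intro y hy
    by_cases hy1 : y = 1
    · subst hy1
      rw [κ'_one]
      intro x hx x' hx'
      rw [cj_one]
      exact comm_of_isMulCommutative hE hx hx'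
    · obtain ⟨e₁, hp⟩ := ptn_exists_left hs.1 hy hy1
      have hp₂ : Ptn (conjBy A (κ e₂)⁻¹) E (cj (κ e₂) y) e₁ := by
        have := ptn_conj hp (κ e₂)⁻¹
        rw [hγ₂E] at this
        have e1 : (κ e₂)⁻¹ * y * (κ e₂)⁻¹⁻¹ = cj (κ e₂) y := by simp [cj]
        have e2 : (κ e₂)⁻¹ * e₁ * (κ e₂)⁻¹⁻¹ = e₁ := by
          have := κE e₂ h2 e₁ hp.2.2.1
          simpa [cj] using this
        rwa [e1, e2] at this
      have hcomm : ⁅A, conjBy A (κ e₂)⁻¹⁆ = ⊥ := by rw [Subgroup.commutator_comm]; exact hc2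
      have h5 := siegel_comm (ptn_swap hp) (ptn_swap hp₂) hcomm
      have h := commutator_eq_bot_iff_comm.mp h5
      intro x hx x' hx'
      apply h _ _ x' hx'
      have := conj_mem_conjBy (g := (κ' y)⁻¹) hx
      rw [hκ'] at this ⊢
      simpa [cj] using this
  have D4 : ∀ y ∈ A, ∀ y' ∈ A, ∀ x ∈ E, ∀ x' ∈ E,
      cj (κ' y) x * cj (κ' y') x' = cj (κ' y') x' * cj (κ' y) x := by
    intro y hy y' hy' x hx x' hx'
    have hyy : y * y'⁻¹ ∈ A := A.mul_mem hy (A.inv_mem hy')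
    have h1 := D2 _ hyy x hx x' hx'
    have e : κ' (y * y'⁻¹) * κ' y' = κ' y := by
      rw [← κ'_mul _ hyy _ hy']
      congr 1
      group
    have h2 := congrArg (cj (κ' y')) h1
    rw [cj_mul, cj_mul, cj_comp, e] at h2
    exact h2
  -- D5
  have hsp : e₂⁻¹ * a₂ * e₂ = a₂⁻¹ * e₂⁻¹ * a₂ := ptn_special hs hp2
  have hspade : cj (κ' a₂) e₂ = cj g e₂ := by
    have := spade (hgA a₂ hp2.1) (hEFc e₂ h2 _ (hFmem e₂ h2)) hsp
    rw [hκ', hκ]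
    exact this
  have hFeq : conjBy E g⁻¹ = conjBy E (κ' a₂)⁻¹ := by
    have hp3 : Ptn A (conjBy E (κ' a₂)⁻¹) a₂ (cj (κ' a₂) e₂) := by
      have := ptn_conj hp2 (κ' a₂)⁻¹
      have hA' : conjBy A (κ' a₂)⁻¹ = A := by
        apply conjBy_eq_of_commute
        intro x hx
        have := cj_eq_self_iff.mp (κ'A a₂ hp2.1 x hx)
        calc x * (κ' a₂)⁻¹ = (κ' a₂)⁻¹ * (κ' a₂ * x) * (κ' a₂)⁻¹ := by group
          _ = (κ' a₂)⁻¹ * (x * κ' a₂) * (κ' a₂)⁻¹ := by rw [this]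
          _ = (κ' a₂)⁻¹ * x := by group
      rw [hA'] at this
      have e1 : (κ' a₂)⁻¹ * a₂ * (κ' a₂)⁻¹⁻¹ = a₂ := by
        have := κ'A a₂ hp2.1 a₂ hp2.1
        simpa [cj] using this
      have e2 : (κ' a₂)⁻¹ * e₂ * (κ' a₂)⁻¹⁻¹ = cj (κ' a₂) e₂ := by simp [cj]
      rwa [e1, e2] at this
    rw [hspade] at hp3
    have h1 := hp2'.2.2.2.2
    have h2 := hp3.2.2.2.2
    exact conjBy_inj.mp (h1.symm.trans h2)
  -- the abelian group M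
  obtain ⟨M, hM⟩ : ∃ M : Subgroup G,
      M = Subgroup.closure {z | ∃ y ∈ A, ∃ x ∈ E, z = cj (κ' y) x} := ⟨_, rfl⟩
  have hMcomm : ∀ z ∈ M, ∀ z' ∈ M, z * z' = z' * z := by
    intro z hz z' hz'
    rw [hM] at hz hz'
    refine closure_comm' ?_ hz hz'
    rintro _ ⟨y, hy, x, hx, rfl⟩ _ ⟨y', hy', x', hx', rfl⟩
    exact D4 y hy y' hy' x hx x' hx'
  have hgenM : ∀ y ∈ A, ∀ x ∈ E, cj (κ' y) x ∈ M := by
    intro y hy x hx
    rw [hM]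
    exact Subgroup.subset_closure ⟨y, hy, x, hx, rfl⟩
  have hEM : ∀ x ∈ E, x ∈ M := by
    intro x hx
    have := hgenM 1 A.one_mem x hx
    rwa [κ'_one, cj_one] at this
  have hFM : ∀ x ∈ E, cj g x ∈ M := by
    intro x hx
    have h1 := hFmem x hx
    rw [hFeq, mem_conjBy] at h1
    have := hgenM a₂ hp2.1 _ h1
    have e : cj (κ' a₂) ((κ' a₂)⁻¹⁻¹ * cj g x * (κ' a₂)⁻¹) = cj g x := by
      generalize cj g x = w
      unfold cj; group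
    rwa [e] at this
  have hκM : ∀ x ∈ E, κ x ∈ M := by
    intro x hx
    rw [hκ]
    exact M.mul_mem (hEM x hx) (M.inv_mem (hFM x hx))
  have hMinv : ∀ y ∈ A, ∀ z ∈ M, cj (κ' y) z ∈ M := by
    intro y hy z hz
    rw [hM] at hz
    induction hz using Subgroup.closure_induction with
    | mem w hw =>
      obtain ⟨y', hy', x, hx, rfl⟩ := hw
      rw [cj_comp, ← κ'_mul y' hy' y hy]
      exact hgenM _ (A.mul_mem hy' hy) x hx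
    | one => unfold cj; simp
    | mul w w' _ _ h1 h2 => rw [cj_mul]; exact M.mul_mem h1 h2
    | inv w _ h1 => rw [cj_inv]; exact M.inv_mem h1
  -- the elements
  have ht' : κ' a₁⁻¹ = a₁⁻¹ * cj (κ e₂) a₁ := by rw [hκ', cj_inv, inv_inv]
  obtain ⟨d, hd⟩ : ∃ d, d = (κ' a₁⁻¹)⁻¹ * cj (κ e₃) (κ' a₁⁻¹) := ⟨_, rfl⟩
  have hd' : d = cj (κ' a₁⁻¹) (κ e₃)⁻¹ * κ e₃ := by rw [hd]; unfold cj; group
  have hdM : d ∈ M := by
    rw [hd']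
    exact M.mul_mem (hMinv _ (A.inv_mem ha₁) _ (M.inv_mem (hκM e₃ h3))) (hκM e₃ h3)
  have key : cj (κ e₄) d = d := by
    rw [cj_eq_self_iff]
    exact hMcomm d hdM _ (hκM e₄ h4)
  -- expansion
  have x1 : cj (κ e₃) (κ' a₁⁻¹) = (cj (κ e₃) a₁)⁻¹ * cj (κ (e₂ * e₃)) a₁ := by
    rw [ht', cj_mul, cj_inv, cj_comp, κ_mul e₂ h2 e₃ h3]
  have x2 : d = (cj (κ e₂) a₁)⁻¹ * a₁ * ((cj (κ e₃) a₁)⁻¹ * cj (κ (e₂ * e₃)) a₁) := by
    rw [hd, x1, ht']; group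
  have x3 : cj (κ e₄) d = (cj (κ (e₂ * e₄)) a₁)⁻¹ * cj (κ e₄) a₁ *
      ((cj (κ (e₃ * e₄)) a₁)⁻¹ * cj (κ (e₂ * (e₃ * e₄))) a₁) := by
    rw [x2, cj_mul, cj_mul, cj_mul, cj_inv, cj_inv, cj_comp, cj_comp, cj_comp,
      κ_mul e₂ h2 e₄ h4, κ_mul e₃ h3 e₄ h4, κ_mul e₂ h2 (e₃ * e₄) (E.mul_mem h3 h4),
      κ_mul e₃ h3 e₄ h4, κ_mul e₂ h2 e₃ h3, mul_assoc (κ e₂)]
  have x4 : a₁ = cj (κ e₂) a₁ * d * ((cj (κ e₃) a₁)⁻¹ * cj (κ (e₂ * e₃)) a₁)⁻¹ := by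
    rw [x2]; group
  rw [x4, ← key, x3]
  have k2 := inK e₂ h2 n2 a₁ ha₁
  have k3 := inK e₃ h3 n3 a₁ ha₁
  have k4 := inK e₄ h4 n4 a₁ ha₁
  have k23 := inK _ (E.mul_mem h2 h3) n23 a₁ ha₁
  have k24 := inK _ (E.mul_mem h2 h4) n24 a₁ ha₁
  have k34 := inK _ (E.mul_mem h3 h4) n34 a₁ ha₁
  have k234 := inK _ (E.mul_mem h2 (E.mul_mem h3 h4)) n234 a₁ ha₁
  exact K.mul_mem (K.mul_mem k2 (K.mul_mem (K.mul_mem (K.inv_mem k24) k4)
    (K.mul_mem (K.inv_mem k34) k234))) (K.inv_mem (K.mul_mem (K.inv_mem k3) k23))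

end Cfsg.Agent.Lib.Helper86
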