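import Mathlib
import Cfsg.Prelude.Def_RootSubgroups
import Cfsg.Agent.Lib.Helper86.Siegel

/-!
Supporting lemmas for the degenerate case of "rank one pairs are special":
existence of Siegel elements, free triples, transfer of speciality along homomorphisms with
central kernel, common rank one partners of commuting members.
-/

set_option autoImplicit false

namespace Cfsg.Agent.Lib.Helper86

open Cfsg

variable {G : Type*} [Group G]

/-- Existence of a Siegel element: `A, C` commute, both rank one with `B`. -/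
theorem siegel_exists {A B C : Subgroup G} (hAB : IsRankOnePair A B) (hCB : IsRankOnePair C B)
    (hAc : IsMulCommutative A) (hAC : ⁅A, C⁆ = ⊥) (hne : A ≠ C) :
    ∃ g : G, (∀ a ∈ A, g * a = a * g) ∧ ⁅conjBy B g⁻¹, B⁆ = ⊥ ∧ conjBy B g⁻¹ ≠ B := by
  obtain ⟨b₀, hb₀, hb₀1⟩ := rk1_exists_ne_one (RankOnePair_symm hAB)
  obtain ⟨a₀, ha₀, -, hea⟩ := hAB.cond_right b₀ hb₀ hb₀1
  obtain ⟨c₀, hc₀, -, hec⟩ := hCB.cond_right b₀ hb₀ hb₀1
  have hACc := commutator_eq_bot_iff_comm.mp hAC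
  have hgA : ∀ a ∈ A, (a₀ * c₀⁻¹) * a = a * (a₀ * c₀⁻¹) := by
    intro a ha
    have h1 := comm_of_isMulCommutative hAc ha₀ ha
    have h2 := hACc a ha c₀⁻¹ (C.inv_mem hc₀)
    calc a₀ * c₀⁻¹ * a = a₀ * (c₀⁻¹ * a) := by group
      _ = a₀ * (a * c₀⁻¹) := by rw [h2]
      _ = (a₀ * a) * c₀⁻¹ := by group
      _ = (a * a₀) * c₀⁻¹ := by rw [h1]
      _ = a * (a₀ * c₀⁻¹) := by group
  have hginv : (a₀ * c₀⁻¹)⁻¹ = c₀ * a₀⁻¹ := by group
  have hBg : ⁅conjBy B (a₀ * c₀⁻¹)⁻¹, B⁆ = ⊥ := by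
    have e1 : conjBy B (a₀ * c₀⁻¹)⁻¹ = conjBy (conjBy A b₀⁻¹) c₀ := by
      rw [hginv, ← hea, conjBy_conjBy]
    have e2 : B = conjBy (conjBy C b₀⁻¹) c₀ := by
      rw [← hec, conjBy_conjBy, mul_inv_cancel, conjBy_one]
    rw [e1]
    conv_lhs => rw [e2]
    rw [conjBy_commutator, conjBy_commutator, hAC, conjBy_bot, conjBy_bot]
  refine ⟨a₀ * c₀⁻¹, hgA, hBg, ?_⟩
  intro h4
  -- conjBy B g⁻¹ = B, so A = C
  apply hne
  have h5 : conjBy B a₀⁻¹ = conjBy B c₀⁻¹ := by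
    have : conjBy (conjBy B a₀⁻¹) c₀ = B := by
      rw [conjBy_conjBy, ← hginv]; exact h4
    rw [conjBy_eq_iff] at this
    exact this
  rw [hea, hec] at h5
  exact conjBy_inj.mp h5

/-- A subgroup has a free triple: three elements all of whose partial products are non trivial. -/
def FreeTriple (D : Subgroup G) : Prop :=
  ∃ x ∈ D, ∃ y ∈ D, ∃ w ∈ D, x ≠ 1 ∧ y ≠ 1 ∧ w ≠ 1 ∧ x * y ≠ 1 ∧ x * w ≠ 1 ∧ y * w ≠ 1 ∧
    x * (y * w) ≠ 1

theorem freeTriple_conj {D : Subgroup G} (h : FreeTriple D) (g : G) : FreeTriple (conjBy D g) := by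
  obtain ⟨x, hx, y, hy, w, hw, h1, h2, h3, h4, h5, h6, h7⟩ := h
  refine ⟨g * x * g⁻¹, conj_mem_conjBy hx, g * y * g⁻¹, conj_mem_conjBy hy, g * w * g⁻¹,
    conj_mem_conjBy hw, ?_, ?_, ?_, ?_, ?_, ?_, ?_⟩
  · rwa [Ne, conj_eq_one_iff]
  · rwa [Ne, conj_eq_one_iff]
  · rwa [Ne, conj_eq_one_iff]
  · have : g * x * g⁻¹ * (g * y * g⁻¹) = g * (x * y) * g⁻¹ := by group
    rwa [this, Ne, conj_eq_one_iff]
  · have : g * x * g⁻¹ * (g * w * g⁻¹) = g * (x * w) * g⁻¹ := by group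
    rwa [this, Ne, conj_eq_one_iff]
  · have : g * y * g⁻¹ * (g * w * g⁻¹) = g * (y * w) * g⁻¹ := by group
    rwa [this, Ne, conj_eq_one_iff]
  · have : g * x * g⁻¹ * (g * y * g⁻¹ * (g * w * g⁻¹)) = g * (x * (y * w)) * g⁻¹ := by group
    rwa [this, Ne, conj_eq_one_iff]

/-- Without a free triple every element has order at most three. -/
theorem order_le_three_of_not_freeTriple {D : Subgroup G} (h : ¬ FreeTriple D) {d : G} (hd : d ∈ D) :
    0 < orderOf d ∧ orderOf d ≤ 3 := by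
  have h3 : d = 1 ∨ d * d = 1 ∨ d * (d * d) = 1 := by
    by_contra hcon
    push Not at hcon
    exact h ⟨d, hd, d, hd, d, hd, hcon.1, hcon.1, hcon.1, hcon.2.1, hcon.2.1, hcon.2.1, hcon.2.2⟩
  have key : ∃ n : ℕ, 0 < n ∧ n ≤ 3 ∧ d ^ n = 1 := by
    rcases h3 with h | h | h
    · exact ⟨1, by norm_num, by norm_num, by rw [pow_one, h]⟩
    · exact ⟨2, by norm_num, by norm_num, by rw [pow_two, h]⟩
    · exact ⟨3, by norm_num, by norm_num, by rw [pow_succ, pow_two, ← h]; group⟩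
  obtain ⟨n, hn0, hn3, hn⟩ := key
  have hfin : IsOfFinOrder d := isOfFinOrder_iff_pow_eq_one.mpr ⟨n, hn0, hn⟩
  exact ⟨hfin.orderOf_pos, le_trans (orderOf_le_of_pow_eq_one hn0 hn) hn3⟩

/-- Without a free triple, a subgroup containing `x, y` with `x, y, x y ≠ 1` is everything. -/
theorem le_of_not_freeTriple {D D₀ : Subgroup G} (h : ¬ FreeTriple D) (hle : D₀ ≤ D) {x y : G}
    (hx : x ∈ D₀) (hy : y ∈ D₀) (hx1 : x ≠ 1) (hy1 : y ≠ 1) (hxy : x * y ≠ 1) : D ≤ D₀ := by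
  intro z hz
  by_contra hz0
  apply h
  refine ⟨x, hle hx, y, hle hy, z, hz, hx1, hy1, ?_, hxy, ?_, ?_, ?_⟩
  · rintro rfl; exact hz0 D₀.one_mem
  · intro h1
    apply hz0
    have : z = x⁻¹ := by rw [← mul_eq_one_iff_eq_inv'] ; exact h1
    rw [this]; exact D₀.inv_mem hx
  · intro h1
    apply hz0
    have : z = y⁻¹ := by rw [← mul_eq_one_iff_eq_inv'] ; exact h1
    rw [this]; exact D₀.inv_mem hy
  · intro h1
    apply hz0
    have : z = (x * y)⁻¹ := by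
      rw [← mul_eq_one_iff_eq_inv', ← h1]; group
    rw [this]; exact D₀.inv_mem (D₀.mul_mem hx hy)

theorem conjBy_map' {X : Type*} [Group X] (φ : X →* G) (U : Subgroup X) (x : X) :
    (conjBy U x).map φ = conjBy (U.map φ) (φ x) := by
  ext y
  simp only [conjBy, Subgroup.mem_map, MulEquiv.coe_toMonoidHom, MulAut.conj_apply]
  constructor
  · rintro ⟨_, ⟨u, hu, rfl⟩, rfl⟩
    exact ⟨φ u, ⟨u, hu, rfl⟩, by simp⟩
  · rintro ⟨_, ⟨u, hu, rfl⟩, rfl⟩
    exact ⟨x * u * x⁻¹, ⟨u, hu, rfl⟩, by simp⟩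

/-- Speciality passes to images under homomorphisms with central kernel. -/
theorem special_of_hom {X : Type*} [Group X] {U L : Subgroup X} (hsp : IsSpecialRankOnePair U L)
    (φ : X →* G) (hker : φ.ker ≤ Subgroup.center X) (hrk : IsRankOnePair (U.map φ) (L.map φ)) :
    IsSpecialRankOnePair (U.map φ) (L.map φ) := by
  refine ⟨hrk, ?_⟩
  rintro _ ⟨a, ha, rfl⟩ ha1 _ ⟨b, hb, rfl⟩ hb1 hc
  have hb1' : b ≠ 1 := by rintro rfl; exact hb1 (map_one φ)
  have ha1' : a ≠ 1 := by rintro rfl; exact ha1 (map_one φ)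
  obtain ⟨a₁, ha₁, ha₁1, he⟩ := hsp.1.cond_right b hb hb1'
  -- he : conjBy L a₁⁻¹ = conjBy U b⁻¹
  have he' : conjBy (U.map φ) (φ b)⁻¹ = conjBy (L.map φ) (φ a₁)⁻¹ := by
    rw [← map_inv, ← map_inv, ← conjBy_map', ← conjBy_map', he]
  have hEq : φ a = φ a₁ :=
    rk1_partner_unique' hrk (Subgroup.mem_map_of_mem φ ha) (Subgroup.mem_map_of_mem φ ha₁) hc he'
  have hk : a * a₁⁻¹ ∈ φ.ker := by
    rw [MonoidHom.mem_ker, map_mul, map_inv, hEq, mul_inv_cancel]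
  have hz := hker hk
  have hmem : a * a₁⁻¹ ∈ U ⊓ Subgroup.normalizer (L : Set X) := by
    refine ⟨U.mul_mem ha (U.inv_mem ha₁), ?_⟩
    apply Subgroup.centralizer_le_normalizer
    rw [Subgroup.mem_centralizer_iff]
    intro y _
    exact Subgroup.mem_center_iff.mp hz y
  rw [rk1_inf_normalizer hsp.1, Subgroup.mem_bot] at hmem
  have haa : a = a₁ := by
    have := congrArg (fun z => z * a₁) hmem
    simpa using this
  subst haa
  have := hsp.2 a ha ha1' b hb hb1' he.symm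
  have h2 := congrArg φ this
  simpa [map_mul, map_inv] using h2

end Cfsg.Agent.Lib.Helper86
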