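import Mathlib
import Cfsg.Prelude.Def_ClassicalGeometry
import Cfsg.Agent.Lib.Helper48.Sp2GDefs

set_option autoImplicit false

/-!
# K-Sp2G leaf Ea (S2411): long root elements
-/

namespace Cfsg.Agent.Lib.Helper86.Sp2G

open Matrix Cfsg.Agent.Lib.Helper48.RSp Cfsg.Agent.Lib.Helper48.Sp2G Cfsg.Agent.Lib.Helper18

theorem wC_mul_z0 (m : ℕ) (F : Type*) [Field F] : wC m F * z0 m F = zL m F * wC m F := by
  have h10 : (1 : Fin (m + 2)) ≠ 0 := by
    intro h
    have := congrArg Fin.val h
    simp at this
  have hl0 : Fin.last (m + 1) ≠ (0 : Fin (m + 2)) := by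
    intro h
    have := congrArg Fin.val h
    simp at this
  have e1 : (Matrix.single (1 : Fin (m + 2)) 1 (1 : F)) * Matrix.single 0 (Fin.last (m + 1)) 1 = 0 :=
    Matrix.single_mul_single_of_ne _ _ _ _ h10 _
  have e2 : (Matrix.single (0 : Fin (m + 2)) (Fin.last (m + 1)) (1 : F)) * E00 m F = 0 :=
    Matrix.single_mul_single_of_ne _ _ _ _ hl0 _
  have e3 : (Nup m F)ᵀ * E00 m F = Matrix.single (1 : Fin (m + 2)) 1 (1 : F) * (Nup m F)ᵀ := by
    ext i j
    simp only [E00, Matrix.mul_apply, Matrix.single_apply, Matrix.transpose_apply, Nup]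
    rw [Finset.sum_eq_single (0 : Fin (m + 2)), Finset.sum_eq_single (1 : Fin (m + 2))]
    · by_cases hi : i = 1
      · subst hi
        by_cases hj : j = 0
        · subst hj; simp
        · have : ¬ (j.val + 1 = (1 : Fin (m + 2)).val) := by
            intro h
            apply hj
            apply Fin.ext
            have h1 : ((1 : Fin (m + 2)).val) = 1 := by simp
            rw [h1] at h
            simp only [Fin.val_zero]
            omega
          simp [this, hj, Ne.symm hj]
      · have : ¬ (1 = i.val) := by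
          intro h
          apply hi
          apply Fin.ext
          have h1 : ((1 : Fin (m + 2)).val) = 1 := by simp
          rw [h1]
          omega
        simp [hi, Ne.symm hi]
        intro _
        exact this
    · intro b _ hb
      simp [hb, Ne.symm hb]
    · simp
    · intro b _ hb
      simp [hb, Ne.symm hb]
    · simp
  unfold wC z0 zL xMat
  rw [Matrix.fromBlocks_multiply, Matrix.fromBlocks_multiply]
  simp only [Matrix.mul_one, Matrix.one_mul, Matrix.mul_zero, Matrix.zero_mul, add_zero, zero_add,
    e1, e2, e3, Matrix.neg_mul]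
  congr 1
  abel

theorem hT_mul_xMat_E00 (m : ℕ) {F : Type*} [Field F] (k a : F) (hk : k ≠ 0) :
    hT m k * xMat m (a • E00 m F) = xMat m ((k ^ 2 * a) • E00 m F) * hT m k := by
  have e : Matrix.diagonal (kvec m k) * (a • E00 m F) =
      ((k ^ 2 * a) • E00 m F) * Matrix.diagonal (kvec m k⁻¹) := by
    ext i j
    simp only [E00, Matrix.diagonal_mul, Matrix.mul_diagonal, Matrix.smul_apply, Matrix.single_apply,
      kvec, smul_eq_mul]
    by_cases hi : i = 0
    · by_cases hj : j = 0
      · subst hi; subst hj
        simp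
        field_simp
      · simp [hi, hj, Ne.symm hj]
    · simp [hi, Ne.symm hi]
  unfold hT xMat
  rw [Matrix.fromBlocks_multiply, Matrix.fromBlocks_multiply]
  simp only [Matrix.mul_one, Matrix.one_mul, Matrix.mul_zero, Matrix.zero_mul, add_zero, zero_add, e]

end Cfsg.Agent.Lib.Helper86.Sp2G
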