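import Mathlib
import Cfsg.Prelude.Def_GeometricClasses
import Cfsg.Prelude.Def_ClassicalGeometry
import Cfsg.Agent.Lib.Helper69.SLTDefs
import Cfsg.Agent.Lib.Helper69.SLTGlue
import Cfsg.Agent.Lib.Helper69.SLTTransport
import Cfsg.Agent.Lib.Helper86.SpMaxY3Core

/-!
K-SpT glue (S5980), part A: transport between `GL (Fin d ⊕ Fin d) F` and `GL (Fin a × Fin b) F`.
-/

set_option autoImplicit false

namespace Cfsg.Agent.Lib.Helper86.SpT

open Matrix Polynomial Cfsg.Agent.Lib.Helper69.SLT Cfsg.Agent.Lib.Helper86.SpMax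
open scoped Kronecker

variable {F : Type*} [Field F]

section transport

variable {ι : Type} [Fintype ι] [DecidableEq ι] {a b : ℕ}

/-- the inverse transport -/
def tInv (e : ι ≃ Fin a × Fin b) (P : GL ι F) (x : GL ι F) : GL (Fin a × Fin b) F :=
  Cfsg.Geo.glReindex e (P⁻¹ * x * P)

theorem tHom_tInv (e : ι ≃ Fin a × Fin b) (P : GL ι F) (x : GL ι F) :
    tHom e P (tInv e P x) = x := by
  unfold tHom tInv
  show (MulAut.conj P) ((Cfsg.Geo.glReindex e.symm) (Cfsg.Geo.glReindex e (P⁻¹ * x * P))) = x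
  rw [glReindex_apply_symm, MulAut.conj_apply]
  group

theorem tInv_tHom (e : ι ≃ Fin a × Fin b) (P : GL ι F) (k : GL (Fin a × Fin b) F) :
    tInv e P (tHom e P k) = k := by
  apply tHom_injective e P
  rw [tHom_tInv]

theorem tInv_mul (e : ι ≃ Fin a × Fin b) (P : GL ι F) (x y : GL ι F) :
    tInv e P (x * y) = tInv e P x * tInv e P y := by
  unfold tInv
  rw [← map_mul]
  congr 1
  group

theorem tInv_inv (e : ι ≃ Fin a × Fin b) (P : GL ι F) (x : GL ι F) :
    tInv e P x⁻¹ = (tInv e P x)⁻¹ := by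
  unfold tInv
  rw [← map_inv]
  congr 1
  group

theorem tInv_one (e : ι ≃ Fin a × Fin b) (P : GL ι F) : tInv e P (1 : GL ι F) = 1 := by
  unfold tInv
  rw [mul_one, inv_mul_cancel, map_one]

theorem tInv_pow (e : ι ≃ Fin a × Fin b) (P : GL ι F) (x : GL ι F) (n : ℕ) :
    tInv e P (x ^ n) = tInv e P x ^ n := by
  induction n with
  | zero => rw [pow_zero, pow_zero, tInv_one]
  | succ k ih => rw [pow_succ, pow_succ, tInv_mul, ih]

theorem mem_tensor_iff_tInv (e : ι ≃ Fin a × Fin b) (P : GL ι F) (y : GL ι F) :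
    y ∈ Cfsg.Geo.tensorProductSubgroup a b e P ↔ tInv e P y ∈ Cfsg.Geo.kroneckerSubgroup a b F := by
  rw [tensorProductSubgroup_eq_map, Subgroup.mem_map]
  constructor
  · rintro ⟨k, hk, rfl⟩
    rw [tInv_tHom]
    exact hk
  · intro h
    exact ⟨_, h, tHom_tInv e P y⟩

/-- eigenspace dimensions are invariant under reindexing -/
theorem eigDim_reindex {κ : Type} [Fintype κ] [DecidableEq κ] (e : κ ≃ ι) (M : Matrix κ κ F) (μ : F) :
    eigDim (Matrix.reindex e e M) μ = eigDim M μ := by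
  unfold eigDim
  have hmul : ∀ v : ι → F, M *ᵥ (v ∘ e) = (Matrix.reindex e e M *ᵥ v) ∘ e := by
    intro v
    ext i
    simp only [Matrix.mulVec, dotProduct, Function.comp, Matrix.reindex_apply, Matrix.submatrix_apply]
    rw [← Equiv.sum_comp e]
    simp
  let L : (ι → F) ≃ₗ[F] (κ → F) := LinearEquiv.funCongrLeft F F e
  have hL : ∀ v : ι → F, L v = v ∘ e := fun v => rfl
  have hmap : (Module.End.eigenspace (Matrix.toLin' (Matrix.reindex e e M)) μ).map L.toLinearMap =
      Module.End.eigenspace (Matrix.toLin' M) μ := by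
    ext w
    rw [Submodule.mem_map]
    constructor
    · rintro ⟨v, hv, rfl⟩
      rw [mem_eigenspace_toLin'] at hv
      rw [LinearEquiv.coe_coe, mem_eigenspace_toLin', hL, hmul, hv]
      rfl
    · intro hw
      rw [mem_eigenspace_toLin'] at hw
      refine ⟨L.symm w, ?_, by simp⟩
      rw [mem_eigenspace_toLin']
      apply L.injective
      have h1 := hmul (L.symm w)
      rw [← hL, LinearEquiv.apply_symm_apply] at h1
      rw [hL (Matrix.reindex e e M *ᵥ L.symm w), ← h1, hw, map_smul, LinearEquiv.apply_symm_apply]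
  rw [← hmap]
  exact (LinearEquiv.finrank_map_eq L _).symm

theorem tInv_val (e : ι ≃ Fin a × Fin b) (P : GL ι F) (x : GL ι F) :
    ((tInv e P x : GL (Fin a × Fin b) F) : Matrix (Fin a × Fin b) (Fin a × Fin b) F) =
      Matrix.reindex e e ((P⁻¹ * x * P : GL ι F) : Matrix ι ι F) := rfl

theorem eigDim_tInv (e : ι ≃ Fin a × Fin b) (P : GL ι F) (x : GL ι F) (μ : F) :
    eigDim ((tInv e P x : GL (Fin a × Fin b) F) : Matrix (Fin a × Fin b) (Fin a × Fin b) F) μ =
      eigDim (x : Matrix ι ι F) μ := by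
  rw [tInv_val, eigDim_reindex, eigDim_conj]

theorem charpoly_tInv (e : ι ≃ Fin a × Fin b) (P : GL ι F) (x : GL ι F) :
    ((tInv e P x : GL (Fin a × Fin b) F) : Matrix (Fin a × Fin b) (Fin a × Fin b) F).charpoly =
      (x : Matrix ι ι F).charpoly := by
  rw [tInv_val, Matrix.charpoly_reindex]
  have h1 : ((P⁻¹ * x * P : GL ι F) : Matrix ι ι F) =
      (P : Matrix ι ι F)⁻¹ * (x : Matrix ι ι F) * (P : Matrix ι ι F) := by
    rw [Units.val_mul, Units.val_mul, Matrix.coe_units_inv]
  rw [h1]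
  exact Matrix.charpoly_units_conj' P (x : Matrix ι ι F)

theorem tInv_scalar_iff (e : ι ≃ Fin a × Fin b) (P : GL ι F) (x : GL ι F) (z : F) :
    ((tInv e P x : GL (Fin a × Fin b) F) : Matrix (Fin a × Fin b) (Fin a × Fin b) F) =
      z • (1 : Matrix (Fin a × Fin b) (Fin a × Fin b) F) ↔ (x : Matrix ι ι F) = z • (1 : Matrix ι ι F) := by
  unfold tInv
  rw [glReindex_val_eq_smul_one_iff]
  constructor
  · intro h
    have h1 : (x : Matrix ι ι F) = (P : Matrix ι ι F) * ((P⁻¹ * x * P : GL ι F) : Matrix ι ι F) *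
        ((P⁻¹ : GL ι F) : Matrix ι ι F) := by
      rw [← Units.val_mul, ← Units.val_mul]
      congr 1
      group
    rw [h1, h, Matrix.mul_smul, Matrix.mul_one, Matrix.smul_mul, ← Units.val_mul, mul_inv_cancel, Units.val_one]
  · intro h
    rw [Units.val_mul, Units.val_mul, h, Matrix.mul_smul, Matrix.mul_one, Matrix.smul_mul, ← Units.val_mul,
      inv_mul_cancel, Units.val_one]

/-- a conjugate in the tensor product subgroup gives a conjugate in the Kronecker subgroup -/
theorem conj_tInv_mem (e : ι ≃ Fin a × Fin b) (P : GL ι F) (x g : GL ι F)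
    (h : g⁻¹ * x * g ∈ Cfsg.Geo.tensorProductSubgroup a b e P) :
    (tInv e P g)⁻¹ * tInv e P x * tInv e P g ∈ Cfsg.Geo.kroneckerSubgroup a b F := by
  rw [mem_tensor_iff_tInv, tInv_mul, tInv_mul, tInv_inv] at h
  exact h

end transport

end Cfsg.Agent.Lib.Helper86.SpT
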