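import Mathlib
import Cfsg.Prelude.Def_GeometricClasses
import Cfsg.Prelude.Def_ClassicalGeometry
import Cfsg.Agent.Lib.Helper69.SLTDefs
import Cfsg.Agent.Lib.Helper69.SLTGlue
import Cfsg.Agent.Lib.Helper13.SLTT2
import Cfsg.Agent.Lib.Helper41.SpTK1
import Cfsg.Agent.Lib.Helper45.SpTK2
import Cfsg.Agent.Lib.Helper14.SpTCOMB

/-!
K-SpT glue (S5980), part B: an element of order `r` whose characteristic polynomial is
`(X - 1)^(ab - c) f` with `f` separable of small degree `c` is not `GL`-conjugate to a Kronecker product.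
-/

set_option autoImplicit false

namespace Cfsg.Agent.Lib.Helper86.SpT

open Matrix Polynomial Cfsg.Agent.Lib.Helper69.SLT
open scoped Kronecker

variable {F : Type*} [Field F]

/-- `A ⊗ B = 1` forces `B` scalar -/
theorem kron_eq_one_right {a b : ℕ} (ha : 1 ≤ a) (A : Matrix (Fin a) (Fin a) F)
    (B : Matrix (Fin b) (Fin b) F) (h : A ⊗ₖ B = 1) : ∃ l : F, B = l • (1 : Matrix (Fin b) (Fin b) F) := by
  let i₀ : Fin a := ⟨0, ha⟩
  have key : ∀ j j' : Fin b, A i₀ i₀ * B j j' = if j = j' then 1 else 0 := by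
    intro j j'
    have := congrFun (congrFun h (i₀, j)) (i₀, j')
    rw [Matrix.kronecker_apply, Matrix.one_apply] at this
    rw [this]
    simp
  rcases Nat.eq_zero_or_pos b with h0 | h0
  · subst h0
    exact ⟨0, by ext i; exact i.elim0⟩
  · have hA : A i₀ i₀ ≠ 0 := by
      intro hz
      have := key ⟨0, h0⟩ ⟨0, h0⟩
      rw [hz, zero_mul, if_pos rfl] at this
      exact zero_ne_one this
    refine ⟨(A i₀ i₀)⁻¹, ?_⟩
    ext j j'
    rw [Matrix.smul_apply, Matrix.one_apply, smul_eq_mul]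
    have := key j j'
    by_cases hjj : j = j'
    · rw [if_pos hjj] at this ⊢
      field_simp
      rw [mul_comm]
      exact this
    · rw [if_neg hjj] at this ⊢
      rw [mul_zero]
      rcases mul_eq_zero.mp this with h1 | h1
      · exact absurd h1 hA
      · exact h1

theorem scalar_ne_zero_of_GL {n : ℕ} (hn : 1 ≤ n) (A : GL (Fin n) F) (l : F)
    (h : (A : Matrix (Fin n) (Fin n) F) = l • (1 : Matrix (Fin n) (Fin n) F)) : l ≠ 0 := by
  rintro rfl
  rw [zero_smul] at h
  have h1 : IsUnit (A : Matrix (Fin n) (Fin n) F) := A.isUnit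
  rw [h] at h1
  have : Nontrivial (Matrix (Fin n) (Fin n) F) := by
    have : Nonempty (Fin n) := ⟨⟨0, by omega⟩⟩
    infer_instance
  exact not_isUnit_zero h1

theorem map_kron {K : Type*} [Field K] (ι : F →+* K) {a b : ℕ} (A : Matrix (Fin a) (Fin a) F)
    (B : Matrix (Fin b) (Fin b) F) : (A ⊗ₖ B).map ι = (A.map ι) ⊗ₖ (B.map ι) := by
  ext ⟨i, j⟩ ⟨i', j'⟩
  simp [Matrix.kroneckerMap_apply, Matrix.map_apply]

theorem map_pow_scalar {K : Type*} [Field K] (ι : F →+* K) {n : ℕ} (A : Matrix (Fin n) (Fin n) F) (r : ℕ) (l : F)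
    (h : A ^ r = l • (1 : Matrix (Fin n) (Fin n) F)) :
    (A.map ι) ^ r = (ι l) • (1 : Matrix (Fin n) (Fin n) K) := by
  have h1 : (A.map ι) ^ r = (A ^ r).map ι := by
    have := map_pow (ι.mapMatrix (m := Fin n)) A r
    simpa [RingHom.mapMatrix_apply] using this.symm
  rw [h1, h]
  ext i j
  by_cases hij : i = j <;> simp [Matrix.map_apply, Matrix.smul_apply, Matrix.one_apply, hij]

/-- if `A.map ι` is conjugate to `diagonal dA` with `dA` injective and `n ≥ 2`, then `A` is not scalar -/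
theorem not_scalar_of_diag_injective {K : Type*} [Field K] (ι : F →+* K) {n : ℕ} (hn : 2 ≤ n)
    (A : Matrix (Fin n) (Fin n) F) (P : GL (Fin n) K) (dA : Fin n → K)
    (hA : A.map ι = (P : Matrix (Fin n) (Fin n) K) * Matrix.diagonal dA *
      ((P⁻¹ : GL (Fin n) K) : Matrix (Fin n) (Fin n) K))
    (hinj : Function.Injective dA) (z : F) (hz : A = z • (1 : Matrix (Fin n) (Fin n) F)) : False := by
  have h1 : A.map ι = (ι z) • (1 : Matrix (Fin n) (Fin n) K) := by
    rw [hz]
    ext i j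
    by_cases hij : i = j <;> simp [Matrix.map_apply, Matrix.smul_apply, Matrix.one_apply, hij]
  have h2 : Matrix.diagonal dA = ((P⁻¹ : GL (Fin n) K) : Matrix (Fin n) (Fin n) K) * A.map ι *
      (P : Matrix (Fin n) (Fin n) K) := by
    rw [hA]
    simp only [Matrix.mul_assoc]
    rw [← Units.val_mul, inv_mul_cancel, Units.val_one, Matrix.mul_one, ← Matrix.mul_assoc, ← Units.val_mul,
      inv_mul_cancel, Units.val_one, Matrix.one_mul]
  rw [h1, Matrix.mul_smul, Matrix.mul_one, Matrix.smul_mul, ← Units.val_mul, inv_mul_cancel, Units.val_one] at h2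
  have h3 : ∀ i, dA i = ι z := by
    intro i
    have := congrFun (congrFun h2 i) i
    rw [Matrix.diagonal_apply_eq, Matrix.smul_apply, Matrix.one_apply_eq, smul_eq_mul, mul_one] at this
    exact this
  have h4 : (⟨0, by omega⟩ : Fin n) = ⟨1, by omega⟩ := hinj (by rw [h3, h3])
  simp at h4

/-- **criterion 3**: order `r`, `charpoly = (X-1)^(ab-c) f`, `f` separable of degree `c ∈ {e, 2e}` -/
theorem noKronConj_of_charpoly [Fintype F] {p : ℕ} [Fact p.Prime] [CharP F p] {a b : ℕ} (ha : 2 ≤ a)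
    (hb : 3 ≤ b) (haeven : Even a) (r : ℕ) (hr : r.Prime) (hrp : r ≠ p) (e : ℕ)
    (he : e = orderOf ((Fintype.card F : ℕ) : ZMod r)) (he2 : 2 ≤ e)
    (c : ℕ) (hc : c = if Even e then e else 2 * e) (hcab : c ≤ a * b)
    (x : GL (Fin a × Fin b) F) (hxr : x ^ r = 1)
    (f : F[X]) (hf : f.Separable) (hf1 : f.eval 1 ≠ 0)
    (hchar : (x : Matrix (Fin a × Fin b) (Fin a × Fin b) F).charpoly = (X - 1) ^ (a * b - c) * f) :
    NoKronConj a b x := by
  intro h hmem
  obtain ⟨A, B, hAB⟩ := hmem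
  -- `(A ⊗ B) ^ r = 1`
  have hpow : ((A : Matrix (Fin a) (Fin a) F) ⊗ₖ (B : Matrix (Fin b) (Fin b) F)) ^ r = 1 := by
    rw [← hAB, ← Units.val_pow_eq_pow_val]
    have : (h⁻¹ * x * h) ^ r = 1 := by
      rw [show h⁻¹ * x * h = h⁻¹ * x * (h⁻¹)⁻¹ by rw [inv_inv], conj_pow, hxr]
      group
    rw [this, Units.val_one]
  rw [kron_pow] at hpow
  obtain ⟨l, hl⟩ := kron_eq_one_left (by omega) _ _ hpow
  obtain ⟨l', hl'⟩ := kron_eq_one_right (by omega) _ _ hpow
  have hl0 : l ≠ 0 := by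
    apply scalar_ne_zero_of_GL (n := a) (by omega) (A ^ r) l
    rw [Units.val_pow_eq_pow_val]
    exact hl
  have hl'0 : l' ≠ 0 := by
    apply scalar_ne_zero_of_GL (n := b) (by omega) (B ^ r) l'
    rw [Units.val_pow_eq_pow_val]
    exact hl'
  -- the algebraic closure
  let K := AlgebraicClosure F
  let ι : F →+* K := algebraMap F K
  have hι : Function.Injective ι := (algebraMap F K).injective
  have hrF : (r : F) ≠ 0 := by
    intro h0
    rw [CharP.cast_eq_zero_iff F p] at h0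
    exact hrp ((Nat.prime_dvd_prime_iff_eq Fact.out hr).mp h0).symm
  have hrK : (r : K) ≠ 0 := by
    intro h0
    apply hrF
    apply hι
    rw [map_natCast, map_zero]
    exact h0
  obtain ⟨PA, dA, hPA⟩ := Cfsg.Agent.Lib.Helper41.SpT.exists_diag_of_pow_scalar (K := K) r hrK
    ((A : Matrix (Fin a) (Fin a) F).map ι) (ι l) (by rw [Ne, map_eq_zero]; exact hl0)
    (map_pow_scalar ι _ r l hl)
  obtain ⟨PB, dB, hPB⟩ := Cfsg.Agent.Lib.Helper41.SpT.exists_diag_of_pow_scalar (K := K) r hrK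
    ((B : Matrix (Fin b) (Fin b) F).map ι) (ι l') (by rw [Ne, map_eq_zero]; exact hl'0)
    (map_pow_scalar ι _ r l' hl')
  have hK2 := Cfsg.Agent.Lib.Helper45.SpT.charpoly_kron_of_diag _ _ PA PB dA dB hPA hPB
  -- the characteristic polynomial of `A ⊗ B`
  have hcp : ((A : Matrix (Fin a) (Fin a) F) ⊗ₖ (B : Matrix (Fin b) (Fin b) F)).charpoly =
      (X - 1) ^ (a * b - c) * f := by
    rw [← hAB, ← hchar]
    have h1 : ((h⁻¹ * x * h : GL (Fin a × Fin b) F) : Matrix (Fin a × Fin b) (Fin a × Fin b) F) =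
        (h : Matrix (Fin a × Fin b) (Fin a × Fin b) F)⁻¹ * (x : Matrix (Fin a × Fin b) (Fin a × Fin b) F) *
          (h : Matrix (Fin a × Fin b) (Fin a × Fin b) F) := by
      rw [Units.val_mul, Units.val_mul, Matrix.coe_units_inv]
    rw [h1]
    exact Matrix.charpoly_units_conj' h _
  have hcpK : ∏ ij : Fin a × Fin b, (X - C (dA ij.1 * dB ij.2)) = (X - 1) ^ (a * b - c) * f.map ι := by
    rw [← hK2, ← map_kron, Matrix.charpoly_map, hcp, Polynomial.map_mul, Polynomial.map_pow,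
      Polynomial.map_sub, Polynomial.map_X, Polynomial.map_one]
  have hc1 : 1 ≤ c := by
    rw [hc]
    split_ifs <;> omega
  obtain ⟨hinjA, hinjB, hma, hmb⟩ := Cfsg.Agent.Lib.Helper14.SpT.kron_comb (K := K) ha (by omega) dA dB
    (a * b - c) c (by omega) hc1 (f.map ι) hf.map
    (by rw [Polynomial.eval_one_map]; rw [Ne, map_eq_zero]; exact hf1) hcpK
  -- `A`, `B` are not scalar, so `e ≤ a`, `e ≤ b`
  have hea : e ≤ a := by
    by_contra hlt
    obtain ⟨z, hz⟩ := Cfsg.Agent.Lib.Helper13.SLT.scalar_of_pow_scalar r hr hrp a (by rw [← he]; omega) A l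
      (by rw [Units.val_pow_eq_pow_val]; exact hl)
    exact not_scalar_of_diag_injective ι ha _ PA dA hPA hinjA z hz
  have heb : e ≤ b := by
    by_contra hlt
    obtain ⟨z, hz⟩ := Cfsg.Agent.Lib.Helper13.SLT.scalar_of_pow_scalar r hr hrp b (by rw [← he]; omega) B l'
      (by rw [Units.val_pow_eq_pow_val]; exact hl')
    exact not_scalar_of_diag_injective ι (by omega) _ PB dB hPB hinjB z hz
  -- arithmetic
  have hc2 : c ≤ 2 * e := by
    rw [hc]
    split_ifs <;> omega
  rcases le_or_gt a b with hab | hab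
  · -- `a ≤ b`: `a b ≤ a + c ≤ 3 a`
    have h1 : a * b ≤ 3 * a := by omega
    have hb3 : b ≤ 3 := by
      by_contra hcon
      have : a * 4 ≤ a * b := Nat.mul_le_mul_left a (by omega)
      omega
    have hb3' : b = 3 := by omega
    obtain ⟨t, ht⟩ := haeven
    have ha2' : a = 2 := by omega
    have he2' : e = 2 := by omega
    have hc2' : c = 2 := by
      rw [hc, he2']
      simp
    subst hb3' ha2'
    omega
  · -- `b < a`: `a b ≤ b + c ≤ 3 b`
    have h1 : a * b ≤ 3 * b := by omega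
    have : 4 * b ≤ a * b := Nat.mul_le_mul_right b (by omega)
    omega

end Cfsg.Agent.Lib.Helper86.SpT
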