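import Mathlib
import Cfsg.Prelude.Def_GeometricClasses
import Cfsg.Prelude.Def_ClassicalGeometry
import Cfsg.Agent.Lib.Helper69.SLTDefs
import Cfsg.Agent.Lib.Helper69.SLTGlue
import Cfsg.Agent.Lib.Helper85.SLT1b
import Cfsg.Agent.Lib.Helper81.SpO2
import Cfsg.Agent.Lib.Helper86.SpTGlueA
import Cfsg.Agent.Lib.Helper86.SpTGlueB
import Cfsg.Agent.Lib.Helper32.SpT3a
import Cfsg.Agent.Lib.Helper82.SpTN
import Cfsg.Agent.Lib.Helper96.SpTPneg
import Cfsg.Agent.Lib.Helper89.SpTEven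
import Cfsg.Agent.Lib.Helper62.SpTM
import Cfsg.Agent.Lib.Helper04.SpTZ
import Cfsg.Agent.Lib.Helper40.SpT3b
import Cfsg.Agent.Lib.Helper20.SpT3e
import Cfsg.Agent.Lib.Helper67.SpTOrth
import Cfsg.Agent.Lib.Helper61.SpTPpos

/-!
K-SpT glue (S5980), part C: the derangements in `Sp` and the positive direction.
-/

set_option autoImplicit false

namespace Cfsg.Agent.Lib.Helper86.SpT

open Matrix Polynomial Cfsg.Agent.Lib.Helper69.SLT Cfsg.Agent.Lib.Helper86.SpMax
open scoped Kronecker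

variable {F : Type*} [Field F]

/-- the Kronecker product of two invertible matrices as an element of `GL` -/
def kronU {a b : ℕ} (A : GL (Fin a) F) (B : GL (Fin b) F) : GL (Fin a × Fin b) F where
  val := (A : Matrix (Fin a) (Fin a) F) ⊗ₖ (B : Matrix (Fin b) (Fin b) F)
  inv := ((A⁻¹ : GL (Fin a) F) : Matrix (Fin a) (Fin a) F) ⊗ₖ
    ((B⁻¹ : GL (Fin b) F) : Matrix (Fin b) (Fin b) F)
  val_inv := by
    rw [← Matrix.mul_kronecker_mul, ← Units.val_mul, ← Units.val_mul, mul_inv_cancel,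
      mul_inv_cancel, Units.val_one, Units.val_one, Matrix.one_kronecker_one]
  inv_val := by
    rw [← Matrix.mul_kronecker_mul, ← Units.val_mul, ← Units.val_mul, inv_mul_cancel,
      inv_mul_cancel, Units.val_one, Units.val_one, Matrix.one_kronecker_one]

theorem kronU_val {a b : ℕ} (A : GL (Fin a) F) (B : GL (Fin b) F) :
    ((kronU A B : GL (Fin a × Fin b) F) : Matrix (Fin a × Fin b) (Fin a × Fin b) F) =
      (A : Matrix (Fin a) (Fin a) F) ⊗ₖ (B : Matrix (Fin b) (Fin b) F) := rfl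

theorem kronU_mem {a b : ℕ} (A : GL (Fin a) F) (B : GL (Fin b) F) :
    kronU A B ∈ Cfsg.Geo.kroneckerSubgroup a b F := ⟨A, B, rfl⟩

theorem not_dvd_of_add_one' {a m n : ℕ} (ha : 2 ≤ a) (h : m + 1 = a * n) : ¬ a ∣ m := by
  intro hd
  have h1 : a ∣ a * n := dvd_mul_right a n
  rw [← h] at h1
  have h2 : a ∣ 1 := (Nat.dvd_add_right hd).mp h1
  have := Nat.le_of_dvd one_pos h2
  omega

/-- the derangements -/
theorem exists_sp_derangement [Fintype F] {p : ℕ} [Fact p.Prime] [CharP F p] (hodd : Odd (Fintype.card F))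
    (d : ℕ) (hd : 2 ≤ d) {a b : ℕ} (hab : 2 * d = a * b) (ha : Even a) (ha2 : 2 ≤ a) (hb : 3 ≤ b)
    (r : ℕ) (hr : r.Prime) (hrdvd : r ∣ Nat.card (Cfsg.spGL d F)) (hR : ¬ (r = 2 ∧ a = 2))
    (e : (Fin d ⊕ Fin d) ≃ Fin a × Fin b) (P : GL (Fin d ⊕ Fin d) F) :
    ∃ x ∈ Cfsg.spGL d F,
      (∃ z : F, ((x ^ r : GL (Fin d ⊕ Fin d) F) : Matrix (Fin d ⊕ Fin d) (Fin d ⊕ Fin d) F) =
        z • (1 : Matrix (Fin d ⊕ Fin d) (Fin d ⊕ Fin d) F)) ∧
      (∀ z : F, (x : Matrix (Fin d ⊕ Fin d) (Fin d ⊕ Fin d) F) ≠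
        z • (1 : Matrix (Fin d ⊕ Fin d) (Fin d ⊕ Fin d) F)) ∧
      NoKronConj a b (tInv e P x) := by
  classical
  have hpowone : ∀ x : GL (Fin d ⊕ Fin d) F, x ^ r = 1 →
      ∃ z : F, ((x ^ r : GL (Fin d ⊕ Fin d) F) : Matrix (Fin d ⊕ Fin d) (Fin d ⊕ Fin d) F) =
        z • (1 : Matrix (Fin d ⊕ Fin d) (Fin d ⊕ Fin d) F) := by
    intro x hx
    exact ⟨1, by rw [hx, Units.val_one, one_smul]⟩
  by_cases hrp : r = p
  · subst hrp
    obtain ⟨x, hxsp, hpow, hns, hfix⟩ :=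
      Cfsg.Agent.Lib.Helper32.SpT.exists_sp_transvection (F := F) (p := r) d (by omega)
    refine ⟨x, hxsp, hpowone x hpow, hns, noKronConj_of_eigen _ 1 1 1 (by omega) ?_ ?_⟩
    · rw [eigDim_tInv]; omega
    · rw [eigDim_tInv]
      exact not_dvd_of_add_one' ha2 (n := b) (by rw [hfix, hab])
  · -- `r ≠ p`
    obtain ⟨k, -, hk⟩ := FiniteField.card F p
    have hp : p.Prime := Fact.out
    have hrq : ¬ r ∣ Fintype.card F := by
      rw [hk]
      intro h
      exact hrp ((Nat.prime_dvd_prime_iff_eq hr hp).mp (hr.dvd_of_dvd_pow h))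
    have hp2 : p ≠ 2 := by
      rintro rfl
      rw [hk] at hodd
      exact (Nat.not_even_iff_odd.mpr hodd) (Nat.even_pow.mpr ⟨even_two, k.ne_zero⟩)
    have h2F : (2 : F) ≠ 0 := by
      intro h
      have h1 : ((2 : ℕ) : F) = 0 := by exact_mod_cast h
      rw [CharP.cast_eq_zero_iff F p] at h1
      exact hp2 ((Nat.prime_dvd_prime_iff_eq hp Nat.prime_two).mp h1)
    by_cases hr2 : r = 2
    · subst hr2
      have ha4 : 4 ≤ a := by
        obtain ⟨t, ht⟩ := ha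
        have : a ≠ 2 := fun h => hR ⟨rfl, h⟩
        omega
      have hneg : (-1 : Fˣ) ≠ 1 := by
        intro h
        have h1 : ((-1 : Fˣ) : F) = ((1 : Fˣ) : F) := congrArg Units.val h
        rw [Units.val_neg, Units.val_one] at h1
        apply h2F
        have : (2 : F) = 1 - (-1) := by ring
        rw [this, h1]; ring
      obtain ⟨x, hxsp, hpow, hns, hfix, -, hfix2⟩ :=
        Cfsg.Agent.Lib.Helper40.SpT.exists_sp_diag (F := F) d hd (-1) hneg 2 (by simp)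
      refine ⟨x, hxsp, hpowone x hpow, hns,
        noKronConj_of_eigen _ 1 (((-1 : Fˣ)) : F) 2 (by omega) ?_ ?_⟩
      · rw [eigDim_tInv]; omega
      · rw [eigDim_tInv, hfix2 (by simp)]
        intro hdv
        have := Nat.le_of_dvd (by norm_num) hdv
        omega
    · -- `r` odd, `r ≠ p`
      have : Fact r.Prime := ⟨hr⟩
      have hunit : ((Fintype.card F : ℕ) : ZMod r) ≠ 0 := by
        intro h
        exact hrq ((ZMod.natCast_eq_zero_iff _ _).mp h)
      have he1 : 1 ≤ orderOf ((Fintype.card F : ℕ) : ZMod r) := by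
        apply Nat.one_le_iff_ne_zero.mpr
        rw [Ne, orderOf_eq_zero_iff, not_not]
        exact isOfFinOrder_iff_pow_eq_one.mpr ⟨r - 1, by have := hr.two_le; omega,
          ZMod.pow_card_sub_one_eq_one hunit⟩
      by_cases he : orderOf ((Fintype.card F : ℕ) : ZMod r) = 1
      · -- `r ∣ q - 1`
        have hq1 : ((Fintype.card F : ℕ) : ZMod r) = 1 := orderOf_eq_one_iff.mp he
        have hdvd : r ∣ Fintype.card F - 1 := by
          have hpos : 1 ≤ Fintype.card F := Fintype.card_pos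
          have : ((Fintype.card F - 1 : ℕ) : ZMod r) = 0 := by
            rw [Nat.cast_sub hpos, hq1, Nat.cast_one, sub_self]
          exact (ZMod.natCast_eq_zero_iff _ _).mp this
        have hdvd' : r ∣ Fintype.card Fˣ := by rw [Fintype.card_units]; exact hdvd
        obtain ⟨ζ, hζ⟩ := exists_prime_orderOf_dvd_card r hdvd'
        have hζ1 : ζ ≠ 1 := by
          intro h
          rw [h, orderOf_one] at hζ
          exact hr.one_lt.ne hζ
        have hζinv : ζ ≠ ζ⁻¹ := by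
          intro h
          have h2 : ζ ^ 2 = 1 := by rw [pow_two]; nth_rewrite 2 [h]; exact mul_inv_cancel ζ
          have := orderOf_dvd_of_pow_eq_one h2
          rw [hζ] at this
          exact hr2 ((Nat.prime_dvd_prime_iff_eq hr Nat.prime_two).mp this)
        obtain ⟨x, hxsp, hpow, hns, hfix, hfix1, -⟩ :=
          Cfsg.Agent.Lib.Helper40.SpT.exists_sp_diag (F := F) d hd ζ hζ1 r
            (by rw [← hζ]; exact pow_orderOf_eq_one ζ)
        refine ⟨x, hxsp, hpowone x hpow, hns,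
          noKronConj_of_eigen _ 1 (ζ : F) 2 (by omega) ?_ ?_⟩
        · rw [eigDim_tInv]; omega
        · rw [eigDim_tInv, hfix1 hζinv]
          intro hdv
          have := Nat.le_of_dvd one_pos hdv
          omega
      · have he2 : 2 ≤ orderOf ((Fintype.card F : ℕ) : ZMod r) := by omega
        have hq2 : 2 ≤ Fintype.card F := Fintype.one_lt_card
        have hcd := Cfsg.Agent.Lib.Helper82.SpT.block_le_of_dvd_spOrd (Fintype.card F) d r hq2 hrq
          (by rw [← Cfsg.Agent.Lib.Helper81.SpO.card_spGL rfl d]; exact hrdvd)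
        obtain ⟨x, hxsp, hpow, hns, f, hf, hf1, -, hchar⟩ :=
          Cfsg.Agent.Lib.Helper20.SpT.exists_sp_block (F := F) (p := p) d r hr hr2 hrp _ rfl he2 _ rfl hcd
        refine ⟨x, hxsp, hpowone x hpow, hns,
          noKronConj_of_charpoly ha2 hb ha r hr hrp _ rfl he2 _ rfl (by rw [← hab]; exact hcd) _ ?_ f hf hf1 ?_⟩
        · rw [← tInv_pow, hpow, tInv_one]
        · rw [charpoly_tInv, hchar, hab]

/-- the standard matrix `J` of order `4` in `GL_2` -/
def J2 : GL (Fin 2) F where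
  val := !![0, 1; -1, 0]
  inv := !![0, -1; 1, 0]
  val_inv := by
    ext i j
    fin_cases i <;> fin_cases j <;> simp [Matrix.mul_apply, Fin.sum_univ_two]
  inv_val := by
    ext i j
    fin_cases i <;> fin_cases j <;> simp [Matrix.mul_apply, Fin.sum_univ_two]

theorem J2_sq : ((J2 : GL (Fin 2) F) : Matrix (Fin 2) (Fin 2) F) * ((J2 : GL (Fin 2) F) : Matrix (Fin 2) (Fin 2) F) = -1 := by
  ext i j
  fin_cases i <;> fin_cases j <;> simp [J2, Matrix.mul_apply, Fin.sum_univ_two]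

theorem J2_gram (f₁ : (Fin 2 → F) → (Fin 2 → F) → F) (hf₁ : Cfsg.Geo.IsSymplecticForm f₁) :
    ((J2 : GL (Fin 2) F) : Matrix (Fin 2) (Fin 2) F)ᵀ * Cfsg.Geo.gramMatrix f₁ *
      ((J2 : GL (Fin 2) F) : Matrix (Fin 2) (Fin 2) F) = Cfsg.Geo.gramMatrix f₁ := by
  have h00 : Cfsg.Geo.gramMatrix f₁ 0 0 = 0 := hf₁.alternating _
  have h11 : Cfsg.Geo.gramMatrix f₁ 1 1 = 0 := hf₁.alternating _
  have h10 : Cfsg.Geo.gramMatrix f₁ 1 0 = - Cfsg.Geo.gramMatrix f₁ 0 1 := hf₁.skew _ _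
  ext i j
  fin_cases i <;> fin_cases j <;>
    simp [J2, Matrix.mul_apply, Fin.sum_univ_two, h00, h11, h10]

/-- the positive direction -/
theorem conj_into_tensor_of_two [Fintype F] (hodd : Odd (Fintype.card F)) (d : ℕ) (hd : 2 ≤ d) {b : ℕ}
    (hab : 2 * d = 2 * b) (e : (Fin d ⊕ Fin d) ≃ Fin 2 × Fin b) (P : GL (Fin d ⊕ Fin d) F)
    (f₁ : (Fin 2 → F) → (Fin 2 → F) → F) (f₂ : (Fin b → F) → (Fin b → F) → F)
    (hf₁ : Cfsg.Geo.IsSymplecticForm f₁) (hf₂ : Cfsg.Geo.IsSymmetricForm f₂)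
    (hS : Cfsg.Geo.IsTensorFormStructure id (Cfsg.sympForm d F) f₁ f₂ e P)
    (x : GL (Fin d ⊕ Fin d) F) (hx : x ∈ Cfsg.spGL d F) (z : F)
    (hz : ((x ^ 2 : GL (Fin d ⊕ Fin d) F) : Matrix (Fin d ⊕ Fin d) (Fin d ⊕ Fin d) F) =
      z • (1 : Matrix (Fin d ⊕ Fin d) (Fin d ⊕ Fin d) F)) :
    ∃ g ∈ Cfsg.spGL d F, g⁻¹ * x * g ∈ Cfsg.Geo.tensorProductSubgroup 2 b e P := by
  classical
  have h2F : (2 : F) ≠ 0 := by
    intro h
    obtain ⟨p, hp⟩ := CharP.exists F
    have hpp : p.Prime := by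
      have := CharP.char_is_prime_or_zero F p
      rcases this with h1 | h1
      · exact h1
      · exfalso
        subst h1
        have : CharZero F := CharP.charP_to_charZero F
        exact absurd (by exact_mod_cast h : ((2 : ℕ) : F) = 0) (Nat.cast_ne_zero.mpr (by norm_num))
    have : Fact p.Prime := ⟨hpp⟩
    obtain ⟨k, -, hk⟩ := FiniteField.card F p
    have h1 : ((2 : ℕ) : F) = 0 := by exact_mod_cast h
    rw [CharP.cast_eq_zero_iff F p] at h1
    have hp2 : p = 2 := (Nat.prime_dvd_prime_iff_eq hpp Nat.prime_two).mp h1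
    rw [hk, hp2] at hodd
    exact (Nat.not_even_iff_odd.mpr hodd) (Nat.even_pow.mpr ⟨even_two, k.ne_zero⟩)
  have hmemT : ∀ k : GL (Fin 2 × Fin b) F, k ∈ Cfsg.Geo.kroneckerSubgroup 2 b F →
      tHom e P k ∈ Cfsg.Geo.tensorProductSubgroup 2 b e P := by
    intro k hk
    rw [tensorProductSubgroup_eq_map]
    exact ⟨k, hk, rfl⟩
  rcases Cfsg.Agent.Lib.Helper04.SpT.sq_scalar_of_mem_spGL d (by omega) x hx z hz with rfl | rfl
  · -- `x ^ 2 = 1`
    have hx2 : x ^ 2 = 1 := by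
      apply Units.ext
      rw [hz, one_smul, Units.val_one]
    obtain ⟨k', hk'⟩ := Cfsg.Agent.Lib.Helper89.SpT.even_eigDim_neg_one h2F d x hx hx2
    have hk'b : k' ≤ b := by
      have hle : eigDim (x : Matrix (Fin d ⊕ Fin d) (Fin d ⊕ Fin d) F) (-1) ≤
          Module.finrank F (Fin d ⊕ Fin d → F) := Submodule.finrank_le _
      rw [Module.finrank_fintype_fun_eq_card, Fintype.card_sum, Fintype.card_fin] at hle
      omega
    obtain ⟨B, hBg, hB2, hBe⟩ := Cfsg.Agent.Lib.Helper67.SpT.exists_orth_invol h2F f₂ hf₂ k' hk'b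
    let k : GL (Fin 2 × Fin b) F := kronU 1 B
    have hysp : tHom e P k ∈ Cfsg.spGL d F :=
      Cfsg.Agent.Lib.Helper62.SpT.tHom_kron_mem_spGL e P f₁ f₂ hS 1 B
        (by rw [Units.val_one, Matrix.transpose_one, Matrix.one_mul, Matrix.mul_one]) hBg k rfl
    have hk2 : k ^ 2 = 1 := by
      apply Units.ext
      rw [Units.val_pow_eq_pow_val, kronU_val, kron_pow, Units.val_one, one_pow, ← Units.val_pow_eq_pow_val, hB2,
        Units.val_one, Units.val_one, Matrix.one_kronecker_one]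
    have hy2 : (tHom e P k) ^ 2 = 1 := by rw [← map_pow, hk2, map_one]
    have hye : eigDim ((tHom e P k : GL (Fin d ⊕ Fin d) F) : Matrix (Fin d ⊕ Fin d) (Fin d ⊕ Fin d) F) (-1) =
        k' + k' := by
      rw [← eigDim_tInv e P, tInv_tHom, kronU_val, Units.val_one,
        Cfsg.Agent.Lib.Helper85.SLT.eigDim_one_kron, hBe]
      ring
    obtain ⟨g, hg, hgx⟩ := Cfsg.Agent.Lib.Helper61.SpT.sp_conj_of_invol h2F d x (tHom e P k) hx hysp hx2 hy2
      (by rw [hk', hye])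
    exact ⟨g, hg, by rw [hgx]; exact hmemT k (kronU_mem 1 B)⟩
  · -- `x ^ 2 = -1`
    have hx2 : ((x ^ 2 : GL (Fin d ⊕ Fin d) F) : Matrix (Fin d ⊕ Fin d) (Fin d ⊕ Fin d) F) = -1 := by
      rw [hz, neg_smul, one_smul]
    let k : GL (Fin 2 × Fin b) F := kronU J2 1
    have hysp : tHom e P k ∈ Cfsg.spGL d F :=
      Cfsg.Agent.Lib.Helper62.SpT.tHom_kron_mem_spGL e P f₁ f₂ hS J2 1 (J2_gram f₁ hf₁)
        (by rw [Units.val_one, Matrix.transpose_one, Matrix.one_mul, Matrix.mul_one]) k rfl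
    have hk2 : ((k ^ 2 : GL (Fin 2 × Fin b) F) : Matrix (Fin 2 × Fin b) (Fin 2 × Fin b) F) =
        (-1 : F) • (1 : Matrix (Fin 2 × Fin b) (Fin 2 × Fin b) F) := by
      rw [Units.val_pow_eq_pow_val, kronU_val, kron_pow, Units.val_one, one_pow, pow_two, J2_sq, neg_smul, one_smul]
      ext ⟨i, j⟩ ⟨i', j'⟩
      simp [Matrix.kroneckerMap_apply, Matrix.one_apply, Prod.mk.injEq]
      by_cases h1 : i = i' <;> by_cases h2 : j = j' <;> simp [h1, h2]
    have hy2 : (((tHom e P k) ^ 2 : GL (Fin d ⊕ Fin d) F) : Matrix (Fin d ⊕ Fin d) (Fin d ⊕ Fin d) F) = -1 := by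
      have h1 := (tInv_scalar_iff e P ((tHom e P k) ^ 2) (-1)).mp (by rw [← map_pow, tInv_tHom]; exact hk2)
      rw [h1, neg_smul, one_smul]
    obtain ⟨g, hg, hgx⟩ := Cfsg.Agent.Lib.Helper96.SpT.sp_conj_of_sq_neg_one h2F d x (tHom e P k) hx hysp hx2 hy2
    exact ⟨g, hg, by rw [hgx]; exact hmemT k (kronU_mem J2 1)⟩

end Cfsg.Agent.Lib.Helper86.SpT
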