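import Cfsg.Agent.Lib.Helper82.DefectZero
import Cfsg.Agent.S0134
import Cfsg.Agent.S0154
import Cfsg.Agent.S0169

/-!
# A Steinberg-like character for a non-abelian group with an odd abelian normal subgroup of index 2

Abstract part of the exceptional case `m = 2`, `|F| = 2` of S2548.
-/

set_option autoImplicit false
set_option linter.style.haveILetI false

namespace Cfsg.Agent.Lib.Helper86.StOp

open Cfsg Cfsg.Agent.Lib.Helper82
open scoped commutatorElement

/-- every irreducible character of a group with an abelian normal subgroup of index 2 has degree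
`1` or `2` -/
theorem irr_deg_le_two {X : Type*} [Group X] [Finite X] (K : Subgroup X) [K.Normal]
    (hK : ∀ a ∈ K, ∀ b ∈ K, a * b = b * a) (hidx : K.index = 2) (χ : X → ℂ)
    (hχ : Cfsg.IsIrrCharacter X χ) : χ 1 = 1 ∨ χ 1 = 2 := by
  obtain ⟨n, ρ, hρ, rfl⟩ := hχ
  haveI := hρ
  have hdvd := Cfsg.Agent.S0169.result ρ K hK
  rw [hidx, Module.finrank_fintype_fun_eq_card, Fintype.card_fin] at hdvd
  have h1 : ρ.character 1 = (n : ℂ) := by
    rw [Representation.char_one, Module.finrank_fintype_fun_eq_card, Fintype.card_fin]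
  rw [h1]
  have hn : n = 1 ∨ n = 2 := by
    have := Nat.le_of_dvd (by norm_num) hdvd
    interval_cases n
    · simp at hdvd
    · left; rfl
    · right; rfl
  rcases hn with rfl | rfl
  · left; norm_num
  · right; norm_num

/-- a non-abelian group with an abelian normal subgroup of index 2 has an irreducible character
of degree 2 -/
theorem exists_irr_deg_two {X : Type*} [Group X] [Finite X] (K : Subgroup X) [K.Normal]
    (hK : ∀ a ∈ K, ∀ b ∈ K, a * b = b * a) (hidx : K.index = 2)
    (hna : ∃ a b : X, a * b ≠ b * a) : ∃ χ : X → ℂ, Cfsg.IsIrrCharacter X χ ∧ χ 1 = 2 := by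
  classical
  by_contra hcon
  push Not at hcon
  have hall : ∀ χ : Cfsg.IrrCharacter X, (χ : X → ℂ) 1 = 1 := by
    intro χ
    rcases irr_deg_le_two K hK hidx χ.1 χ.2 with h | h
    · exact h
    · exact absurd h (hcon χ.1 χ.2)
  haveI : Finite (Cfsg.IrrCharacter X) := by
    by_contra hinf
    rw [not_finite_iff_infinite] at hinf
    have h134 := Cfsg.Agent.S0134.result (G := X)
    have hsupp : (Function.support fun χ : Cfsg.IrrCharacter X => (χ : X → ℂ) 1 ^ 2) = Set.univ := by
      ext χ
      simp [hall χ]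
    rw [finsum_of_infinite_support (by rw [hsupp]; exact Set.infinite_univ)] at h134
    have : (Nat.card X : ℂ) ≠ 0 := by exact_mod_cast Nat.card_pos.ne'
    exact this h134.symm
  have h134 := Cfsg.Agent.S0134.result (G := X)
  have hcardIrr : Nat.card (Cfsg.IrrCharacter X) = Nat.card X := by
    have : (∑ᶠ χ : Cfsg.IrrCharacter X, (χ : X → ℂ) 1 ^ 2) = (Nat.card (Cfsg.IrrCharacter X) : ℂ) := by
      have h1 : (fun χ : Cfsg.IrrCharacter X => (χ : X → ℂ) 1 ^ 2) = fun _ => (1 : ℂ) := by
        funext χ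
        rw [hall χ, one_pow]
      rw [h1]
      haveI : Fintype (Cfsg.IrrCharacter X) := Fintype.ofFinite _
      rw [finsum_eq_sum_of_fintype, Finset.sum_const, Finset.card_univ, Nat.card_eq_fintype_card]
      simp
    rw [this] at h134
    exact_mod_cast h134
  have h154 := Cfsg.Agent.S0154.result (G := X)
  have hsub : Nat.card {χ : Cfsg.IrrCharacter X // (χ : X → ℂ) 1 = 1} = Nat.card (Cfsg.IrrCharacter X) :=
    Nat.card_congr (Equiv.subtypeUnivEquiv hall)
  rw [hsub, hcardIrr] at h154
  have hcm := Subgroup.card_mul_index (commutator X)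
  rw [← h154] at hcm
  have hc1 : Nat.card (commutator X) = 1 := by
    have hpos : 0 < Nat.card X := Nat.card_pos
    nlinarith [Nat.eq_of_mul_eq_mul_right hpos (by rw [one_mul]; exact hcm : Nat.card (commutator X) * Nat.card X = 1 * Nat.card X)]
  obtain ⟨a, b, hab⟩ := hna
  have hmem : ⁅a, b⁆ ∈ commutator X := Subgroup.commutator_mem_commutator (Subgroup.mem_top a) (Subgroup.mem_top b)
  have hbot : commutator X = ⊥ := Subgroup.card_eq_one.mp hc1
  rw [hbot, Subgroup.mem_bot, commutatorElement_eq_one_iff_mul_comm] at hmem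
  exact hab hmem

/-- **Lemma A**: a non-abelian finite group with an abelian normal subgroup of odd order and
index 2 has an irreducible character of degree 2 (= the order of a Sylow 2-subgroup) vanishing on
the non-identity elements of every Sylow 2-subgroup. -/
theorem exists_steinberg_of_index_two {X : Type*} [Group X] [Finite X] (K : Subgroup X) [K.Normal]
    (hK : ∀ a ∈ K, ∀ b ∈ K, a * b = b * a) (hidx : K.index = 2) (hodd : Odd (Nat.card K))
    (hna : ∃ a b : X, a * b ≠ b * a) :
    ∃ χ : X → ℂ, Cfsg.IsIrrCharacter X χ ∧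
      ∀ Q : Sylow 2 X, χ 1 = Nat.card Q ∧ ∀ x : X, x ∈ Q → x ≠ 1 → χ x = 0 := by
  classical
  haveI : Fintype X := Fintype.ofFinite _
  obtain ⟨χ, hχ, hχ1⟩ := exists_irr_deg_two K hK hidx hna
  have hcard : Nat.card X = Nat.card K * 2 := by
    rw [← hidx]; exact (Subgroup.card_mul_index K).symm
  have hfac : (Nat.card X).factorization 2 = 1 := by
    have h0 : (Nat.card K).factorization 2 = 0 :=
      Nat.factorization_eq_zero_of_not_dvd (fun h => (Nat.not_even_iff_odd.mpr hodd) (even_iff_two_dvd.mpr h))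
    rw [hcard, Nat.factorization_mul Nat.card_pos.ne' (by norm_num), Finsupp.add_apply, h0,
      Nat.Prime.factorization_self Nat.prime_two]
  refine ⟨χ, hχ, ?_⟩
  intro Q
  have hcardQ : Nat.card Q = 2 := by
    rw [Sylow.card_eq_multiplicity, hfac, pow_one]
  refine ⟨by rw [hχ1, hcardQ]; norm_num, ?_⟩
  intro x hx hx1
  obtain ⟨M, hM⟩ := exists_isPModular 2 Nat.prime_two
  have hdeg : Cfsg.charDegree χ = 2 := by
    unfold Cfsg.charDegree
    rw [hχ1]
    simp
  have hnd : ¬ 2 ∣ Nat.card X / Cfsg.charDegree χ := by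
    rw [hdeg, hcard, Nat.mul_div_cancel _ (by norm_num)]
    exact fun h => (Nat.not_even_iff_odd.mpr hodd) (even_iff_two_dvd.mpr h)
  have hblock := blockOf_eq_singleton_of_not_dvd hM ⟨χ, hχ⟩ hnd
  have hox : 2 ∣ orderOf x := by
    obtain ⟨k, hk⟩ := (IsPGroup.iff_orderOf.mp Q.isPGroup') ⟨x, hx⟩
    rw [Subgroup.orderOf_mk] at hk
    rw [hk]
    apply dvd_pow_self
    rintro rfl
    rw [pow_zero, orderOf_eq_one_iff] at hk
    exact hx1 hk
  exact eq_zero_of_blockOf_eq_singleton hM ⟨χ, hχ⟩ hblock x hox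

end Cfsg.Agent.Lib.Helper86.StOp
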