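import Cfsg.Agent.Lib.Helper51.O4b

/-!
# The combinatorics of `S₃ × S₃` with the swap, inside `SL₂(2) × SL₂(2)`

Decidable facts used for the structure of the commutator subgroup of `O⁺₄(2)`
(exceptional case `m = 2`, `|F| = 2` of S2548).
-/

set_option autoImplicit false

namespace Cfsg.Agent.Lib.Helper86.StOp

open Cfsg.Agent.Lib.Helper51

/-- `SL₂(2) × SL₂(2)` -/
abbrev SS : Type := SL2 × SL2

/-- inverse transpose -/
def th (g : SL2) : SL2 := (g.transpose)⁻¹

/-- the swap automorphism induced by the transposition of `O⁺₄(2)` -/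
def sg (u : SS) : SS := (th u.2, th u.1)

/-- both components have the same sign -/
def inD (u : SS) : Prop := (u.1 ^ 3 = 1 ↔ u.2 ^ 3 = 1)

instance : DecidablePred inD := fun u => by unfold inD; infer_instance

/-- both components are even -/
def inK (u : SS) : Prop := u.1 ^ 3 = 1 ∧ u.2 ^ 3 = 1

instance : DecidablePred inK := fun u => by unfold inK; infer_instance

set_option maxRecDepth 100000 in
theorem inD_mul : ∀ u v : SS, inD u → inD v → inD (u * v) := by decide +kernel

theorem inD_one : inD 1 := by decide +kernel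

theorem inD_inv : ∀ u : SS, inD u → inD u⁻¹ := by decide +kernel

set_option maxRecDepth 100000 in
theorem inK_mul : ∀ u v : SS, inK u → inK v → inK (u * v) := by decide +kernel

theorem inK_one : inK 1 := by decide +kernel

theorem inK_inv : ∀ u : SS, inK u → inK u⁻¹ := by decide +kernel

theorem inK_inD : ∀ u : SS, inK u → inD u := by decide +kernel

/-- the subgroup of index 2 of `S₃ × S₃` -/
def D0 : Subgroup SS where
  carrier := {u | inD u}
  mul_mem' := fun {u v} hu hv => inD_mul u v hu hv
  one_mem' := inD_one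
  inv_mem' := fun {u} hu => inD_inv u hu

/-- `A₃ × A₃` -/
def K0 : Subgroup SS where
  carrier := {u | inK u}
  mul_mem' := fun {u v} hu hv => inK_mul u v hu hv
  one_mem' := inK_one
  inv_mem' := fun {u} hu => inK_inv u hu

theorem mem_D0 (u : SS) : u ∈ D0 ↔ inD u := Iff.rfl

theorem mem_K0 (u : SS) : u ∈ K0 ↔ inK u := Iff.rfl

theorem K0_le_D0 : K0 ≤ D0 := fun u hu => inK_inD u hu

set_option maxRecDepth 100000 in
theorem D0_conj : ∀ u v : SS, inD v → inD (u * v * u⁻¹) := by decide +kernel

theorem inD_sg : ∀ w : SS, inD w → inD (sg w) := by decide +kernel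

set_option maxRecDepth 100000 in
theorem k_comm : ∀ e : SL2, e ^ 3 = 1 → ∃ a b : SL2, e = a * b * a⁻¹ * b⁻¹ := by decide +kernel

set_option maxRecDepth 100000 in
theorem center_D0 : ∀ u : SS, inD u → (∀ v : SS, inD v → u * v = v * u) → u = 1 := by
  decide +kernel

set_option maxRecDepth 100000 in
theorem K0_comm : ∀ u v : SS, inK u → inK v → u * v = v * u := by decide +kernel

set_option maxRecDepth 100000 in
theorem K0_conj : ∀ u v : SS, inD u → inK v → inK (u * v * u⁻¹) := by decide +kernel

theorem th_th : ∀ g : SL2, th (th g) = g := by decide +kernel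

theorem th_mul : ∀ g h : SL2, th (g * h) = th g * th h := by decide +kernel

theorem th_one : th 1 = 1 := by decide +kernel

/-- an involution of `SL₂(2)` -/
def s0 : SL2 := ⟨!![0, 1; 1, 0], by decide⟩

theorem s0_not : ¬ inK ((s0, 1) * sg ((s0, 1) : SS)⁻¹) := by decide +kernel

theorem D0_nonabelian : ∃ u v : SS, inD u ∧ inD v ∧ u * v ≠ v * u := by decide +kernel

theorem card_D0 : Fintype.card {u : SS // inD u} = 18 := by decide +kernel

theorem card_K0 : Fintype.card {u : SS // inK u} = 9 := by decide +kernel

theorem sg_ne : ∀ w : SS, ∃ u : SS, sg u ≠ w * u * w⁻¹ := by decide +kernel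

end Cfsg.Agent.Lib.Helper86.StOp
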