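import Cfsg.Agent.Lib.Helper86.StOp22B
import Cfsg.Agent.S2566

/-!
# The commutator subgroup of `O⁺₄(2)` (over `ZMod 2`) is the 18-element group `D0`
-/

set_option autoImplicit false
set_option linter.style.haveILetI false
set_option linter.deprecated false

namespace Cfsg.Agent.Lib.Helper86.StOp

open Cfsg.Agent.Lib.Helper51 Matrix
open scoped commutatorElement

theorem gT_mul_self : gT * gT = 1 := by
  apply Subtype.ext
  show Xi (transL (ZMod 2)) * Xi (transL (ZMod 2)) = 1
  rw [← map_mul]
  have h : transL (ZMod 2) * transL (ZMod 2) = 1 := by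
    apply LinearEquiv.ext
    intro M
    show (Mᵀ)ᵀ = M
    exact Matrix.transpose_transpose M
  rw [h, map_one]

theorem gT_inv : gT⁻¹ = gT := inv_eq_of_mul_eq_one_right gT_mul_self

theorem conj_phiA' (g : SL2) : gT * phiA g * gT = phiB (th g) := by
  have h := conj_phiA g
  rw [gT_inv] at h
  exact h

theorem conj_phiB' (h : SL2) : gT * phiB h * gT = phiA (th h) := by
  have h1 := conj_phiA' (th h)
  rw [th_th] at h1
  rw [← h1]
  calc gT * (gT * phiA (th h) * gT) * gT = (gT * gT) * phiA (th h) * (gT * gT) := by group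
    _ = phiA (th h) := by rw [gT_mul_self, one_mul, mul_one]

/-- the embedding of `SL₂(2) × SL₂(2)` -/
noncomputable def psi : SS →* G4 :=
  MonoidHom.noncommCoprod phiA phiB (fun g h => phiA_phiB_comm g h)

theorem psi_apply (u : SS) : psi u = phiA u.1 * phiB u.2 :=
  MonoidHom.noncommCoprod_apply _ _ _ u

theorem psi_injective : Function.Injective psi := by
  have hdisj : Disjoint phiA.range phiB.range := by
    rw [Subgroup.disjoint_def]
    rintro x ⟨g, rfl⟩ ⟨h, hh⟩
    obtain ⟨hg, -⟩ := phiA_eq_phiB g h hh.symm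
    rw [hg, map_one]
  exact (MonoidHom.noncommCoprod_injective _ _ _).2 ⟨phiA_injective, phiB_injective, hdisj⟩

theorem conj_psi (u : SS) : gT * psi u * gT = psi (sg u) := by
  rw [psi_apply, psi_apply]
  show gT * (phiA u.1 * phiB u.2) * gT = phiA (th u.2) * phiB (th u.1)
  rw [← conj_phiA', ← conj_phiB']
  calc gT * (phiA u.1 * phiB u.2) * gT
      = gT * phiA u.1 * (gT * gT) * phiB u.2 * gT := by rw [gT_mul_self]; group
    _ = (gT * phiA u.1 * gT) * (gT * phiB u.2 * gT) := by group
    _ = (gT * phiB u.2 * gT) * (gT * phiA u.1 * gT) := by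
        rw [conj_phiA', conj_phiB', phiA_phiB_comm]

theorem gT_psi (w : SS) : gT * psi w = psi (sg w) * gT := by
  rw [← conj_psi]
  calc gT * psi w = gT * psi w * 1 := by rw [mul_one]
    _ = gT * psi w * (gT * gT) := by rw [gT_mul_self]
    _ = gT * psi w * gT * gT := by group

theorem card_range_psi : Nat.card psi.range = 36 := by
  rw [← Nat.card_congr (MonoidHom.ofInjective psi_injective).toEquiv, Nat.card_prod,
    Nat.card_eq_fintype_card]
  decide

theorem card_G4 : Nat.card G4 = 72 := Cfsg.Agent.S2566.result.1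

theorem index_range_psi : psi.range.index = 2 := by
  have h := Subgroup.card_mul_index psi.range
  rw [card_range_psi, card_G4] at h
  omega

theorem gT_not_mem : gT ∉ psi.range := by
  rintro ⟨w, hw⟩
  obtain ⟨u, hu⟩ := sg_ne w
  apply hu
  apply psi_injective
  rw [← conj_psi, ← hw, map_mul, map_mul, map_inv]
  have hinv : (psi w)⁻¹ = psi w := by rw [hw]; exact gT_inv
  rw [hinv]

theorem exists_form (x : G4) : (∃ u, x = psi u) ∨ ∃ u, x = psi u * gT := by
  by_cases hx : x ∈ psi.range
  · obtain ⟨u, hu⟩ := hx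
    exact Or.inl ⟨u, hu.symm⟩
  · right
    have h := (Subgroup.mul_mem_iff_of_index_two index_range_psi (a := x) (b := gT)).2
      (iff_of_false hx gT_not_mem)
    obtain ⟨u, hu⟩ := h
    refine ⟨u, ?_⟩
    rw [hu]
    calc x = x * 1 := (mul_one x).symm
      _ = x * (gT * gT) := by rw [gT_mul_self]
      _ = x * gT * gT := by group

/-- the image of `D0` -/
noncomputable def DD : Subgroup G4 := D0.map psi

/-- the image of `K0` -/
noncomputable def KK : Subgroup G4 := K0.map psi

theorem psi_mem_DD {u : SS} (hu : inD u) : psi u ∈ DD := Subgroup.mem_map_of_mem psi hu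

theorem phiA_mem_commutator {e : SL2} (he : e ^ 3 = 1) : phiA e ∈ commutator G4 := by
  obtain ⟨a, b, rfl⟩ := k_comm e he
  have : phiA (a * b * a⁻¹ * b⁻¹) = ⁅phiA a, phiA b⁆ := by
    rw [commutatorElement_def, map_mul, map_mul, map_mul, map_inv, map_inv]
  rw [this, commutator_def]
  exact Subgroup.commutator_mem_commutator (Subgroup.mem_top _) (Subgroup.mem_top _)

theorem phiB_mem_commutator {e : SL2} (he : e ^ 3 = 1) : phiB e ∈ commutator G4 := by
  obtain ⟨a, b, rfl⟩ := k_comm e he
  have : phiB (a * b * a⁻¹ * b⁻¹) = ⁅phiB a, phiB b⁆ := by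
    rw [commutatorElement_def, map_mul, map_mul, map_mul, map_inv, map_inv]
  rw [this, commutator_def]
  exact Subgroup.commutator_mem_commutator (Subgroup.mem_top _) (Subgroup.mem_top _)

theorem KK_le_commutator : KK ≤ commutator G4 := by
  rintro x ⟨u, hu, rfl⟩
  rw [psi_apply]
  exact mul_mem (phiA_mem_commutator hu.1) (phiB_mem_commutator hu.2)

/-- an element of the commutator subgroup outside `KK` -/
theorem exists_mem_not_mem : ∃ x ∈ commutator G4, x ∉ KK := by
  refine ⟨⁅psi ((s0, 1) : SS), gT⁆, ?_, ?_⟩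
  · rw [commutator_def]
    exact Subgroup.commutator_mem_commutator (Subgroup.mem_top _) (Subgroup.mem_top _)
  · have h : ⁅psi ((s0, 1) : SS), gT⁆ = psi (((s0, 1) : SS) * sg ((s0, 1) : SS)⁻¹) := by
      rw [commutatorElement_def, map_mul, ← conj_psi, map_inv, gT_inv]
      group
    rw [h]
    rintro ⟨w, hw, hww⟩
    have := psi_injective hww
    rw [this] at hw
    exact s0_not hw

theorem card_D0' : Nat.card D0 = 18 := by
  rw [Nat.card_congr (Equiv.subtypeEquivRight (fun u => (mem_D0 u))), Nat.card_eq_fintype_card]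
  exact card_D0

theorem card_K0' : Nat.card K0 = 9 := by
  rw [Nat.card_congr (Equiv.subtypeEquivRight (fun u => (mem_K0 u))), Nat.card_eq_fintype_card]
  exact card_K0

theorem card_DD : Nat.card DD = 18 := by
  rw [DD, Subgroup.card_map_of_injective psi_injective, card_D0']

theorem card_KK : Nat.card KK = 9 := by
  rw [KK, Subgroup.card_map_of_injective psi_injective, card_K0']

theorem DD_normal : DD.Normal := by
  constructor
  intro d hd x
  obtain ⟨w, hw, rfl⟩ := hd
  rcases exists_form x with ⟨u, rfl⟩ | ⟨u, rfl⟩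
  · rw [← map_inv, ← map_mul, ← map_mul]
    exact psi_mem_DD (D0_conj u w hw)
  · have h : psi u * gT * psi w * (psi u * gT)⁻¹ = psi (u * sg w * u⁻¹) := by
      rw [_root_.mul_inv_rev, map_mul, map_mul, map_inv]
      calc psi u * gT * psi w * (gT⁻¹ * (psi u)⁻¹)
          = psi u * (gT * psi w) * gT⁻¹ * (psi u)⁻¹ := by group
        _ = psi u * (psi (sg w) * gT) * gT⁻¹ * (psi u)⁻¹ := by rw [gT_psi]
        _ = psi u * psi (sg w) * (psi u)⁻¹ := by group
    rw [h]
    exact psi_mem_DD (D0_conj u (sg w) (inD_sg w hw))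

theorem index_DD : DD.index = 4 := by
  have h := Subgroup.card_mul_index DD
  rw [card_DD, card_G4] at h
  omega

theorem commutator_le_DD : commutator G4 ≤ DD := by
  haveI := DD_normal
  haveI : Fact (Nat.Prime 2) := ⟨Nat.prime_two⟩
  have hcard : Nat.card (G4 ⧸ DD) = 2 ^ 2 := by
    rw [← Subgroup.index_eq_card, index_DD]
    norm_num
  have hcomm := IsPGroup.commutative_of_card_eq_prime_sq hcard
  rw [commutator_def, Subgroup.commutator_le]
  intro x _ y _
  rw [← QuotientGroup.eq_one_iff (N := DD)]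
  have h1 : ((⁅x, y⁆ : G4) : G4 ⧸ DD) = ⁅(x : G4 ⧸ DD), (y : G4 ⧸ DD)⁆ :=
    map_commutatorElement (QuotientGroup.mk' DD) x y
  rw [h1, commutatorElement_eq_one_iff_mul_comm]
  exact hcomm _ _

theorem commutator_eq_DD : commutator G4 = DD := by
  have h1 : Nat.card KK ∣ Nat.card (commutator G4) := Subgroup.card_dvd_of_le KK_le_commutator
  have h2 : Nat.card (commutator G4) ∣ Nat.card DD := Subgroup.card_dvd_of_le commutator_le_DD
  rw [card_KK] at h1
  rw [card_DD] at h2
  have h3 : Nat.card (commutator G4) ≠ 9 := by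
    intro h9
    have : KK = commutator G4 := by
      apply Subgroup.eq_of_le_of_card_ge KK_le_commutator
      rw [h9, card_KK]
    obtain ⟨x, hx, hx'⟩ := exists_mem_not_mem
    rw [this] at hx'
    exact hx' hx
  have h4 : Nat.card (commutator G4) = 18 := by
    have hle := Nat.le_of_dvd (by norm_num) h2
    obtain ⟨k, hk⟩ := h1
    have : k = 1 ∨ k = 2 := by
      have : k ≤ 2 := by omega
      have : k ≠ 0 := by
        rintro rfl
        rw [mul_zero] at hk
        exact Nat.card_pos.ne' hk
      omega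
    rcases this with rfl | rfl
    · exact absurd hk h3
    · exact hk
  apply Subgroup.eq_of_le_of_card_ge commutator_le_DD
  rw [h4, card_DD]

/-- the commutator subgroup of `O⁺₄(2)` is isomorphic to `D0` -/
noncomputable def commEquivD0 : ↥(commutator G4) ≃* ↥D0 :=
  (MulEquiv.subgroupCongr commutator_eq_DD).trans (D0.equivMapOfInjective psi psi_injective).symm

end Cfsg.Agent.Lib.Helper86.StOp
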