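import Mathlib
import Cfsg.Prelude.Def_Classical
import Cfsg.Agent.Lib.Helper50.IsoTransport

/-!
# Change of field for the isometry group of the plus form
-/

set_option autoImplicit false

namespace Cfsg.Agent.Lib.Helper86.StOp

open Matrix

variable {F F' : Type*} [Field F] [Field F'] {ι : Type} [Fintype ι] [DecidableEq ι]

/-- `GL` over isomorphic fields -/
def glCongr (e : F ≃+* F') : GL ι F ≃* GL ι F' :=
  Units.mapEquiv (RingEquiv.mapMatrix e).toMulEquiv

theorem glCongr_val (e : F ≃+* F') (g : GL ι F) :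
    ((glCongr e g : GL ι F') : Matrix ι ι F') = (g : Matrix ι ι F).map e := rfl

theorem glCongr_symm_val (e : F ≃+* F') (g : GL ι F') :
    (((glCongr e).symm g : GL ι F) : Matrix ι ι F) = (g : Matrix ι ι F').map e.symm := rfl

theorem mem_isometryGroup_iff' (Q : (ι → F) → F) (g : GL ι F) :
    g ∈ Cfsg.isometryGroup F Q ↔ ∀ u : ι → F, Q ((g : Matrix ι ι F) *ᵥ u) = Q u := by
  constructor
  · intro h u
    exact h u u
  · intro h u _
    exact h u

theorem map_mulVec_comp (e : F ≃+* F') (M : Matrix ι ι F) (v : ι → F) :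
    (M.map e) *ᵥ (fun i => e (v i)) = fun i => e ((M *ᵥ v) i) := by
  funext i
  exact (RingHom.map_mulVec e.toRingHom M v i).symm

theorem glCongr_mem (e : F ≃+* F') (Q : (ι → F) → F) (Q' : (ι → F') → F')
    (hQ : ∀ w : ι → F, Q' (fun i => e (w i)) = e (Q w)) (g : GL ι F)
    (hg : g ∈ Cfsg.isometryGroup F Q) : glCongr e g ∈ Cfsg.isometryGroup F' Q' := by
  rw [mem_isometryGroup_iff'] at hg ⊢
  intro u
  have hu : u = fun i => e (e.symm (u i)) := by
    funext i
    simp
  rw [glCongr_val, hu, map_mulVec_comp, hQ, hQ, hg]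

/-- the isometry groups over isomorphic fields are isomorphic -/
def isoField (e : F ≃+* F') (Q : (ι → F) → F) (Q' : (ι → F') → F')
    (hQ : ∀ w : ι → F, Q' (fun i => e (w i)) = e (Q w)) :
    ↥(Cfsg.isometryGroup F Q) ≃* ↥(Cfsg.isometryGroup F' Q') where
  toFun g := ⟨glCongr e g.1, glCongr_mem e Q Q' hQ g.1 g.2⟩
  invFun g := ⟨(glCongr e).symm g.1, by
    have hQ' : ∀ w : ι → F', Q (fun i => e.symm (w i)) = e.symm (Q' w) := by
      intro w
      apply e.injective
      rw [← hQ]
      simp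
    exact glCongr_mem e.symm Q' Q hQ' g.1 g.2⟩
  left_inv g := by
    apply Subtype.ext
    exact (glCongr e).symm_apply_apply g.1
  right_inv g := by
    apply Subtype.ext
    exact (glCongr e).apply_symm_apply g.1
  map_mul' g h := by
    apply Subtype.ext
    exact map_mul (glCongr e) g.1 h.1

theorem quadFormPlus_map (e : F ≃+* F') (m : ℕ) (w : Fin m ⊕ Fin m → F) :
    Cfsg.quadFormPlus m F' (fun i => e (w i)) = e (Cfsg.quadFormPlus m F w) := by
  unfold Cfsg.quadFormPlus
  rw [map_sum]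
  apply Finset.sum_congr rfl
  intro i _
  rw [map_mul]

/-- `Ω⁺_{2m}` over isomorphic fields -/
noncomputable def omegaField (e : F ≃+* F') (m : ℕ) :
    ↥(Cfsg.Omega F (Cfsg.quadFormPlus m F)) ≃* ↥(Cfsg.Omega F' (Cfsg.quadFormPlus m F')) :=
  Cfsg.Agent.Lib.Helper50.commEquiv
    (isoField e (Cfsg.quadFormPlus m F) (Cfsg.quadFormPlus m F') (quadFormPlus_map e m))

end Cfsg.Agent.Lib.Helper86.StOp
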