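import Cfsg.Agent.Lib.Helper86.StOp22A
import Cfsg.Agent.Lib.Helper86.StOp22C
import Cfsg.Agent.Lib.Helper86.StOp22D
import Cfsg.Agent.Lib.Helper85.StSUA5

/-!
# K-StOp pack (S2548), keystone EX2 and the whole exceptional case `m = 2`, `|F| = 2`

* `omegaEquivD0 hF : ↥(Ω⁺₄(F)) ≃* ↥D0` for `|F| = 2`, where `D0` is the decidable 18-element subgroup
  `{(a, b) | sgn a = sgn b}` of `SL₂(ZMod 2) × SL₂(ZMod 2)`;
* `center_Omega_eq_bot` (**K-StOp-EX2**);
* `steinberg_two_two`: the Steinberg-like character of `PΩ⁺₄(F)`, `|F| = 2`, directly.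
-/

set_option autoImplicit false
set_option linter.unusedSectionVars false
set_option linter.style.haveILetI false

namespace Cfsg.Agent.Lib.Helper86.StOp

open Cfsg Cfsg.Agent.Lib.Helper51

variable {F : Type*} [Field F]

/-- a field with two elements is `ZMod 2` -/
noncomputable def fieldEquiv [Fintype F] (hF : Fintype.card F = 2) : F ≃+* ZMod 2 :=
  (ZMod.ringEquivOfPrime F Nat.prime_two hF).symm

/-- `Ω⁺₄(F) ≃* D0` for `|F| = 2` -/
noncomputable def omegaEquivD0 [Fintype F] (hF : Fintype.card F = 2) :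
    ↥(Cfsg.Omega F (Cfsg.quadFormPlus 2 F)) ≃* ↥D0 :=
  (omegaField (fieldEquiv hF) 2).trans commEquivD0

theorem center_D0_eq_bot : Subgroup.center ↥D0 = ⊥ := by
  rw [eq_bot_iff]
  intro z hz
  rw [Subgroup.mem_bot]
  apply Subtype.ext
  apply center_D0 z.1 z.2
  intro v hv
  have h := Subgroup.mem_center_iff.mp hz ⟨v, hv⟩
  exact (congrArg Subtype.val h).symm

/-- **K-StOp-EX2** -/
theorem center_Omega_eq_bot [Fintype F] (hF : Fintype.card F = 2) :
    Subgroup.center ↥(Cfsg.Omega F (Cfsg.quadFormPlus 2 F)) = ⊥ := by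
  have h := Cfsg.Agent.Lib.Helper85.StSU.map_center_mulEquiv (omegaEquivD0 hF)
  rw [center_D0_eq_bot] at h
  rw [eq_bot_iff]
  intro z hz
  have hz' : (omegaEquivD0 hF) z ∈ (⊥ : Subgroup ↥D0) := by
    rw [← h]
    exact Subgroup.mem_map_of_mem _ hz
  rw [Subgroup.mem_bot] at hz' ⊢
  exact (omegaEquivD0 hF).injective (hz'.trans (map_one _).symm)

/-- the conclusion transports along an isomorphism -/
theorem steinberg_transport_raw {X X' : Type*} [Group X] [Group X'] [Finite X] (f : X ≃* X')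
    (p : ℕ) [Fact p.Prime]
    (h : ∃ χ : X' → ℂ, Cfsg.IsIrrCharacter X' χ ∧
      ∀ Q : Sylow p X', χ 1 = Nat.card Q ∧ ∀ x : X', x ∈ Q → x ≠ 1 → χ x = 0) :
    ∃ χ : X → ℂ, Cfsg.IsIrrCharacter X χ ∧
      ∀ Q : Sylow p X, χ 1 = Nat.card Q ∧ ∀ x : X, x ∈ Q → x ≠ 1 → χ x = 0 := by
  haveI : Finite X' := Finite.of_equiv X f.toEquiv
  obtain ⟨χ', hirr, hχ'⟩ := h
  have hfs : Function.Surjective (f.toMonoidHom : X →* X') := f.surjective
  refine ⟨fun x => χ' (f.toMonoidHom x),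
    Cfsg.Agent.Lib.Helper33.isIrrCharacter_comp_of_surjective f.toMonoidHom hfs hirr, ?_⟩
  intro Q
  have hQ' := hχ' (Q.mapSurjective hfs)
  have hcard : Nat.card ↥(Q.mapSurjective hfs) = Nat.card ↥Q := by
    show Nat.card ↥((Q : Subgroup X).map f.toMonoidHom) = Nat.card ↥(Q : Subgroup X)
    exact Subgroup.card_map_of_injective f.injective
  refine ⟨?_, ?_⟩
  · show χ' (f.toMonoidHom 1) = _
    rw [map_one, hQ'.1]
    exact congrArg _ hcard
  · intro x hx hx1
    apply hQ'.2 (f.toMonoidHom x)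
    · exact Subgroup.mem_map_of_mem _ hx
    · intro h1
      apply hx1
      exact f.injective (h1.trans (map_one f).symm)

/-- the Steinberg-like character of `D0` -/
theorem steinberg_D0 : ∃ χ : ↥D0 → ℂ, Cfsg.IsIrrCharacter ↥D0 χ ∧
    ∀ Q : Sylow 2 ↥D0, χ 1 = Nat.card Q ∧ ∀ x : ↥D0, x ∈ Q → x ≠ 1 → χ x = 0 := by
  haveI : (K0.subgroupOf D0).Normal := by
    constructor
    intro v hv u
    exact K0_conj u.1 v.1 u.2 hv
  apply exists_steinberg_of_index_two (K0.subgroupOf D0)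
  · intro a ha b hb
    apply Subtype.ext
    exact K0_comm a.1 b.1 ha hb
  · have hc : Nat.card (K0.subgroupOf D0) = 9 := by
      rw [Nat.card_congr (Subgroup.subgroupOfEquivOfLe K0_le_D0).toEquiv, card_K0']
    have h := Subgroup.card_mul_index (K0.subgroupOf D0)
    rw [hc, card_D0'] at h
    omega
  · rw [Nat.card_congr (Subgroup.subgroupOfEquivOfLe K0_le_D0).toEquiv, card_K0']
    decide
  · obtain ⟨u, v, hu, hv, huv⟩ := D0_nonabelian
    refine ⟨⟨u, hu⟩, ⟨v, hv⟩, ?_⟩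
    intro h
    exact huv (congrArg Subtype.val h)

/-- `PΩ⁺₄(F) ≃* D0` for `|F| = 2` -/
noncomputable def pomegaEquivD0 [Fintype F] (hF : Fintype.card F = 2) :
    Cfsg.POmega F (Cfsg.quadFormPlus 2 F) ≃* ↥D0 :=
  (QuotientGroup.quotientMulEquivOfEq (center_Omega_eq_bot hF)).trans
    (QuotientGroup.quotientBot.trans (omegaEquivD0 hF))

/-- **the exceptional case of S2548**: `m = 2`, `|F| = 2` -/
theorem steinberg_two_two [Fintype F] (hF : Fintype.card F = 2) :
    ∃ χ : Cfsg.POmega F (Cfsg.quadFormPlus 2 F) → ℂ,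
      Cfsg.IsIrrCharacter (Cfsg.POmega F (Cfsg.quadFormPlus 2 F)) χ ∧
      ∀ P : Sylow 2 (Cfsg.POmega F (Cfsg.quadFormPlus 2 F)), χ 1 = Nat.card P ∧
        ∀ x : Cfsg.POmega F (Cfsg.quadFormPlus 2 F), x ∈ P → x ≠ 1 → χ x = 0 := by
  haveI : Fact (Nat.Prime 2) := ⟨Nat.prime_two⟩
  exact steinberg_transport_raw (pomegaEquivD0 hF) 2 steinberg_D0

end Cfsg.Agent.Lib.Helper86.StOp
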