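import Mathlib
import Cfsg.Agent.Lib.Helper40.T1904Defs

/-!
# K-S1904-6c (helper86): no nonabelian group of order 16 with centre of order 2 and `X / Z(X)` elementary abelian
-/

set_option autoImplicit false

namespace Cfsg.Agent.Lib.Helper86.T1904

open Cfsg.Agent.Lib.Helper40.T1904
open scoped commutatorElement

universe u_1

variable {X : Type u_1} [Group X]

/-- the commutator with a fixed element, as a homomorphism to the centre (commutators central) -/
def cfHom (hc : ∀ x y : X, ⁅x, y⁆ ∈ Subgroup.center X) (x : X) : X →* Subgroup.center X where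
  toFun y := ⟨⁅y, x⁆, hc y x⟩
  map_one' := by
    apply Subtype.ext
    simp
  map_mul' a b := by
    apply Subtype.ext
    show ⁅a * b, x⁆ = ⁅a, x⁆ * ⁅b, x⁆
    have hb : ∀ g : X, g * ⁅b, x⁆ = ⁅b, x⁆ * g :=
      fun g => Subgroup.mem_center_iff.mp (hc b x) g
    calc ⁅a * b, x⁆ = a * ⁅b, x⁆ * (x * a⁻¹ * x⁻¹) := by
          simp only [commutatorElement_def]; group
      _ = ⁅b, x⁆ * a * (x * a⁻¹ * x⁻¹) := by rw [hb a]
      _ = ⁅b, x⁆ * ⁅a, x⁆ := by simp only [commutatorElement_def]; group
      _ = ⁅a, x⁆ * ⁅b, x⁆ := (hb _).symm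

theorem ker_cfHom (hc : ∀ x y : X, ⁅x, y⁆ ∈ Subgroup.center X) (x : X) :
    (cfHom hc x).ker = Subgroup.centralizer ({x} : Set X) := by
  ext y
  rw [MonoidHom.mem_ker, Subgroup.mem_centralizer_iff]
  constructor
  · intro h k hk
    rw [Set.mem_singleton_iff] at hk
    subst hk
    have h2 : ⁅y, k⁆ = 1 := congrArg Subtype.val h
    exact (commutatorElement_eq_one_iff_mul_comm.mp h2).symm
  · intro h
    apply Subtype.ext
    show ⁅y, x⁆ = 1
    exact commutatorElement_eq_one_iff_mul_comm.mpr (h x rfl).symm

theorem index_centralizer [Finite X] (hc : ∀ x y : X, ⁅x, y⁆ ∈ Subgroup.center X)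
    (hZ : Nat.card (Subgroup.center X) = 2) {x : X} (hx : x ∉ Subgroup.center X) :
    (Subgroup.centralizer ({x} : Set X)).index = 2 := by
  rw [← ker_cfHom hc x, Subgroup.index_ker]
  have hdvd : Nat.card (cfHom hc x).range ∣ 2 := hZ ▸ Subgroup.card_subgroup_dvd_card _
  have hne : Nat.card (cfHom hc x).range ≠ 1 := by
    intro h1
    have hbot : (cfHom hc x).range = ⊥ := Subgroup.card_eq_one.mp h1
    apply hx
    rw [Subgroup.mem_center_iff]
    intro g
    have hmem : cfHom hc x g ∈ (cfHom hc x).range := ⟨g, rfl⟩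
    rw [hbot, Subgroup.mem_bot] at hmem
    have h2 : ⁅g, x⁆ = 1 := congrArg Subtype.val hmem
    exact commutatorElement_eq_one_iff_mul_comm.mp h2
  have hle := Nat.le_of_dvd (by norm_num) hdvd
  have hpos : 0 < Nat.card (cfHom hc x).range := Nat.card_pos
  omega

theorem card_centralizer [Finite X] (hc : ∀ x y : X, ⁅x, y⁆ ∈ Subgroup.center X)
    (hZ : Nat.card (Subgroup.center X) = 2) (h16 : Nat.card X = 16) {x : X}
    (hx : x ∉ Subgroup.center X) : Nat.card (Subgroup.centralizer ({x} : Set X)) = 8 := by
  have h := Subgroup.card_mul_index (Subgroup.centralizer ({x} : Set X))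
  rw [index_centralizer hc hZ hx, h16] at h
  omega

/-- a subgroup containing the centre `{1, z}` and two elements `x, y` independent modulo the
centre has at least 8 elements -/
theorem eight_le_card [Finite X] {z : X} (hZ2 : ∀ c ∈ Subgroup.center X, c = 1 ∨ c = z)
    (hzZ : z ∈ Subgroup.center X) (hz1 : z ≠ 1) (h16 : Nat.card X = 16) (H : Subgroup X)
    (hZH : Subgroup.center X ≤ H) {x y : X} (hxH : x ∈ H) (hyH : y ∈ H)
    (hx : x ∉ Subgroup.center X) (hy : y ∉ Subgroup.center X)
    (hxy : x⁻¹ * y ∉ Subgroup.center X) : 8 ≤ Nat.card H := by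
  classical
  have h1Z : (1 : X) ∈ Subgroup.center X := one_mem _
  have e1 : (1 : X) ≠ z := fun h => hz1 h.symm
  have e2 : (1 : X) ≠ x := fun h => hx (h ▸ h1Z)
  have e3 : (1 : X) ≠ x * z := fun h => hx (by
    have : x = z⁻¹ := eq_inv_of_mul_eq_one_left h.symm
    rw [this]; exact inv_mem hzZ)
  have e4 : (1 : X) ≠ y := fun h => hy (h ▸ h1Z)
  have e5 : z ≠ x := fun h => hx (h ▸ hzZ)
  have e6 : z ≠ x * z := fun h => e2 (by
    have : (1 : X) * z = x * z := by rw [one_mul]; exact h
    exact mul_right_cancel this)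
  have e7 : z ≠ y := fun h => hy (h ▸ hzZ)
  have e8 : x ≠ x * z := fun h => e1 (by
    have : x * 1 = x * z := by rw [mul_one]; exact h
    exact mul_left_cancel this)
  have e9 : x ≠ y := fun h => hxy (by rw [← h, inv_mul_cancel]; exact h1Z)
  have e10 : x * z ≠ y := fun h => hxy (by rw [← h, inv_mul_cancel_left]; exact hzZ)
  have h5 : ({1, z, x, x * z, y} : Finset X).card = 5 := by
    rw [Finset.card_insert_of_notMem, Finset.card_insert_of_notMem,
      Finset.card_insert_of_notMem, Finset.card_insert_of_notMem, Finset.card_singleton]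
    · simpa using e10
    · simp only [Finset.mem_insert, Finset.mem_singleton, not_or]; exact ⟨e8, e9⟩
    · simp only [Finset.mem_insert, Finset.mem_singleton, not_or]; exact ⟨e5, e6, e7⟩
    · simp only [Finset.mem_insert, Finset.mem_singleton, not_or]; exact ⟨e1, e2, e3, e4⟩
  have hsub : ((({1, z, x, x * z, y} : Finset X)) : Set X) ⊆ (H : Set X) := by
    intro a ha
    simp only [Finset.coe_insert, Finset.coe_singleton, Set.mem_insert_iff,
      Set.mem_singleton_iff] at ha
    rcases ha with rfl | rfl | rfl | rfl | rfl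
    · exact one_mem H
    · exact hZH hzZ
    · exact hxH
    · exact mul_mem hxH (hZH hzZ)
    · exact hyH
  have h5le : 5 ≤ Nat.card H := by
    calc 5 = ((({1, z, x, x * z, y} : Finset X)) : Set X).ncard := by
          rw [Set.ncard_coe_finset, h5]
      _ ≤ (H : Set X).ncard := Set.ncard_le_ncard hsub (Set.toFinite _)
      _ = Nat.card H := (Nat.card_coe_set_eq _).symm
  have hdvd : Nat.card H ∣ 16 := h16 ▸ Subgroup.card_subgroup_dvd_card H
  have hle : Nat.card H ≤ 16 := Nat.le_of_dvd (by norm_num) hdvd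
  generalize Nat.card H = n at *
  interval_cases n <;> omega

theorem xs_sixteen [Finite X] (hX : IsPGroup 2 X)
    (hna : ¬ IsMulCommutative X) (hea : EAmodZ X) (hZ : Nat.card (Subgroup.center X) = 2)
    (h16 : Nat.card X = 16) : False := by
  classical
  have hc := hea.2
  -- the non-identity central element
  obtain ⟨z, hz1, hzu⟩ := (Nat.card_eq_two_iff' (1 : Subgroup.center X)).mp hZ
  have hZ2 : ∀ c ∈ Subgroup.center X, c = 1 ∨ c = (z : X) := by
    intro c hcZ
    by_cases h : (⟨c, hcZ⟩ : Subgroup.center X) = 1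
    · left; exact congrArg Subtype.val h
    · right; exact congrArg Subtype.val (hzu ⟨c, hcZ⟩ h)
  have hzne : (z : X) ≠ 1 := fun h => hz1 (Subtype.ext h)
  have hzZ : (z : X) ∈ Subgroup.center X := z.2
  -- a non-central element
  obtain ⟨x, hx⟩ : ∃ x : X, x ∉ Subgroup.center X := by
    by_contra hcon
    push Not at hcon
    exact hna ⟨⟨fun a b => (Subgroup.mem_center_iff.mp (hcon b) a)⟩⟩
  have hK8 : Nat.card (Subgroup.centralizer ({x} : Set X)) = 8 := card_centralizer hc hZ h16 hx
  have hZK : Subgroup.center X ≤ Subgroup.centralizer ({x} : Set X) :=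
    Subgroup.center_le_centralizer _
  have hxK : x ∈ Subgroup.centralizer ({x} : Set X) := by
    rw [Subgroup.mem_centralizer_iff]
    intro k hk
    rw [Set.mem_singleton_iff] at hk
    rw [hk]
  -- `y` in `C(x)` outside `Z ∪ xZ`
  obtain ⟨y, hyK, hy⟩ : ∃ y ∈ Subgroup.centralizer ({x} : Set X),
      y ∉ ({1, (z : X), x, x * z} : Finset X) := by
    by_contra hcon
    push Not at hcon
    have h4 : Nat.card (Subgroup.centralizer ({x} : Set X)) ≤ 4 := by
      calc Nat.card (Subgroup.centralizer ({x} : Set X))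
          = ((Subgroup.centralizer ({x} : Set X) : Subgroup X) : Set X).ncard :=
            Nat.card_coe_set_eq _
        _ ≤ ((({1, (z : X), x, x * z} : Finset X)) : Set X).ncard :=
            Set.ncard_le_ncard (fun y hy => hcon y hy) (Finset.finite_toSet _)
        _ = ({1, (z : X), x, x * z} : Finset X).card := Set.ncard_coe_finset _
        _ ≤ 4 := Finset.card_le_four
    omega
  simp only [Finset.mem_insert, Finset.mem_singleton, not_or] at hy
  obtain ⟨hy1, hyz, hyx, hyxz⟩ := hy
  have hyZ : y ∉ Subgroup.center X := by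
    intro h
    rcases hZ2 y h with h1 | h1
    · exact hy1 h1
    · exact hyz h1
  have hxy : x⁻¹ * y ∉ Subgroup.center X := by
    intro h
    rcases hZ2 _ h with h1 | h1
    · exact hyx (by rw [← mul_one x, ← h1, mul_inv_cancel_left])
    · exact hyxz (by rw [← h1, mul_inv_cancel_left])
  have hxycomm : x * y = y * x := by
    rw [Subgroup.mem_centralizer_iff] at hyK
    exact hyK x rfl
  -- every non-central `m` commuting with `x` and `y` has centralizer `C(x)`
  have key : ∀ m : X, m ∉ Subgroup.center X → m * x = x * m → m * y = y * m →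
      Subgroup.centralizer ({m} : Set X) = Subgroup.centralizer ({x} : Set X) := by
    intro m hmZ hmx hmy
    have hCm8 : Nat.card (Subgroup.centralizer ({m} : Set X)) = 8 :=
      card_centralizer hc hZ h16 hmZ
    have hmem : ∀ g : X, m * g = g * m → g ∈ Subgroup.centralizer ({m} : Set X) := by
      intro g hg
      rw [Subgroup.mem_centralizer_iff]
      intro k hk
      rw [Set.mem_singleton_iff] at hk
      rw [hk]; exact hg
    have h8 : 8 ≤ Nat.card (Subgroup.centralizer ({x} : Set X) ⊓
        Subgroup.centralizer ({m} : Set X) : Subgroup X) :=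
      eight_le_card hZ2 hzZ hzne h16 _ (le_inf hZK (Subgroup.center_le_centralizer _))
        ⟨hxK, hmem x hmx⟩ ⟨hyK, hmem y hmy⟩ hx hyZ hxy
    have e1 : Subgroup.centralizer ({x} : Set X) ⊓ Subgroup.centralizer ({m} : Set X) =
        Subgroup.centralizer ({x} : Set X) :=
      Subgroup.eq_of_le_of_card_ge inf_le_left (by omega)
    have e2 : Subgroup.centralizer ({x} : Set X) ⊓ Subgroup.centralizer ({m} : Set X) =
        Subgroup.centralizer ({m} : Set X) :=
      Subgroup.eq_of_le_of_card_ge inf_le_right (by omega)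
    rw [← e2, e1]
  -- an element outside `C(x)`
  obtain ⟨w, hw⟩ : ∃ w : X, w ∉ Subgroup.centralizer ({x} : Set X) := by
    by_contra hcon
    push Not at hcon
    have htop : Subgroup.centralizer ({x} : Set X) = ⊤ := (Subgroup.eq_top_iff' _).mpr hcon
    rw [htop, Subgroup.card_top] at hK8
    omega
  have hwZ : w ∉ Subgroup.center X := fun h => hw (hZK h)
  have hidx : (Subgroup.centralizer ({w} : Set X) ⊓ Subgroup.centralizer ({x} : Set X)).index
      ≤ 4 := by
    calc (Subgroup.centralizer ({w} : Set X) ⊓ Subgroup.centralizer ({x} : Set X)).index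
        ≤ (Subgroup.centralizer ({w} : Set X)).index *
          (Subgroup.centralizer ({x} : Set X)).index := Subgroup.index_inf_le
      _ = 4 := by rw [index_centralizer hc hZ hwZ, index_centralizer hc hZ hx]
  have hcard : 4 ≤ Nat.card (Subgroup.centralizer ({w} : Set X) ⊓
      Subgroup.centralizer ({x} : Set X) : Subgroup X) := by
    have h := Subgroup.card_mul_index
      (Subgroup.centralizer ({w} : Set X) ⊓ Subgroup.centralizer ({x} : Set X))
    rw [h16] at h
    by_contra hlt
    push Not at hlt
    have : Nat.card (Subgroup.centralizer ({w} : Set X) ⊓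
        Subgroup.centralizer ({x} : Set X) : Subgroup X) *
        (Subgroup.centralizer ({w} : Set X) ⊓ Subgroup.centralizer ({x} : Set X)).index
        ≤ 3 * 4 := Nat.mul_le_mul (by omega) hidx
    omega
  obtain ⟨m, hm, hmZ⟩ : ∃ m ∈ Subgroup.centralizer ({w} : Set X) ⊓
      Subgroup.centralizer ({x} : Set X), m ∉ Subgroup.center X := by
    by_contra hcon
    push Not at hcon
    have hle : Nat.card (Subgroup.centralizer ({w} : Set X) ⊓
        Subgroup.centralizer ({x} : Set X) : Subgroup X) ≤ Nat.card (Subgroup.center X) :=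
      Subgroup.card_le_of_le hcon
    omega
  obtain ⟨hmw, hmx⟩ := Subgroup.mem_inf.mp hm
  rw [Subgroup.mem_centralizer_iff] at hmw hmx
  have hmx' : m * x = x * m := (hmx x rfl).symm
  have hmw' : w * m = m * w := hmw w rfl
  -- `m ∈ C(x) = C(y)`
  have hKy := key y hyZ hxycomm.symm rfl
  have hmy : m * y = y * m := by
    have hmCy : m ∈ Subgroup.centralizer ({y} : Set X) := by
      rw [hKy, Subgroup.mem_centralizer_iff]
      intro k hk
      rw [Set.mem_singleton_iff] at hk
      rw [hk]; exact hmx'.symm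
    rw [Subgroup.mem_centralizer_iff] at hmCy
    exact (hmCy y rfl).symm
  have hKm := key m hmZ hmx' hmy
  apply hw
  rw [← hKm, Subgroup.mem_centralizer_iff]
  intro k hk
  rw [Set.mem_singleton_iff] at hk
  rw [hk]; exact hmw'.symm

end Cfsg.Agent.Lib.Helper86.T1904
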