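import Mathlib
import Cfsg.Prelude.Def_RootSubgroups
import Cfsg.Agent.Lib.Helper86.Transv
import Cfsg.Agent.Lib.Helper86.Lines2

set_option autoImplicit false

namespace Cfsg.Agent.Lib.Helper86

open Matrix Cfsg

section TVsub
variable {ι : Type*} [Fintype ι] [DecidableEq ι] {k : Type*} [Field k]

theorem dot_smul_zero {v φ : ι → k} (h : φ ⬝ᵥ v = 0) (c : k) : φ ⬝ᵥ (c • v) = 0 := by
  rw [dotProduct_smul, h, smul_zero]

/-- The full transvection subgroup with centre `v` and axis `ker φ`. -/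
def TV (v φ : ι → k) (h : φ ⬝ᵥ v = 0) : Subgroup (Matrix.SpecialLinearGroup ι k) where
  carrier := {t | ∃ c : k, t = tvS (c • v) φ (dot_smul_zero h c)}
  one_mem' := ⟨0, (tvS_zero_left φ).symm.trans (tvS_congr _ (zero_smul k v).symm rfl)⟩
  mul_mem' := by
    rintro _ _ ⟨c, rfl⟩ ⟨d, rfl⟩
    exact ⟨c + d, (tvS_mul_same _ _ _ _ _).trans (tvS_congr _ (add_smul c d v).symm rfl)⟩
  inv_mem' := by
    rintro _ ⟨c, rfl⟩
    exact ⟨-c, (tvS_inv _ _ _).trans (tvS_congr _ (neg_smul c v).symm rfl)⟩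

theorem mem_TV {v φ : ι → k} {h : φ ⬝ᵥ v = 0} {t : Matrix.SpecialLinearGroup ι k} :
    t ∈ TV v φ h ↔ ∃ c : k, t = tvS (c • v) φ (dot_smul_zero h c) := Iff.rfl

theorem tvS_smul_mem_TV (v φ : ι → k) (h : φ ⬝ᵥ v = 0) (c : k) (h' : φ ⬝ᵥ (c • v) = 0) :
    tvS (c • v) φ h' ∈ TV v φ h := ⟨c, rfl⟩

theorem tvS_mem_TV (v φ : ι → k) (h : φ ⬝ᵥ v = 0) : tvS v φ h ∈ TV v φ h :=
  ⟨1, tvS_congr _ (one_smul k v).symm rfl⟩

theorem tvS_eq_one_iff {v φ : ι → k} {h : φ ⬝ᵥ v = 0} : tvS v φ h = 1 ↔ v = 0 ∨ φ = 0 := by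
  constructor
  · intro h1
    by_contra hne
    rw [not_or] at hne
    exact tvSet_ne_one (tvS_mem_tvSet v φ h hne.1 hne.2) h1
  · rintro (rfl | rfl)
    · exact tvS_zero_left φ
    · apply Subtype.ext
      simp [tvS_coe]

theorem tvS_smul_smul (v φ : ι → k) (a b : k) (h1 : (b • φ) ⬝ᵥ (a • v) = 0)
    (h2 : φ ⬝ᵥ ((a * b) • v) = 0) : tvS (a • v) (b • φ) h1 = tvS ((a * b) • v) φ h2 := by
  apply Subtype.ext
  rw [tvS_coe, tvS_coe, smul_vecMulVec, vecMulVec_smul, smul_vecMulVec, smul_smul]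

theorem TV_smul (v φ : ι → k) (h : φ ⬝ᵥ v = 0) (a b : k) (ha : a ≠ 0) (hb : b ≠ 0)
    (h' : (b • φ) ⬝ᵥ (a • v) = 0) : TV (a • v) (b • φ) h' = TV v φ h := by
  ext t
  rw [mem_TV, mem_TV]
  constructor
  · rintro ⟨c, rfl⟩
    refine ⟨c * a * b, ?_⟩
    have e : c • a • v = (c * a) • v := smul_smul c a v
    rw [tvS_congr _ e rfl]
    exact tvS_smul_smul v φ (c * a) b _ _
  · rintro ⟨c, rfl⟩
    refine ⟨c / (a * b), ?_⟩
    have e : (c / (a * b)) • a • v = (c / (a * b) * a) • v := smul_smul _ a v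
    rw [tvS_congr _ e rfl, tvS_smul_smul v φ (c / (a * b) * a) b _ (dot_smul_zero h _)]
    apply tvS_congr
    · congr 1
      field_simp
    · rfl

theorem TV_congr_smul {v v' φ φ' : ι → k} (h : φ ⬝ᵥ v = 0) (h' : φ' ⬝ᵥ v' = 0) (a b : k)
    (ha : a ≠ 0) (hb : b ≠ 0) (hv : v = a • v') (hφ : φ = b • φ') : TV v φ h = TV v' φ' h' := by
  subst hv; subst hφ
  exact TV_smul v' φ' h' a b ha hb h

theorem conj_tvS_smul (g : Matrix.SpecialLinearGroup ι k) (v φ : ι → k) (c : k)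
    (h : φ ⬝ᵥ (c • v) = 0)
    (h' : (φ ᵥ* ((g⁻¹ : Matrix.SpecialLinearGroup ι k) : Matrix ι ι k)) ⬝ᵥ
      (c • ((g : Matrix ι ι k) *ᵥ v)) = 0) :
    g * tvS (c • v) φ h * g⁻¹ =
      tvS (c • ((g : Matrix ι ι k) *ᵥ v)) (φ ᵥ* ((g⁻¹ : Matrix.SpecialLinearGroup ι k) : Matrix ι ι k)) h' :=
  (tvS_conj' g (c • v) φ h).trans (tvS_congr _ (mulVec_smul _ c v) rfl)

theorem conjBy_TV (g : Matrix.SpecialLinearGroup ι k) (v φ : ι → k) (h : φ ⬝ᵥ v = 0)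
    (h' : (φ ᵥ* ((g⁻¹ : Matrix.SpecialLinearGroup ι k) : Matrix ι ι k)) ⬝ᵥ ((g : Matrix ι ι k) *ᵥ v) = 0) :
    conjBy (TV v φ h) g =
      TV ((g : Matrix ι ι k) *ᵥ v) (φ ᵥ* ((g⁻¹ : Matrix.SpecialLinearGroup ι k) : Matrix ι ι k)) h' := by
  ext t
  rw [Subgroup.mem_map]
  constructor
  · rintro ⟨x, ⟨c, rfl⟩, rfl⟩
    refine ⟨c, ?_⟩
    rw [MulEquiv.coe_toMonoidHom, MulAut.conj_apply]
    exact conj_tvS_smul g v φ c _ _
  · rintro ⟨c, rfl⟩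
    refine ⟨tvS (c • v) φ (dot_smul_zero h c), ⟨c, rfl⟩, ?_⟩
    rw [MulEquiv.coe_toMonoidHom, MulAut.conj_apply]
    exact conj_tvS_smul g v φ c _ _

theorem TV_comm (v φ : ι → k) (h : φ ⬝ᵥ v = 0) : IsMulCommutative (TV v φ h) := by
  refine ⟨⟨fun a b => ?_⟩⟩
  obtain ⟨a, c, rfl⟩ := a
  obtain ⟨b, d, rfl⟩ := b
  apply Subtype.ext
  rw [Subgroup.coe_mul, Subgroup.coe_mul]
  show tvS (c • v) φ (dot_smul_zero h c) * tvS (d • v) φ (dot_smul_zero h d) =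
    tvS (d • v) φ (dot_smul_zero h d) * tvS (c • v) φ (dot_smul_zero h c)
  rw [tvS_mul_same, tvS_mul_same]
  exact tvS_congr _ (add_comm _ _) rfl

theorem TV_ne_bot (v φ : ι → k) (h : φ ⬝ᵥ v = 0) (hv : v ≠ 0) (hφ : φ ≠ 0) : TV v φ h ≠ ⊥ := by
  intro hbot
  have h1 : tvS v φ h ∈ TV v φ h := tvS_mem_TV v φ h
  rw [hbot, Subgroup.mem_bot, tvS_eq_one_iff] at h1
  rcases h1 with h1 | h1
  · exact hv h1
  · exact hφ h1

theorem conj_dot_aux (x φ y ψ : ι → k) (h1 : φ ⬝ᵥ x = 0) (h2 : ψ ⬝ᵥ y = 0) :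
    (ψ - (ψ ⬝ᵥ x) • φ) ⬝ᵥ (y + (φ ⬝ᵥ y) • x) = 0 := by
  rw [sub_dotProduct, dotProduct_add, dotProduct_add, smul_dotProduct, smul_dotProduct,
    dotProduct_smul, dotProduct_smul, h1, h2]
  simp only [smul_eq_mul, mul_zero, add_zero, zero_add]
  ring

theorem tvS_conj_tvS (x φ y ψ : ι → k) (h1 : φ ⬝ᵥ x = 0) (h2 : ψ ⬝ᵥ y = 0) :
    tvS x φ h1 * tvS y ψ h2 * (tvS x φ h1)⁻¹ =
      tvS (y + (φ ⬝ᵥ y) • x) (ψ - (ψ ⬝ᵥ x) • φ) (conj_dot_aux x φ y ψ h1 h2) := by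
  rw [tvS_conj']
  apply tvS_congr
  · exact tvS_mulVec x φ h1 y
  · rw [tvS_inv, tvS_vecMul, dotProduct_neg, neg_smul, sub_eq_add_neg]

theorem tvS_commute (x φ y ψ : ι → k) (h1 : φ ⬝ᵥ x = 0) (h2 : ψ ⬝ᵥ y = 0)
    (hα : φ ⬝ᵥ y = 0) (hβ : ψ ⬝ᵥ x = 0) :
    tvS x φ h1 * tvS y ψ h2 = tvS y ψ h2 * tvS x φ h1 := by
  have h3 := tvS_conj_tvS x φ y ψ h1 h2
  have h4 : tvS (y + (φ ⬝ᵥ y) • x) (ψ - (ψ ⬝ᵥ x) • φ) (conj_dot_aux x φ y ψ h1 h2) = tvS y ψ h2 := by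
    apply tvS_congr
    · rw [hα, zero_smul, add_zero]
    · rw [hβ, zero_smul, sub_zero]
  rw [h4] at h3
  exact mul_inv_eq_iff_eq_mul.mp h3

theorem tvS_commutator (x φ y ψ : ι → k) (h1 : φ ⬝ᵥ x = 0) (h2 : ψ ⬝ᵥ y = 0) (hβ : ψ ⬝ᵥ x = 0) :
    tvS x φ h1 * tvS y ψ h2 * (tvS x φ h1)⁻¹ * (tvS y ψ h2)⁻¹ =
      tvS ((φ ⬝ᵥ y) • x) ψ (dot_smul_zero hβ _) := by
  rw [tvS_conj_tvS, tvS_inv]
  have h4 : tvS (y + (φ ⬝ᵥ y) • x) (ψ - (ψ ⬝ᵥ x) • φ) (conj_dot_aux x φ y ψ h1 h2) =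
      tvS (y + (φ ⬝ᵥ y) • x) ψ (by rw [dotProduct_add, h2, dotProduct_smul, hβ, smul_zero, add_zero]) := by
    apply tvS_congr
    · rfl
    · rw [hβ, zero_smul, sub_zero]
  rw [h4, tvS_mul_same]
  apply tvS_congr
  · abel
  · rfl

theorem TV_commute (v φ w ψ : ι → k) (h : φ ⬝ᵥ v = 0) (h' : ψ ⬝ᵥ w = 0)
    (hα : φ ⬝ᵥ w = 0) (hβ : ψ ⬝ᵥ v = 0) :
    ∀ a ∈ TV v φ h, ∀ b ∈ TV w ψ h', a * b = b * a := by
  rintro _ ⟨c, rfl⟩ _ ⟨d, rfl⟩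
  exact tvS_commute _ _ _ _ _ _ (dot_smul_zero hα d) (dot_smul_zero hβ c)

theorem TV_commutator_eq (v φ w ψ : ι → k) (h : φ ⬝ᵥ v = 0) (h' : ψ ⬝ᵥ w = 0)
    (hα : φ ⬝ᵥ w ≠ 0) (hβ : ψ ⬝ᵥ v = 0) (c d : k) :
    tvS (c • v) φ (dot_smul_zero h c) * tvS (d • w) ψ (dot_smul_zero h' d) *
      (tvS (c • v) φ (dot_smul_zero h c))⁻¹ * (tvS (d • w) ψ (dot_smul_zero h' d))⁻¹ =
      tvS ((d * (φ ⬝ᵥ w) * c) • v) ψ (dot_smul_zero hβ _) := by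
  rw [tvS_commutator _ _ _ _ _ _ (dot_smul_zero hβ c)]
  apply tvS_congr
  · rw [dotProduct_smul, smul_eq_mul, smul_smul]
  · rfl

theorem TV_commutator (v φ w ψ : ι → k) (h : φ ⬝ᵥ v = 0) (h' : ψ ⬝ᵥ w = 0)
    (hα : φ ⬝ᵥ w ≠ 0) (hβ : ψ ⬝ᵥ v = 0) :
    ⁅TV v φ h, TV w ψ h'⁆ = TV v ψ hβ := by
  apply le_antisymm
  · rw [Subgroup.commutator_le]
    rintro _ ⟨c, rfl⟩ _ ⟨d, rfl⟩
    rw [commutatorElement_def, TV_commutator_eq v φ w ψ h h' hα hβ c d]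
    exact ⟨_, rfl⟩
  · rintro _ ⟨e, rfl⟩
    have h1 := TV_commutator_eq v φ w ψ h h' hα hβ 1 (e / (φ ⬝ᵥ w))
    have h2 : e / (φ ⬝ᵥ w) * (φ ⬝ᵥ w) * 1 = e := by field_simp
    rw [tvS_congr _ (congrArg (· • v) h2) rfl] at h1
    rw [← h1, ← commutatorElement_def]
    exact Subgroup.commutator_mem_commutator ⟨1, rfl⟩ ⟨_, rfl⟩

theorem TV_commcase (S : Set (Subgroup (Matrix.SpecialLinearGroup ι k))) (v φ w ψ : ι → k)
    (h : φ ⬝ᵥ v = 0) (h' : ψ ⬝ᵥ w = 0)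
    (hα : φ ⬝ᵥ w ≠ 0) (hβ : ψ ⬝ᵥ v = 0) (hS : TV v ψ hβ ∈ S) :
    RootCommutatorCase S (TV v φ h) (TV w ψ h') := by
  have hcomm := TV_commutator v φ w ψ h h' hα hβ
  refine ⟨?_, ?_, ?_, ?_⟩
  · rw [hcomm]; exact hS
  · intro c hc x hx
    rw [hcomm] at hc
    have h1 : c ∈ Subgroup.centralizer ((TV v φ h ⊔ TV w ψ h' : Subgroup _) : Set _) := by
      rw [mem_centralizer_sup_iff]
      constructor
      · intro a ha
        exact TV_commute v φ v ψ h hβ h hβ a ha c hc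
      · intro b hb
        exact TV_commute w ψ v ψ h' hβ hβ h' b hb c hc
    exact (Subgroup.mem_centralizer_iff.mp h1 x hx).symm
  · rintro _ ⟨c, rfl⟩ ha1
    have hc : c ≠ 0 := by
      rintro rfl
      apply ha1
      rw [tvS_eq_one_iff]; left; exact zero_smul k v
    rw [hcomm]
    apply le_antisymm
    · rw [Subgroup.closure_le]
      rintro _ ⟨_, ⟨d, rfl⟩, rfl⟩
      beta_reduce
      rw [TV_commutator_eq v φ w ψ h h' hα hβ c d]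
      exact ⟨_, rfl⟩
    · rintro _ ⟨e, rfl⟩
      apply Subgroup.subset_closure
      refine ⟨tvS ((e / ((φ ⬝ᵥ w) * c)) • w) ψ (dot_smul_zero h' _), ⟨_, rfl⟩, ?_⟩
      show tvS (c • v) φ (dot_smul_zero h c) * tvS ((e / ((φ ⬝ᵥ w) * c)) • w) ψ (dot_smul_zero h' _) *
        (tvS (c • v) φ (dot_smul_zero h c))⁻¹ * (tvS ((e / ((φ ⬝ᵥ w) * c)) • w) ψ (dot_smul_zero h' _))⁻¹ = _
      rw [TV_commutator_eq v φ w ψ h h' hα hβ c]
      apply tvS_congr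
      · congr 1
        field_simp
      · rfl
  · rintro _ ⟨d, rfl⟩ hb1
    have hd : d ≠ 0 := by
      rintro rfl
      apply hb1
      rw [tvS_eq_one_iff]; left; exact zero_smul k w
    rw [hcomm]
    apply le_antisymm
    · rw [Subgroup.closure_le]
      rintro _ ⟨_, ⟨c, rfl⟩, rfl⟩
      beta_reduce
      rw [TV_commutator_eq v φ w ψ h h' hα hβ c d]
      exact ⟨_, rfl⟩
    · rintro _ ⟨e, rfl⟩
      apply Subgroup.subset_closure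
      refine ⟨tvS ((e / (d * (φ ⬝ᵥ w))) • v) φ (dot_smul_zero h _), ⟨_, rfl⟩, ?_⟩
      show tvS ((e / (d * (φ ⬝ᵥ w))) • v) φ (dot_smul_zero h _) * tvS (d • w) ψ (dot_smul_zero h' d) *
        (tvS ((e / (d * (φ ⬝ᵥ w))) • v) φ (dot_smul_zero h _))⁻¹ * (tvS (d • w) ψ (dot_smul_zero h' d))⁻¹ = _
      rw [TV_commutator_eq v φ w ψ h h' hα hβ _ d]
      apply tvS_congr
      · congr 1
        field_simp
      · rfl

theorem TV_rankOneCondition (v φ w ψ : ι → k) (h : φ ⬝ᵥ v = 0) (h' : ψ ⬝ᵥ w = 0)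
    (hα : φ ⬝ᵥ w ≠ 0) (hβ : ψ ⬝ᵥ v ≠ 0) (hw : w ≠ 0) (hψ : ψ ≠ 0) :
    RankOneCondition (TV v φ h) (TV w ψ h') := by
  rintro _ ⟨s, rfl⟩ ha1
  have hs : s ≠ 0 := by
    rintro rfl
    apply ha1
    rw [tvS_eq_one_iff]; left; exact zero_smul k v
  set α := φ ⬝ᵥ w with hαdef
  set β := ψ ⬝ᵥ v with hβdef
  set t : k := (s * α * β)⁻¹ with ht
  have hsab : s * α * β ≠ 0 := mul_ne_zero (mul_ne_zero hs hα) hβ
  have ht0 : t ≠ 0 := inv_ne_zero hsab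
  have key : s * α * β * t = 1 := mul_inv_cancel₀ hsab
  refine ⟨tvS (t • w) ψ (dot_smul_zero h' t), ⟨t, rfl⟩, ?_, ?_⟩
  · rw [Ne, tvS_eq_one_iff, not_or]
    exact ⟨smul_ne_zero ht0 hw, hψ⟩
  · rw [conjBy_TV _ v φ h ((sl_conj_dot _ v φ).trans h), conjBy_TV _ w ψ h' ((sl_conj_dot _ w ψ).trans h')]
    apply TV_congr_smul _ _ (-(β * t)) (t * α)
    · exact neg_ne_zero.mpr (mul_ne_zero hβ ht0)
    · exact mul_ne_zero ht0 hα
    · rw [tvS_inv, tvS_mulVec, tvS_inv, tvS_mulVec]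
      ext i
      simp only [Pi.add_apply, Pi.smul_apply, Pi.neg_apply, smul_eq_mul, ← hαdef, ← hβdef]
      linear_combination (-(v i)) * key
    · rw [inv_inv, inv_inv, tvS_vecMul, tvS_vecMul, dotProduct_smul, dotProduct_smul]
      ext i
      simp only [Pi.add_apply, Pi.smul_apply, smul_eq_mul, ← hαdef, ← hβdef]
      linear_combination (-(φ i)) * key

theorem TV_ne_of_ne_zero (v φ w ψ : ι → k) (h : φ ⬝ᵥ v = 0) (h' : ψ ⬝ᵥ w = 0)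
    (hα : φ ⬝ᵥ w ≠ 0) (hv : v ≠ 0) : TV v φ h ≠ TV w ψ h' := by
  intro heq
  have h1 : tvS v φ h ∈ TV w ψ h' := heq ▸ tvS_mem_TV v φ h
  obtain ⟨c, hc⟩ := h1
  have h2 := congrArg (fun x : Matrix.SpecialLinearGroup ι k => (x : Matrix ι ι k) *ᵥ w) hc
  simp only [tvS_mulVec, h', zero_smul, add_zero] at h2
  have h3 : (φ ⬝ᵥ w) • v = 0 := by
    have := add_left_cancel (a := w) (b := (φ ⬝ᵥ w) • v) (c := 0) (by rw [h2, add_zero])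
    exact this
  rcases smul_eq_zero.mp h3 with h4 | h4
  · exact hα h4
  · exact hv h4

theorem isNilpotent_of_isMulCommutative {H : Type*} [Group H] (h : IsMulCommutative H) :
    Group.IsNilpotent H :=
  ⟨⟨1, Subgroup.upperCentralSeries_one_eq_top_iff.mpr h⟩⟩

theorem TV_rankOnePair (v φ w ψ : ι → k) (h : φ ⬝ᵥ v = 0) (h' : ψ ⬝ᵥ w = 0)
    (hα : φ ⬝ᵥ w ≠ 0) (hβ : ψ ⬝ᵥ v ≠ 0) (hv : v ≠ 0) (hφ : φ ≠ 0) (hw : w ≠ 0) (hψ : ψ ≠ 0) :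
    IsRankOnePair (TV v φ h) (TV w ψ h') :=
  ⟨TV_ne_of_ne_zero v φ w ψ h h' hα hv, isNilpotent_of_isMulCommutative (TV_comm v φ h),
    isNilpotent_of_isMulCommutative (TV_comm w ψ h'),
    TV_rankOneCondition v φ w ψ h h' hα hβ hw hψ, TV_rankOneCondition w ψ v φ h' h hβ hα hv hφ⟩

/-- A rank one pair of transvection subgroups is in "general position". -/
theorem TV_rankOne_imp (S : Set (Subgroup (Matrix.SpecialLinearGroup ι k)))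
    (hS : ∀ (v φ : ι → k) (h : φ ⬝ᵥ v = 0), v ≠ 0 → φ ≠ 0 → TV v φ h ∈ S)
    (v φ w ψ : ι → k) (h : φ ⬝ᵥ v = 0) (h' : ψ ⬝ᵥ w = 0)
    (hv : v ≠ 0) (hφ : φ ≠ 0) (hw : w ≠ 0) (hψ : ψ ≠ 0)
    (hr : IsRankOnePair (TV v φ h) (TV w ψ h')) : φ ⬝ᵥ w ≠ 0 ∧ ψ ⬝ᵥ v ≠ 0 := by
  by_cases hα : φ ⬝ᵥ w = 0
  · by_cases hβ : ψ ⬝ᵥ v = 0
    · exact absurd (TV_commute v φ w ψ h h' hα hβ) (rk1_not_commute hr)
    · exfalso
      have hc : RootCommutatorCase S (TV w ψ h') (TV v φ h) :=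
        TV_commcase S w ψ v φ h' h hβ hα (hS w φ hα hw hφ)
      exact commcase_not_rk1 (TV_comm w ψ h') hc (RankOnePair_symm hr)
  · by_cases hβ : ψ ⬝ᵥ v = 0
    · exfalso
      have hc : RootCommutatorCase S (TV v φ h) (TV w ψ h') :=
        TV_commcase S v φ w ψ h h' hα hβ (hS v ψ hβ hv hψ)
      exact commcase_not_rk1 (TV_comm v φ h) hc hr
    · exact ⟨hα, hβ⟩

/-- Vector form of transitivity. -/
theorem tv_transitive_vec (i0 i1 i2 : ι) (h01 : i0 ≠ i1) (h02 : i0 ≠ i2) (h12 : i1 ≠ i2)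
    (v φ : ι → k) (hv : v ≠ 0) (hφ : φ ≠ 0) (h : φ ⬝ᵥ v = 0) :
    ∃ g : Matrix.SpecialLinearGroup ι k,
      (g : Matrix ι ι k) *ᵥ v = Pi.single i0 1 ∧
      φ ᵥ* ((g⁻¹ : Matrix.SpecialLinearGroup ι k) : Matrix ι ι k) = Pi.single i1 1 := by
  obtain ⟨g₁, hg₁, -⟩ := tv_move i0 i1 h01 v hv
  set φ' := φ ᵥ* ((g₁⁻¹ : Matrix.SpecialLinearGroup ι k) : Matrix ι ι k) with hφ'
  have hφ'0 : φ' ≠ 0 := fun h0 => hφ (sl_vecMul_eq_zero g₁⁻¹ h0)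
  have hφ'i0 : φ' i0 = 0 := by
    have h3 := sl_conj_dot g₁ v φ
    rw [hg₁, h, dotProduct_single_one] at h3
    exact h3
  obtain ⟨h₂, hh₂, hrow⟩ := tv_move i1 i2 h12 φ' hφ'0
  have hfix := hrow i0 h01 h02 hφ'i0
  unfold RowFix at hfix
  set g₂ : Matrix.SpecialLinearGroup ι k := (Matrix.SpecialLinearGroup.transpose h₂)⁻¹ with hg₂
  have hg₂inv : g₂⁻¹ = Matrix.SpecialLinearGroup.transpose h₂ := inv_inv _
  have e1 : φ' ᵥ* ((g₂⁻¹ : Matrix.SpecialLinearGroup ι k) : Matrix ι ι k) = Pi.single i1 1 := by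
    rw [hg₂inv, Matrix.SpecialLinearGroup.coe_transpose, vecMul_transpose, hh₂]
  have e2 : (g₂ : Matrix ι ι k) *ᵥ (Pi.single i0 (1 : k)) = Pi.single i0 1 := by
    have h4 : ((Matrix.SpecialLinearGroup.transpose h₂ : Matrix.SpecialLinearGroup ι k) : Matrix ι ι k) *ᵥ
        (Pi.single i0 (1 : k)) = Pi.single i0 1 := by
      rw [Matrix.SpecialLinearGroup.coe_transpose, mulVec_transpose]; exact hfix
    calc (g₂ : Matrix ι ι k) *ᵥ (Pi.single i0 (1 : k))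
        = (g₂ : Matrix ι ι k) *ᵥ (((Matrix.SpecialLinearGroup.transpose h₂ :
            Matrix.SpecialLinearGroup ι k) : Matrix ι ι k) *ᵥ (Pi.single i0 (1 : k))) := by rw [h4]
      _ = Pi.single i0 1 := by rw [mulVec_mulVec, ← hg₂inv, sl_coe_mul_inv, one_mulVec]
  refine ⟨g₂ * g₁, ?_, ?_⟩
  · rw [Matrix.SpecialLinearGroup.coe_mul, ← mulVec_mulVec, hg₁, e2]
  · rw [_root_.mul_inv_rev, Matrix.SpecialLinearGroup.coe_mul, ← vecMul_vecMul, ← hφ', e1]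

theorem TV_congr {v v' φ φ' : ι → k} (h : φ ⬝ᵥ v = 0) (hv : v = v') (hφ : φ = φ') :
    TV v φ h = TV v' φ' (by rw [← hv, ← hφ]; exact h) := by
  subst hv; subst hφ; rfl

theorem single_eq_vecMulVec (i j : ι) (c : k) :
    Matrix.single i j c = vecMulVec (Pi.single i c) (Pi.single j (1 : k)) := by
  ext a b
  simp only [Matrix.single_apply, vecMulVec_apply, Pi.single_apply]
  by_cases ha : i = a <;> by_cases hb : j = b <;> simp [ha, hb, eq_comm]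

theorem single_dot_single_smul {i j : ι} (hij : i ≠ j) (c : k) :
    (Pi.single j (1 : k)) ⬝ᵥ (Pi.single i c : ι → k) = 0 := by
  rw [single_one_dotProduct]
  simp [Pi.single_apply, hij.symm]

theorem sl_transvection_eq_tvS {i j : ι} (hij : i ≠ j) (c : k) :
    Matrix.SpecialLinearGroup.transvection hij c =
      tvS (Pi.single i c) (Pi.single j (1 : k)) (single_dot_single_smul hij c) := by
  apply Subtype.ext
  rw [tvS_coe, ← single_eq_vecMulVec]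
  rfl

theorem pi_single_ne_zero' (i : ι) {c : k} (hc : c ≠ 0) : (Pi.single i c : ι → k) ≠ 0 := by
  intro h
  have := congrFun h i
  simp at this
  exact hc this

theorem pi_single_eq_smul (i : ι) (c : k) : (Pi.single i c : ι → k) = c • Pi.single i (1 : k) := by
  ext a
  simp [Pi.single_apply]

theorem sl_transvection_mem_TV {i j : ι} (hij : i ≠ j) (c : k) :
    Matrix.SpecialLinearGroup.transvection hij c ∈
      TV (Pi.single i (1 : k)) (Pi.single j (1 : k)) (single_dot_single_ne hij) := by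
  rw [sl_transvection_eq_tvS hij c]
  exact ⟨c, tvS_congr _ (pi_single_eq_smul i c) rfl⟩

end TVsub

end Cfsg.Agent.Lib.Helper86
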