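import Mathlib
import Cfsg.Agent.Lib.Helper86.CommCase

set_option autoImplicit false

namespace Cfsg.Agent.Lib.Helper86

open scoped commutatorElement

variable {G : Type*} [Group G]

/-- the upper central series of a subgroup `R`, as subgroups of the ambient group -/
def ucs (R : Subgroup G) (n : ℕ) : Subgroup G := (Subgroup.upperCentralSeries ↥R n).map R.subtype

theorem ucs_le (R : Subgroup G) (n : ℕ) : ucs R n ≤ R := by
  rintro _ ⟨x, -, rfl⟩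
  exact x.2

theorem mem_ucs_iff {R : Subgroup G} {n : ℕ} {x : G} :
    x ∈ ucs R n ↔ ∃ hx : x ∈ R, (⟨x, hx⟩ : ↥R) ∈ Subgroup.upperCentralSeries ↥R n := by
  constructor
  · rintro ⟨y, hy, rfl⟩
    exact ⟨y.2, hy⟩
  · rintro ⟨hx, h⟩
    exact ⟨⟨x, hx⟩, h, rfl⟩

theorem ucs_zero (R : Subgroup G) : ucs R 0 = ⊥ := by
  unfold ucs
  rw [Subgroup.upperCentralSeries_zero, Subgroup.map_bot]

theorem mem_ucs_succ {R : Subgroup G} {n : ℕ} {x : G} :
    x ∈ ucs R (n + 1) ↔ x ∈ R ∧ ∀ g ∈ R, x * g * x⁻¹ * g⁻¹ ∈ ucs R n := by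
  rw [mem_ucs_iff]
  constructor
  · rintro ⟨hx, h⟩
    refine ⟨hx, fun g hg => ?_⟩
    rw [Subgroup.mem_upperCentralSeries_succ_iff] at h
    have := h ⟨g, hg⟩
    rw [mem_ucs_iff]
    refine ⟨Subgroup.mul_mem _ (Subgroup.mul_mem _ (Subgroup.mul_mem _ hx hg) (Subgroup.inv_mem _ hx))
      (Subgroup.inv_mem _ hg), ?_⟩
    convert this using 1
    apply Subtype.ext
    simp [commutatorElement_def]
  · rintro ⟨hx, h⟩
    refine ⟨hx, ?_⟩
    rw [Subgroup.mem_upperCentralSeries_succ_iff]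
    intro g
    obtain ⟨h1, h2⟩ := mem_ucs_iff.mp (h g g.2)
    convert h2 using 1
    apply Subtype.ext
    simp [commutatorElement_def]

theorem ucs_normalized (R : Subgroup G) (n : ℕ) :
    R ≤ Subgroup.normalizer ((ucs R n : Subgroup G) : Set G) := by
  intro r hr
  rw [Subgroup.mem_normalizer_iff]
  intro x
  have hN : (Subgroup.upperCentralSeries ↥R n).Normal := inferInstance
  constructor
  · intro hx
    obtain ⟨hxR, h⟩ := mem_ucs_iff.mp hx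
    rw [mem_ucs_iff]
    refine ⟨Subgroup.mul_mem _ (Subgroup.mul_mem _ hr hxR) (Subgroup.inv_mem _ hr), ?_⟩
    have := hN.conj_mem _ h ⟨r, hr⟩
    convert this using 1
    apply Subtype.ext
    simp
  · intro hx
    obtain ⟨hxR, h⟩ := mem_ucs_iff.mp hx
    have hxR' : x ∈ R := by
      have := Subgroup.mul_mem _ (Subgroup.mul_mem _ (Subgroup.inv_mem _ hr) hxR) hr
      simpa [mul_assoc] using this
    rw [mem_ucs_iff]
    refine ⟨hxR', ?_⟩
    have := hN.conj_mem _ h ⟨r, hr⟩⁻¹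
    convert this using 1
    apply Subtype.ext
    simp [mul_assoc]

theorem nilpotent_of_le_ucs {R : Subgroup G} {n : ℕ} (h : R ≤ ucs R n) : Group.IsNilpotent ↥R := by
  refine ⟨⟨n, ?_⟩⟩
  rw [eq_top_iff]
  intro x _
  obtain ⟨_, h2⟩ := mem_ucs_iff.mp (h x.2)
  exact h2

/-- commutators with a join, on the left -/
theorem comm_mem_sup_left {K P Q : Subgroup G} {y : G}
    (hPn : P ≤ Subgroup.normalizer (K : Set G)) (hQn : Q ≤ Subgroup.normalizer (K : Set G))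
    (hP : ∀ p ∈ P, p * y * p⁻¹ * y⁻¹ ∈ K) (hQ : ∀ q ∈ Q, q * y * q⁻¹ * y⁻¹ ∈ K) :
    ∀ x ∈ P ⊔ Q, x * y * x⁻¹ * y⁻¹ ∈ K := by
  have hinv : ∀ u v : G, u * v * u⁻¹ * v⁻¹ = (v * u * v⁻¹ * u⁻¹)⁻¹ := by intro u v; group
  intro x hx
  rw [hinv]
  apply Subgroup.inv_mem
  refine comm_mem_sup hPn hQn ?_ ?_ x hx
  · intro p hp
    rw [hinv]
    exact Subgroup.inv_mem _ (hP p hp)
  · intro q hq
    rw [hinv]
    exact Subgroup.inv_mem _ (hQ q hq)

/-- an element of `R = A ⊔ B ⊔ C` whose commutators with `A`, `B`, `C` lie in `ucs R n` lies in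
`ucs R (n+1)` -/
theorem mem_ucs_succ_of_gen {A B C : Subgroup G} {n : ℕ} {x : G} (hx : x ∈ A ⊔ B ⊔ C)
    (hA : ∀ a ∈ A, x * a * x⁻¹ * a⁻¹ ∈ ucs (A ⊔ B ⊔ C) n)
    (hB : ∀ b ∈ B, x * b * x⁻¹ * b⁻¹ ∈ ucs (A ⊔ B ⊔ C) n)
    (hC : ∀ c ∈ C, x * c * x⁻¹ * c⁻¹ ∈ ucs (A ⊔ B ⊔ C) n) :
    x ∈ ucs (A ⊔ B ⊔ C) (n + 1) := by
  rw [mem_ucs_succ]
  refine ⟨hx, ?_⟩
  have hn := ucs_normalized (A ⊔ B ⊔ C) n
  have hAn : A ≤ Subgroup.normalizer ((ucs (A ⊔ B ⊔ C) n : Subgroup G) : Set G) :=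
    (le_sup_left.trans le_sup_left).trans hn
  have hBn : B ≤ Subgroup.normalizer ((ucs (A ⊔ B ⊔ C) n : Subgroup G) : Set G) :=
    (le_sup_right.trans le_sup_left).trans hn
  have hCn : C ≤ Subgroup.normalizer ((ucs (A ⊔ B ⊔ C) n : Subgroup G) : Set G) :=
    le_sup_right.trans hn
  exact comm_mem_sup (sup_le hAn hBn) hCn (comm_mem_sup hAn hBn hA hB) hC

theorem ucs_mono (R : Subgroup G) {n m : ℕ} (h : n ≤ m) : ucs R n ≤ ucs R m :=
  Subgroup.map_mono (Subgroup.upperCentralSeries_mono _ h)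

end Cfsg.Agent.Lib.Helper86
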